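import Cfsg.Agent.FTRows.CyclicIntersect
import Cfsg.Agent.Kinf.SylowExercises
import Cfsg.Agent.ZStar.Final
import Cfsg.Prelude.Def_CaseTheorems
import Cfsg.Prelude.Def_SporadicB
import Cfsg.Prelude.Def_TwoFusion

/-!
# Central intersections of Sylow 2-subgroups of rank one: first consequences

A four-group containing a 2-central involution lies in only one Sylow 2-subgroup, so the 2-central
involutions of a Sylow 2-subgroup lie in its centre and its normalizer controls their fusion.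
-/

set_option autoImplicit false
set_option linter.unusedSectionVars false
set_option linter.style.haveILetI false

namespace CfsgLib.CentralRankOne

open Subgroup
open scoped Pointwise
open CfsgLib.FTRows.CyclicMeet (mem_of_normalizes isPGroup_zpowers)

universe u

/-- An intersection of two Sylow 2-subgroups containing a 2-central involution has rank one. -/
def Meets (G : Type u) [Group G] : Prop :=
  ∀ S T : Sylow 2 G, S ≠ T → ∀ z ∈ (S : Subgroup G) ⊓ (T : Subgroup G),
    Cfsg.IsTwoCentralInvolution z → Cfsg.PRankLE 2 1 ↥((S : Subgroup G) ⊓ (T : Subgroup G))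

/-- Two commuting involutions in a group of rank one are equal. -/
theorem eq_of_rank_one {D : Type*} [Group D] (h : Cfsg.PRankLE 2 1 D) {a b : D}
    (ha : a * a = 1) (hb : b * b = 1) (hc : a * b = b * a) (ha1 : a ≠ 1) (hb1 : b ≠ 1) : a = b := by
  classical
  by_contra hne
  have hai : a⁻¹ = a := inv_eq_of_mul_eq_one_right ha
  have hbi : b⁻¹ = b := inv_eq_of_mul_eq_one_right hb
  have h3 : a * (a * b) = b := by rw [← mul_assoc, ha, one_mul]
  have h4 : b * (a * b) = a := by rw [hc, ← mul_assoc, hb, one_mul]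
  let A : Subgroup D :=
    { carrier := {x | x = 1 ∨ x = a ∨ x = b ∨ x = a * b}
      one_mem' := Or.inl rfl
      mul_mem' := by
        rintro x y (rfl | rfl | rfl | rfl) (rfl | rfl | rfl | rfl) <;>
          simp [ha, hb, h3, h4, ← hc, mul_assoc]
      inv_mem' := by
        rintro x (rfl | rfl | rfl | rfl) <;> simp [hai, hbi, hc] }
  have hle := h A ⟨⟨fun x y => Subtype.ext (by
      obtain ⟨x, rfl | rfl | rfl | rfl⟩ := x <;> obtain ⟨y, rfl | rfl | rfl | rfl⟩ := y <;>
        simp [ha, hb, h3, h4, ← hc, mul_assoc])⟩⟩ (by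
    intro x hx
    rcases hx with rfl | rfl | rfl | rfl <;> simp [sq, ha, hb, h4, mul_assoc])
  have h3' : ({⟨1, Or.inl rfl⟩, ⟨a, Or.inr (Or.inl rfl)⟩, ⟨b, Or.inr (Or.inr (Or.inl rfl))⟩} :
      Finset A).card = 3 := by
    rw [Finset.card_insert_of_notMem, Finset.card_pair]
    · exact fun e => hne (congrArg Subtype.val e)
    · simp [Subtype.ext_iff, Ne.symm ha1, Ne.symm hb1]
  by_cases hA : Finite A
  · haveI := Fintype.ofFinite A
    rw [Nat.card_eq_fintype_card] at hle
    have := Finset.card_le_univ ({⟨1, Or.inl rfl⟩, ⟨a, Or.inr (Or.inl rfl)⟩,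
      ⟨b, Or.inr (Or.inr (Or.inl rfl))⟩} : Finset A)
    omega
  · exact hA (Set.Finite.to_subtype (s := (A : Set D))
      (Set.Finite.subset (Set.toFinite {1, a, b, a * b}) fun x (hx : x = 1 ∨ x = a ∨ x = b ∨ x = a * b) => by simpa using hx))

variable {G : Type u} [Group G]

theorem mul_self_of_order_two {z : G} (hz : orderOf z = 2) : z * z = 1 := by
  rw [← sq, ← hz, pow_orderOf_eq_one]

theorem ne_one_of_order_two {z : G} (hz : orderOf z = 2) : z ≠ 1 := by
  rintro rfl
  rw [orderOf_one] at hz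
  omega

theorem orderOf_two {x : G} (hx : x * x = 1) (hx1 : x ≠ 1) : orderOf x = 2 :=
  orderOf_eq_prime (by rw [sq, hx]) hx1

/-- A 2-central involution and a commuting involution lie in one Sylow 2-subgroup only. -/
theorem eq_of_pair (hM : Meets G) {S T : Sylow 2 G} {z y : G}
    (hz : Cfsg.IsTwoCentralInvolution z) (hy : y * y = 1) (hy1 : y ≠ 1) (hne : y ≠ z)
    (hc : z * y = y * z) (hzS : z ∈ (S : Subgroup G)) (hyS : y ∈ (S : Subgroup G))
    (hzT : z ∈ (T : Subgroup G)) (hyT : y ∈ (T : Subgroup G)) : S = T := by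
  by_contra h
  refine hne (congrArg Subtype.val (eq_of_rank_one (hM S T h z ⟨hzS, hzT⟩ hz)
    (a := ⟨y, hyS, hyT⟩) (b := ⟨z, hzS, hzT⟩) (Subtype.ext hy)
    (Subtype.ext (mul_self_of_order_two hz.1)) (Subtype.ext hc.symm)
    (fun e => hy1 (congrArg Subtype.val e))
    (fun e => ne_one_of_order_two hz.1 (congrArg Subtype.val e))))

/-- The involutions central in a Sylow 2-subgroup, with `1`. -/
def omegaCenter (S : Sylow 2 G) : Subgroup G where
  carrier := {x | x ∈ (S : Subgroup G) ∧ x * x = 1 ∧ ∀ s ∈ (S : Subgroup G), s * x = x * s}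
  one_mem' := ⟨one_mem _, one_mul 1, fun s _ => by rw [one_mul, mul_one]⟩
  mul_mem' := by
    rintro x y ⟨hxS, hx, hxc⟩ ⟨hyS, hy, hyc⟩
    refine ⟨mul_mem hxS hyS, ?_, fun s hs => ?_⟩
    · rw [show x * y * (x * y) = x * (y * x) * y by group, hxc y hyS, mul_assoc, mul_assoc, hy,
        mul_one, hx]
    · rw [← mul_assoc, hxc s hs, mul_assoc, hyc s hs, mul_assoc]
  inv_mem' := by
    rintro x ⟨hxS, hx, hxc⟩
    rw [inv_eq_of_mul_eq_one_right hx]
    exact ⟨hxS, hx, hxc⟩

variable {S : Sylow 2 G}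

theorem omegaCenter_le : omegaCenter S ≤ (S : Subgroup G) := fun _ h => h.1

theorem commute_omegaCenter {x : G} (hx : x ∈ omegaCenter S) {s : G} (hs : s ∈ (S : Subgroup G)) :
    s * x = x * s := hx.2.2 s hs

theorem twoCentral_of_mem {x : G} (hx : x ∈ omegaCenter S) (hx1 : x ≠ 1) :
    Cfsg.IsTwoCentralInvolution x :=
  ⟨orderOf_two hx.2.1 hx1, S, hx.1, hx.2.2⟩

theorem twoCentral_conj {z : G} (hz : Cfsg.IsTwoCentralInvolution z) (g : G) :
    Cfsg.IsTwoCentralInvolution (g * z * g⁻¹) := by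
  obtain ⟨ho, P, hzP, hc⟩ := hz
  refine ⟨?_, g • P, ?_, fun x hx => ?_⟩
  · rw [← ho]
    exact (MulAut.conj g).orderOf_eq z
  · show g * z * g⁻¹ ∈ ((g • P : Sylow 2 G) : Subgroup G)
    rw [Sylow.coe_subgroup_smul]
    exact ⟨z, hzP, rfl⟩
  · obtain ⟨w, hw, rfl⟩ := (show x ∈ MulAut.conj g • (P : Subgroup G) from
      Sylow.coe_subgroup_smul (g := g) (P := P) ▸ hx)
    show g * w * g⁻¹ * (g * z * g⁻¹) = g * z * g⁻¹ * (g * w * g⁻¹)
    calc g * w * g⁻¹ * (g * z * g⁻¹) = g * (w * z) * g⁻¹ := by group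
      _ = g * (z * w) * g⁻¹ := by rw [hc w hw]
      _ = g * z * g⁻¹ * (g * w * g⁻¹) := by group

variable [Finite G]

/-- A 2-element of the normalizer of `S` lies in `S`. -/
theorem invol_mem {x : G} (hx : x * x = 1) (hn : x ∈ normalizer ((S : Subgroup G) : Set G)) :
    x ∈ (S : Subgroup G) :=
  mem_of_normalizes S (isPGroup_zpowers (k := 1) (by rw [pow_one, sq, hx])) hn

theorem normalizer_conj_mem {n x : G} (hn : n ∈ normalizer ((S : Subgroup G) : Set G))
    (hx : x ∈ omegaCenter S) : n * x * n⁻¹ ∈ omegaCenter S := by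
  refine ⟨(mem_normalizer_iff.1 hn x).1 hx.1, ?_, fun s hs => ?_⟩
  · rw [show n * x * n⁻¹ * (n * x * n⁻¹) = n * (x * x) * n⁻¹ by group, hx.2.1, mul_one,
      mul_inv_cancel]
  · have h := hx.2.2 (n⁻¹ * s * n) (by
      have := (mem_normalizer_iff.1 (inv_mem hn) s).1 hs
      rwa [inv_inv] at this)
    calc s * (n * x * n⁻¹) = n * (n⁻¹ * s * n * x) * n⁻¹ := by group
      _ = n * (x * (n⁻¹ * s * n)) * n⁻¹ := by rw [h]
      _ = n * x * n⁻¹ * s := by group

/-- An involution in the centre of a nontrivial 2-group. -/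
theorem exists_omegaCenter {x : G} (hx : x ∈ (S : Subgroup G)) (hx1 : x ≠ 1) :
    ∃ t ∈ omegaCenter S, t ≠ 1 := by
  haveI : Fact (Nat.Prime 2) := ⟨Nat.prime_two⟩
  haveI : Nontrivial (S : Subgroup G) :=
    ⟨⟨⟨x, hx⟩, 1, fun e => hx1 (congrArg Subtype.val e)⟩⟩
  haveI := (IsPGroup.center_nontrivial (p := 2) S.2)
  obtain ⟨c, hc⟩ := exists_prime_orderOf_dvd_card' (G := center (S : Subgroup G)) 2 (by
    obtain ⟨n, hn0, hn⟩ := ((S.2.to_subgroup (center (S : Subgroup G))).nontrivial_iff_card).1 inferInstance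
    rw [hn]
    exact dvd_pow_self 2 (Nat.pos_iff_ne_zero.1 hn0))
  have hc2 : orderOf ((c : (S : Subgroup G)) : G) = 2 := by
    rw [Subgroup.orderOf_coe, Subgroup.orderOf_coe, hc]
  refine ⟨_, ⟨(c : (S : Subgroup G)).2, mul_self_of_order_two hc2, fun s hs => ?_⟩,
    ne_one_of_order_two hc2⟩
  exact congrArg Subtype.val (mem_center_iff.1 c.2 ⟨s, hs⟩)

/-- The 2-central involutions of `S` are central in `S`. -/
theorem mem_omegaCenter (hM : Meets G) {x : G} (hx : Cfsg.IsTwoCentralInvolution x)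
    (hxS : x ∈ (S : Subgroup G)) : x ∈ omegaCenter S := by
  haveI : Fact (Nat.Prime 2) := ⟨Nat.prime_two⟩
  have hx2 := mul_self_of_order_two hx.1
  refine ⟨hxS, hx2, ?_⟩
  obtain ⟨-, U, hxU, hUc⟩ := id hx
  obtain ⟨t, ht, ht1⟩ := exists_omegaCenter (S := S) hxS (ne_one_of_order_two hx.1)
  rcases eq_or_ne t x with rfl | htx
  · exact ht.2.2
  set C := centralizer ({x} : Set G) with hC
  have hUC : (U : Subgroup G) ≤ C := fun u hu => mem_centralizer_singleton_iff.2 (hUc u hu)
  obtain ⟨R, hR⟩ := (S.2.comap_subtype : IsPGroup 2 ((S : Subgroup G).subgroupOf C)).exists_le_sylow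
  obtain ⟨c, hc⟩ := MulAction.exists_smul_eq C (U.subtype hUC) R
  have hcx : (c : G) * x = x * c := mem_centralizer_singleton_iff.1 c.2
  have hmem : ∀ d ∈ (S : Subgroup G), d * x = x * d → d ∈ (((c : G) • U : Sylow 2 G) : Subgroup G) := by
    intro d hd hdx
    have h1 : (⟨d, mem_centralizer_singleton_iff.2 hdx⟩ : C) ∈ (R : Subgroup C) := hR hd
    rw [← hc, Sylow.coe_subgroup_smul, mem_pointwise_smul_iff_inv_smul_mem] at h1
    rw [Sylow.coe_subgroup_smul, mem_pointwise_smul_iff_inv_smul_mem]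
    exact h1
  have hSU : S = (c : G) • U := eq_of_pair hM hx ht.2.1 ht1 htx (commute_omegaCenter ht hxS)
    hxS ht.1 (hmem x hxS rfl) (hmem t ht.1 (commute_omegaCenter ht hxS).symm)
  intro s hs
  rw [hSU, Sylow.coe_subgroup_smul] at hs
  obtain ⟨w, hw, rfl⟩ := hs
  show (c : G) * w * (c : G)⁻¹ * x = x * ((c : G) * w * (c : G)⁻¹)
  have hci : (c : G)⁻¹ * x = x * (c : G)⁻¹ := (show Commute (c : G) x from hcx).inv_left.eq
  calc (c : G) * w * (c : G)⁻¹ * x = (c : G) * (w * x) * (c : G)⁻¹ := by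
        rw [mul_assoc _ (c : G)⁻¹ x, hci]; group
    _ = (c : G) * (x * w) * (c : G)⁻¹ := by rw [hUc w hw]
    _ = x * ((c : G) * w * (c : G)⁻¹) := by rw [← mul_assoc (c : G) x w, hcx]; group

/-- Conjugates in `S` of central involutions of `S` are central. -/
theorem conj_mem_omegaCenter (hM : Meets G) {x g : G} (hx : x ∈ omegaCenter S) (hx1 : x ≠ 1)
    (h : g * x * g⁻¹ ∈ (S : Subgroup G)) : g * x * g⁻¹ ∈ omegaCenter S :=
  mem_omegaCenter hM (twoCentral_conj (twoCentral_of_mem hx hx1) g) h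

/-- Burnside: the normalizer of `S` controls the fusion of its central involutions. -/
theorem exists_normalizer_mul (hM : Meets G) {x g : G} (hx : x ∈ omegaCenter S) (hx1 : x ≠ 1)
    (h : g * x * g⁻¹ ∈ (S : Subgroup G)) :
    ∃ n ∈ normalizer ((S : Subgroup G) : Set G), ∃ c : G, c * x = x * c ∧ g = n * c := by
  haveI : Fact (Nat.Prime 2) := ⟨Nat.prime_two⟩
  exact Kinf.burnside_central S (fun y hy => (commute_omegaCenter hx hy).symm)
    fun y hy => (commute_omegaCenter (conj_mem_omegaCenter hM hx hx1 h) hy).symm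

/-- If the centralizers of the nontrivial elements of `omegaCenter S` lie in `N(S)`, an element
moving one of them into `N(S)` lies in `N(S)`. -/
theorem mem_normalizer_of_conj (hM : Meets G) {x g : G} (hx : x ∈ omegaCenter S) (hx1 : x ≠ 1)
    (hC : centralizer ({x} : Set G) ≤ normalizer ((S : Subgroup G) : Set G))
    (h : g * x * g⁻¹ ∈ normalizer ((S : Subgroup G) : Set G)) :
    g ∈ normalizer ((S : Subgroup G) : Set G) := by
  have hS : g * x * g⁻¹ ∈ (S : Subgroup G) := invol_mem (by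
    rw [show g * x * g⁻¹ * (g * x * g⁻¹) = g * (x * x) * g⁻¹ by group, hx.2.1, mul_one,
      mul_inv_cancel]) h
  obtain ⟨n, hn, c, hc, rfl⟩ := exists_normalizer_mul hM hx hx1 hS
  exact mul_mem hn (hC (mem_centralizer_singleton_iff.2 hc))

/-- By Glauberman, an involution that is the only central one of its Sylow 2-subgroup is central
modulo the odd core. -/
theorem exists_second (hM : Meets G) {z : G} (hz : z ∈ omegaCenter S) (hz1 : z ≠ 1)
    (hni : ¬ ∃ N : Subgroup G, N.Normal ∧ Odd (Nat.card N) ∧ ∀ g : G, g * z * g⁻¹ * z⁻¹ ∈ N) :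
    ∃ y ∈ omegaCenter S, y ≠ 1 ∧ y ≠ z := by
  by_contra h
  push Not at h
  have hc := ZStar.zstar_of_sylow S (twoCentral_of_mem hz hz1).1 fun g hg =>
    h _ (conj_mem_omegaCenter hM hz hz1 hg) fun e => hz1 (by
      have h2 : g * z = g * 1 := by
        rw [mul_one]
        exact mul_inv_eq_one.1 e
      exact mul_left_cancel h2)
  obtain ⟨N, hN, hodd, hg⟩ := hc
  exact hni ⟨N, hN, hodd, fun g => by
    have h1 := inv_mem (hg g)
    rwa [show (z * g * z⁻¹ * g⁻¹)⁻¹ = g * z * g⁻¹ * z⁻¹ by group] at h1⟩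

end CfsgLib.CentralRankOne
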