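import Cfsg.Agent.CentralRankOne.Basic
import Cfsg.Agent.SmallCent.Dichotomy
import Cfsg.Agent.Criterion.Action.Rows
import Cfsg.Agent.Bender.StructureMain
import Cfsg.Agent.DGroup.Fusion

/-!
# The centralizer of a bad central involution

`z` is a central involution of `S` whose centralizer `C` is not contained in `N(S)`. With
`N₀` the core of `N_C(S)` in `C`, the group `Y = C / N₀` has a subgroup `K = ⟨x̄^Y⟩`, `x` another
central involution of `S`, which is one of the simple groups with a strongly embedded subgroup.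
-/

set_option autoImplicit false
set_option linter.unusedSectionVars false
set_option linter.style.haveILetI false

namespace CfsgLib.CentralRankOne

open Subgroup
open scoped Pointwise

universe u

variable {G : Type u} [Group G] [Finite G] {S : Sylow 2 G} {z : G}

/-- A central involution with centralizer outside the normalizer of `S`. -/
structure Bad (S : Sylow 2 G) (z : G) : Prop where
  meets : Meets G
  mem : z ∈ omegaCenter S
  ne : z ≠ 1
  bad : ¬ centralizer ({z} : Set G) ≤ normalizer ((S : Subgroup G) : Set G)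

variable (S z)

/-- `N_C(S)` inside `C = C(z)`. -/
def normS : Subgroup (centralizer ({z} : Set G)) :=
  (normalizer ((S : Subgroup G) : Set G)).subgroupOf _

/-- The quotient of `C(z)` by the core of `N_C(S)`. -/
abbrev Quot : Type u := centralizer ({z} : Set G) ⧸ (normS S z).normalCore

/-- The projection to the quotient. -/
abbrev proj : centralizer ({z} : Set G) →* Quot S z := QuotientGroup.mk' _

/-- The image of `N_C(S)`. -/
abbrev normQ : Subgroup (Quot S z) := (normS S z).map (proj S z)

variable {S z}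

theorem proj_mem {c : centralizer ({z} : Set G)} :
    proj S z c ∈ normQ S z ↔ (c : G) ∈ normalizer ((S : Subgroup G) : Set G) := by
  refine ⟨fun ⟨m, hm, h⟩ => ?_, fun h => ⟨c, h, rfl⟩⟩
  have h1 : m⁻¹ * c ∈ (normS S z).normalCore := QuotientGroup.eq.1 h
  simpa [normS, mem_subgroupOf] using mul_mem hm (normalCore_le _ h1)

theorem proj_surjective : Function.Surjective (proj S z) := QuotientGroup.mk'_surjective _

namespace Bad

variable (h : Bad S z)
include h

theorem two : z * z = 1 := h.mem.2.1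

theorem central2 : Cfsg.IsTwoCentralInvolution z := twoCentral_of_mem h.mem h.ne

theorem sylow_le : (S : Subgroup G) ≤ centralizer ({z} : Set G) :=
  fun _ hs => mem_centralizer_singleton_iff.2 (commute_omegaCenter h.mem hs)

theorem commute_z (c : centralizer ({z} : Set G)) : (c : G) * z = z * c :=
  mem_centralizer_singleton_iff.1 c.2

/-- An element of `C` moving an involution of `S` other than `z` into `N(S)` lies in `N(S)`. -/
theorem key {e c : G} (hc : c * z = z * c) (heS : e ∈ (S : Subgroup G)) (he : e * e = 1)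
    (he1 : e ≠ 1) (hez : e ≠ z) (hn : c * e * c⁻¹ ∈ normalizer ((S : Subgroup G) : Set G)) :
    c ∈ normalizer ((S : Subgroup G) : Set G) := by
  have he2 : c * e * c⁻¹ * (c * e * c⁻¹) = 1 := by
    rw [show c * e * c⁻¹ * (c * e * c⁻¹) = c * (e * e) * c⁻¹ by group, he, mul_one, mul_inv_cancel]
  have hS := invol_mem he2 hn
  have hcz : c * z * c⁻¹ = z := by rw [hc, mul_inv_cancel_right]
  refine Sylow.smul_eq_iff_mem_normalizer.1
    (eq_of_pair h.meets h.central2 he2 ?_ ?_ ?_ ?_ ?_ h.mem.1 hS)
  · exact fun e1 => he1 (mul_left_cancel ((mul_inv_eq_one.1 e1).trans (mul_one c).symm))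
  · exact fun e1 => hez (mul_left_cancel (mul_right_cancel (e1.trans hcz.symm)))
  · exact (commute_omegaCenter h.mem hS).symm
  · rw [Sylow.coe_subgroup_smul]
    exact ⟨z, h.mem.1, hcz⟩
  · rw [Sylow.coe_subgroup_smul]
    exact ⟨e, heS, rfl⟩

/-- The core of `N_C(S)` has no involution but `z`. -/
theorem core_invol {y : centralizer ({z} : Set G)} (hy : y ∈ (normS S z).normalCore)
    (hy2 : (y : G) * y = 1) : (y : G) = 1 ∨ (y : G) = z := by
  by_contra hne
  push Not at hne
  refine h.bad fun c hc => ?_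
  have h1 := (normalCore_normal (normS S z)).conj_mem y hy ⟨c, hc⟩
  exact h.key (mem_centralizer_singleton_iff.1 hc) (invol_mem hy2 (normalCore_le (normS S z) hy : _)) hy2 hne.1
    hne.2 (normalCore_le (normS S z) h1 : _)

theorem proj_ne_one {e : centralizer ({z} : Set G)} (he : (e : G) * e = 1) (he1 : (e : G) ≠ 1)
    (hez : (e : G) ≠ z) : proj S z e ≠ 1 := fun e1 =>
  (h.core_invol ((QuotientGroup.eq_one_iff e).1 e1) he).elim he1 hez

theorem proj_eq {e e' : centralizer ({z} : Set G)} (he : (e : G) * e = 1)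
    (he' : (e' : G) * e' = 1) (hc : (e : G) * e' = e' * e) (heq : proj S z e = proj S z e') :
    (e' : G) = e ∨ (e' : G) = e * z := by
  have h1 : (e⁻¹ * e' : centralizer ({z} : Set G)) ∈ (normS S z).normalCore := QuotientGroup.eq.1 heq
  have hei : ((e : G))⁻¹ = e := inv_eq_of_mul_eq_one_right he
  have h2 := h.core_invol h1 (by
    show (e : G)⁻¹ * e' * ((e : G)⁻¹ * e') = 1
    rw [hei, show (e : G) * e' * (e * e') = e * (e' * e) * e' by group, ← hc,
      show (e : G) * (e * e') * e' = (e * e) * (e' * e') by group, he, he', one_mul])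
  rcases h2 with h2 | h2
  · exact Or.inl (inv_mul_eq_one.1 h2).symm
  · exact Or.inr (by rw [← inv_mul_eq_iff_eq_mul]; exact h2)

/-- An element of `Y` moving the image of an involution of `S` other than `z` into `normQ` lies
in `normQ`. -/
theorem keyQ {e : centralizer ({z} : Set G)} (heS : (e : G) ∈ (S : Subgroup G))
    (he : (e : G) * e = 1) (he1 : (e : G) ≠ 1) (hez : (e : G) ≠ z) {g : Quot S z}
    (hg : g * proj S z e * g⁻¹ ∈ normQ S z) : g ∈ normQ S z := by
  obtain ⟨c, rfl⟩ := proj_surjective g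
  rw [← map_inv, ← map_mul, ← map_mul, proj_mem] at hg
  exact proj_mem.2 (h.key (h.commute_z c) heS he he1 hez hg)

theorem normQ_ne_top : normQ S z ≠ ⊤ := fun e =>
  h.bad fun c hc => proj_mem.1 (e ▸ mem_top (proj S z (⟨c, hc⟩ : centralizer ({z} : Set G))))

theorem normQ_core : (normQ S z).normalCore = ⊥ := by
  refine (eq_bot_iff_forall _).2 fun g hg => ?_
  obtain ⟨c, rfl⟩ := proj_surjective g
  refine (QuotientGroup.eq_one_iff c).2 fun b => ?_
  have := (normalCore_normal (normQ S z)).conj_mem _ hg (proj S z b)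
  rw [← map_inv, ← map_mul, ← map_mul] at this
  exact proj_mem.1 (normalCore_le _ this)

/-- The Sylow subgroup `S` seen in `C(z)`. -/
noncomputable def sylowC : Sylow 2 (centralizer ({z} : Set G)) := S.subtype h.sylow_le

theorem mem_sylowC {c : centralizer ({z} : Set G)} : c ∈ (h.sylowC : Subgroup _) ↔ (c : G) ∈ (S : Subgroup G) := by
  rw [sylowC, Sylow.coe_subtype, mem_subgroupOf]

/-- The image of `S` in the quotient. -/
noncomputable def sylowQ : Sylow 2 (Quot S z) := h.sylowC.mapSurjective proj_surjective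

theorem mem_sylowQ {g : Quot S z} :
    g ∈ (h.sylowQ : Subgroup _) ↔ ∃ c : centralizer ({z} : Set G), (c : G) ∈ (S : Subgroup G) ∧ proj S z c = g := by
  rw [sylowQ, Sylow.coe_mapSurjective, mem_map]
  exact ⟨fun ⟨c, hc, e⟩ => ⟨c, h.mem_sylowC.1 hc, e⟩, fun ⟨c, hc, e⟩ => ⟨c, h.mem_sylowC.2 hc, e⟩⟩

theorem sylowQ_le : (h.sylowQ : Subgroup (Quot S z)) ≤ normQ S z := fun g hg => by
  obtain ⟨c, hc, rfl⟩ := h.mem_sylowQ.1 hg
  exact proj_mem.2 (le_normalizer hc)

/-- The element of `C` given by an element of `omegaCenter S`. -/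
def lift {x : G} (hx : x ∈ omegaCenter S) : centralizer ({z} : Set G) := ⟨x, h.sylow_le hx.1⟩

theorem proj_lift_central {x : G} (hx : x ∈ omegaCenter S) {g : Quot S z}
    (hg : g ∈ (h.sylowQ : Subgroup _)) : g * proj S z (h.lift hx) = proj S z (h.lift hx) * g := by
  obtain ⟨c, hc, rfl⟩ := h.mem_sylowQ.1 hg
  rw [← map_mul, ← map_mul]
  exact congrArg _ (Subtype.ext (commute_omegaCenter hx hc))

theorem proj_lift_two {x : G} (hx : x ∈ omegaCenter S) :
    proj S z (h.lift hx) * proj S z (h.lift hx) = 1 := by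
  rw [← map_mul, show h.lift hx * h.lift hx = 1 from Subtype.ext hx.2.1, map_one]

/-- The images of central involutions are conjugate only inside `normQ`. -/
theorem isolated_or {x : G} (hx : x ∈ omegaCenter S) (hx1 : x ≠ 1) (hxz : x ≠ z) (g : Quot S z)
    (hc : Commute (proj S z (h.lift hx)) (g * proj S z (h.lift hx) * g⁻¹)) :
    g ∈ normQ S z ∧ ∃ y, ∃ hy : y ∈ omegaCenter S,
      g * proj S z (h.lift hx) * g⁻¹ = proj S z (h.lift hy) := by
  set xb := proj S z (h.lift hx)
  have hcent : ∀ d : Quot S z, Commute d xb → d ∈ normQ S z := fun d hd => by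
    refine h.keyQ (e := h.lift hx) hx.1 hx.2.1 hx1 hxz (g := d) ?_
    show d * xb * d⁻¹ ∈ _
    rw [hd.eq, mul_inv_cancel_right]
    exact proj_mem.2 (le_normalizer hx.1)
  have hg := h.keyQ (e := h.lift hx) hx.1 hx.2.1 hx1 hxz (hcent _ hc.symm)
  refine ⟨hg, ?_⟩
  obtain ⟨c, rfl⟩ := proj_surjective g
  refine ⟨_, normalizer_conj_mem (proj_mem.1 hg) hx, ?_⟩
  show proj S z c * proj S z (h.lift hx) * (proj S z c)⁻¹ = _
  rw [← map_inv, ← map_mul, ← map_mul]
  rfl

/-- Two commuting involutions of `S` generating a four-group avoiding `z` kill the odd core. -/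
theorem oddCore_eq_bot_of_pair {a b : G} (haS : a ∈ (S : Subgroup G)) (hbS : b ∈ (S : Subgroup G))
    (ha : a * a = 1) (hb : b * b = 1) (hc : a * b = b * a) (ha1 : a ≠ 1) (hb1 : b ≠ 1)
    (haz : a ≠ z) (hbz : b ≠ z) (hab : a ≠ b) (habz : a * b ≠ z) : Cfsg.oddCore (Quot S z) = ⊥ := by
  have hsub : ∀ (w : G) (hwS : w ∈ (S : Subgroup G)), w * w = 1 → w ≠ 1 → w ≠ z →
      ∀ d : Quot S z, d * proj S z ⟨w, h.sylow_le hwS⟩ = proj S z ⟨w, h.sylow_le hwS⟩ * d →
        d ∈ normQ S z := fun w hwS hw hw1 hwz d hd => by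
    refine h.keyQ (e := ⟨w, h.sylow_le hwS⟩) hwS hw hw1 hwz (g := d) ?_
    rw [hd, mul_inv_cancel_right]
    exact proj_mem.2 (le_normalizer hwS)
  set ea : centralizer ({z} : Set G) := ⟨a, h.sylow_le haS⟩
  set eb : centralizer ({z} : Set G) := ⟨b, h.sylow_le hbS⟩
  have hab2 : a * b * (a * b) = 1 := by
    rw [show a * b * (a * b) = a * (b * a) * b by group, ← hc,
      show a * (a * b) * b = (a * a) * (b * b) by group, ha, hb, one_mul]
  have hab1 : a * b ≠ 1 := fun e => hab ((eq_inv_of_mul_eq_one_left e).trans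
    (inv_eq_of_mul_eq_one_right hb))
  have hle : Cfsg.oddCore (Quot S z) ≤ normQ S z := by
    refine SmallCent.le_of_centralizers (u := proj S z ea) (v := proj S z eb) ?_ ?_ ?_
      (h.proj_ne_one ha ha1 haz) (h.proj_ne_one hb hb1 hbz) ?_ (DGroup.odd_oddCore _) ?_ ?_ ?_ ?_ ?_ ?_ ?_
    · rw [← map_mul, show ea * ea = 1 from Subtype.ext ha, map_one]
    · rw [← map_mul, show eb * eb = 1 from Subtype.ext hb, map_one]
    · rw [← map_mul, ← map_mul]
      exact congrArg _ (Subtype.ext hc)
    · intro e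
      rcases h.proj_eq (e := ea) (e' := eb) ha hb hc e with e1 | e1
      · exact hab e1.symm
      · have e2 : b = a * z := e1
        exact habz (by rw [e2, ← mul_assoc, ha, one_mul])
    · exact fun d hd => (inferInstance : (Cfsg.oddCore (Quot S z)).Normal).conj_mem d hd _
    · exact fun d hd => (inferInstance : (Cfsg.oddCore (Quot S z)).Normal).conj_mem d hd _
    · exact fun d hd => mul_mem (mul_mem (proj_mem.2 (le_normalizer haS)) hd)
        (inv_mem (proj_mem.2 (le_normalizer haS)))
    · exact fun d hd => mul_mem (mul_mem (proj_mem.2 (le_normalizer hbS)) hd)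
        (inv_mem (proj_mem.2 (le_normalizer hbS)))
    · exact fun d _ hd => hsub a haS ha ha1 haz d hd
    · exact fun d _ hd => hsub b hbS hb hb1 hbz d hd
    · intro d _ hd
      refine hsub (a * b) (mul_mem haS hbS) hab2 hab1 habz d ?_
      rw [show (⟨a * b, h.sylow_le (mul_mem haS hbS)⟩ : centralizer ({z} : Set G)) = ea * eb from rfl,
        map_mul]
      exact hd
  refine le_bot_iff.1 (h.normQ_core ▸ ?_)
  exact normal_le_normalCore.2 hle

/-- If `omegaCenter S` has only two cosets of `⟨z⟩`, the odd core of `Y` is nontrivial. -/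
theorem exists_third {x : G} (hx : x ∈ omegaCenter S) (hx1 : x ≠ 1) (hxz : x ≠ z)
    (hO : Cfsg.oddCore (Quot S z) = ⊥) :
    ∃ y ∈ omegaCenter S, y ≠ 1 ∧ y ≠ z ∧ y ≠ x ∧ y ≠ x * z := by
  by_contra hno
  push Not at hno
  set xb := proj S z (h.lift hx) with hxb
  have hne : xb ≠ 1 := h.proj_ne_one (e := h.lift hx) hx.2.1 hx1 hxz
  have hiso : Cfsg.IsIsolatedInvolution xb := by
    refine ⟨orderOf_two (h.proj_lift_two hx) hne, fun g hg => ?_⟩
    obtain ⟨-, y, hy, e⟩ := h.isolated_or hx hx1 hxz g hg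
    have hne' : g * xb * g⁻¹ ≠ 1 := fun e1 =>
      hne (mul_left_cancel ((mul_inv_eq_one.1 e1).trans (mul_one g).symm))
    rw [e] at hne' ⊢
    have hy1 : y ≠ 1 := fun e1 => hne' (by
      rw [show h.lift hy = 1 from Subtype.ext e1, map_one])
    have hyz : y ≠ z := fun e1 => hne' ((QuotientGroup.eq_one_iff _).2 (by
      intro b
      show _ ∈ normalizer ((S : Subgroup G) : Set G)
      have e2 : ((b * h.lift hy * b⁻¹ : centralizer ({z} : Set G)) : G) = z := by
        show (b : G) * y * (b : G)⁻¹ = z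
        rw [e1, h.commute_z b, mul_inv_cancel_right]
      rw [coe_subtype, e2]
      exact le_normalizer h.mem.1))
    by_cases hyx : y = x
    · exact congrArg _ (Subtype.ext hyx)
    · have e3 := hno y hy hy1 hyz hyx
      refine (QuotientGroup.eq.2 ?_).symm
      intro b
      show _ ∈ normalizer ((S : Subgroup G) : Set G)
      have e2 : ((b * ((h.lift hx)⁻¹ * h.lift hy) * b⁻¹ : centralizer ({z} : Set G)) : G) = z := by
        show (b : G) * (x⁻¹ * y) * (b : G)⁻¹ = z
        rw [e3, inv_mul_cancel_left, h.commute_z b, mul_inv_cancel_right]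
      rw [coe_subtype, e2]
      exact le_normalizer h.mem.1
  obtain ⟨N, hN, hodd, hc⟩ := ZStar.zstar hiso
  have hN1 : N = ⊥ := le_bot_iff.1 (hO ▸ DGroup.le_oddCore hN hodd)
  refine h.normQ_ne_top (eq_top_iff.2 fun g _ => h.keyQ (e := h.lift hx) hx.1 hx.2.1 hx1 hxz ?_)
  have h1 := hc g
  rw [hN1, mem_bot, mul_inv_eq_one, mul_inv_eq_iff_eq_mul] at h1
  show g * xb * g⁻¹ ∈ _
  rw [← h1, mul_inv_cancel_right]
  exact proj_mem.2 (le_normalizer hx.1)

end Bad

end CfsgLib.CentralRankOne
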