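import Mathlib

/-!
# A 2-group which is modulo a rank-one kernel of type `U₃(4)`

Such a group with eight central involutions has no automorphism group transitive on them.
-/

set_option autoImplicit false
set_option linter.unusedSectionVars false
set_option linter.style.haveILetI false

namespace CfsgLib.CentralRankOne

open Subgroup

universe u v

/-- The data of the unitary case inside a Sylow 2-subgroup `T`. -/
structure UEnd {T : Type u} [Group T] {Y : Type v} [Group Y] (W : Subgroup T) (z : T)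
    (π : T →* Y) (α : MulAut T) : Prop where
  exp : ∀ w ∈ W, w * w = 1
  central : ∀ w ∈ W, ∀ x : T, x * w = w * x
  z_mem : z ∈ W
  z_ne : z ≠ 1
  pi_z : π z = 1
  ker_invol : ∀ t : T, π t = 1 → t * t = 1 → t = 1 ∨ t = z
  img_card : Nat.card (W.map π) = 4
  sq : ∀ x : T, π x * π x ∈ W.map π
  comm : ∀ x y : T, π (x * y * x⁻¹ * y⁻¹) ∈ W.map π
  invol : ∀ x : T, π x * π x = 1 → π x ∈ W.map π
  fix_W : ∀ w ∈ W, α w = w
  fix_ker : ∀ t : T, π t = 1 → α t = t
  pow_five : ∀ x : T, π (α (α (α (α (α x))))) = π x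
  fpf : ∀ x : T, π (x⁻¹ * α x) ∈ W.map π → π x ∈ W.map π
  irred : ∀ K : Subgroup T, (∀ x, π x ∈ W.map π → x ∈ K) → (∀ k ∈ K, α k ∈ K) →
    (∃ k ∈ K, π k ∉ W.map π) → K = ⊤
  big : ∀ a b : T, ∃ y : T, π y ∉ W.map π ∧ π (a⁻¹ * y) ∉ W.map π ∧ π (b⁻¹ * y) ∉ W.map π ∧
    π ((a * b)⁻¹ * y) ∉ W.map π
  trans : ∀ w ∈ W, w ≠ 1 → ∃ β : MulAut T, β z = w

namespace UEnd

/-- The commutator. -/
def cm {T : Type u} [Group T] (x y : T) : T := x * y * x⁻¹ * y⁻¹

variable {T : Type u} [Group T] {Y : Type v} [Group Y] {W : Subgroup T} {z : T} {π : T →* Y}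
  {α : MulAut T}

theorem commute_iff_cm {x y : T} : cm x y = 1 ↔ x * y = y * x := by
  unfold cm
  rw [mul_inv_eq_one, mul_inv_eq_iff_eq_mul]

variable (h : UEnd W z π α)
include h

/-- An element of the preimage of the image of `W` is a product. -/
theorem split {r : T} (hr : π r ∈ W.map π) : ∃ v ∈ W, ∃ t : T, π t = 1 ∧ r = v * t := by
  obtain ⟨v, hv, e⟩ := hr
  exact ⟨v, hv, v⁻¹ * r, by rw [map_mul, map_inv, e, inv_mul_cancel], by rw [mul_inv_cancel_left]⟩

omit h in
/-- The elements centralizing the kernel. -/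
def P (π : T →* Y) : Subgroup T := centralizer {t : T | π t = 1}

omit h in
theorem mem_P {p : T} : p ∈ P π ↔ ∀ t : T, π t = 1 → t * p = p * t := mem_centralizer_iff

theorem W_le_P {w : T} (hw : w ∈ W) : w ∈ P π := mem_P.2 fun t _ => h.central w hw t

theorem alpha_fix {r : T} (hr : π r ∈ W.map π) : α r = r := by
  obtain ⟨v, hv, t, ht, rfl⟩ := h.split hr
  rw [map_mul, h.fix_W v hv, h.fix_ker t ht]

theorem alpha_mem_P {p : T} (hp : p ∈ P π) : α p ∈ P π := mem_P.2 fun t ht => by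
  have h1 := congrArg α (mem_P.1 hp t ht)
  rwa [map_mul, map_mul, h.fix_ker t ht] at h1

theorem inv_mul_alpha_mem_P (x : T) : x⁻¹ * α x ∈ P π := mem_P.2 fun t ht => by
  have hk : π (x * t * x⁻¹) = 1 := by rw [map_mul, map_mul, map_inv, ht, mul_one, mul_inv_cancel]
  have h1 := h.fix_ker _ hk
  rw [map_mul, map_mul, map_inv, h.fix_ker t ht] at h1
  calc t * (x⁻¹ * α x) = x⁻¹ * (x * t * x⁻¹) * α x := by group
    _ = x⁻¹ * (α x * t * (α x)⁻¹) * α x := by rw [h1]
    _ = x⁻¹ * α x * t := by group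

theorem commute_P {r p : T} (hr : π r ∈ W.map π) (hp : p ∈ P π) : r * p = p * r := by
  obtain ⟨v, hv, t, ht, rfl⟩ := h.split hr
  rw [mul_assoc, mem_P.1 hp t ht, ← mul_assoc, ← h.central v hv p, mul_assoc]

theorem img_cm (x y : T) : π (cm x y) ∈ W.map π := h.comm x y

theorem full {K : Subgroup T} (hKP : K ≤ P π) (hK : ∀ k ∈ K, α k ∈ K)
    (hR : ∀ r ∈ P π, π r ∈ W.map π → r ∈ K) {k : T} (hk : k ∈ K) (hkR : π k ∉ W.map π) :
    ∀ x : T, ∃ k ∈ K, π (k⁻¹ * x) ∈ W.map π := by
  let K' : Subgroup T :=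
    { carrier := {x | ∃ k ∈ K, π (k⁻¹ * x) ∈ W.map π}
      one_mem' := ⟨1, one_mem K, by simp⟩
      mul_mem' := by
        rintro a b ⟨ka, hka, ha⟩ ⟨kb, hkb, hb⟩
        refine ⟨ka * kb, mul_mem hka hkb, ?_⟩
        rw [show (ka * kb)⁻¹ * (a * b) = kb⁻¹ * (ka⁻¹ * a) * b by group,
          show kb⁻¹ * (ka⁻¹ * a) * b = kb⁻¹ * (ka⁻¹ * a * kb) * (kb⁻¹ * b) by group,
          h.commute_P ha (hKP hkb), inv_mul_cancel_left, map_mul]
        exact mul_mem ha hb
      inv_mem' := by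
        rintro a ⟨ka, hka, ha⟩
        refine ⟨ka⁻¹, inv_mem hka, ?_⟩
        rw [show ka⁻¹⁻¹ * a⁻¹ = ka * (ka⁻¹ * a)⁻¹ * ka⁻¹ by group]
        have hi : π (ka⁻¹ * a)⁻¹ ∈ W.map π := by rw [map_inv]; exact inv_mem ha
        rw [← h.commute_P hi (hKP hka), mul_inv_cancel_right]
        exact hi }
  have htop : K' = ⊤ := h.irred K' (fun x hx => ⟨1, one_mem K, by simpa using hx⟩)
    (fun x ⟨k', hk', hx⟩ => ⟨α k', hK k' hk', by
      have h1 := h.alpha_fix hx
      rw [map_mul, map_inv] at h1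
      rwa [h1]⟩)
    ⟨k, ⟨k, hk, by simp⟩, hkR⟩
  exact fun x => (htop ▸ mem_top x : x ∈ K')

theorem exists_not_mem : ∃ x : T, π x ∉ W.map π := by
  obtain ⟨y, hy, -⟩ := h.big 1 1
  exact ⟨y, hy⟩

theorem exists_P (x : T) : ∃ p ∈ P π, ∃ t : T, π t = 1 ∧ x = p * t := by
  obtain ⟨y, hy⟩ := h.exists_not_mem
  obtain ⟨k, hk, hkx⟩ := h.full (K := P π) le_rfl (fun _ hp => h.alpha_mem_P hp) (fun _ hr _ => hr)
    (h.inv_mul_alpha_mem_P y) (fun e => hy (h.fpf y e)) x
  obtain ⟨v, hv, t, ht, e⟩ := h.split hkx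
  exact ⟨k * v, mul_mem hk (h.W_le_P hv), t, ht, by
    rw [mul_assoc, ← e, mul_inv_cancel_left]⟩

theorem exists_P_not_mem : ∃ p ∈ P π, π p ∉ W.map π := by
  obtain ⟨y, hy⟩ := h.exists_not_mem
  exact ⟨_, h.inv_mul_alpha_mem_P y, fun e => hy (h.fpf y e)⟩

theorem alpha_img {p : T} : π (α p) ∈ W.map π ↔ π p ∈ W.map π := by
  refine ⟨fun hp => h.fpf p ?_, fun hp => by rwa [h.alpha_fix hp]⟩
  have h1 : α (α p) = α p := h.alpha_fix hp
  rw [α.injective h1, inv_mul_cancel, map_one]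
  exact one_mem _

theorem cm_mul_left {a b y : T} (ha : a ∈ P π) : cm (a * b) y = cm a y * cm b y := by
  have h1 := h.commute_P (h.img_cm b y) ha
  calc cm (a * b) y = a * cm b y * y * a⁻¹ * y⁻¹ := by unfold cm; group
    _ = cm b y * (a * y * a⁻¹ * y⁻¹) := by rw [← h1]; group
    _ = cm a y * cm b y := by
      by_cases hy : y ∈ P π
      · exact h.commute_P (h.img_cm b y) (mul_mem (mul_mem (mul_mem ha hy) (inv_mem ha)) (inv_mem hy))
      · have h2 : cm a y ∈ P π := mem_P.2 fun t ht => by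
          obtain ⟨v, hv, s, hs, e⟩ := h.split (h.img_cm a y)
          rw [e]
          have hyt : π (y * t * y⁻¹) = 1 := by rw [map_mul, map_mul, map_inv, ht, mul_one, mul_inv_cancel]
          have hyt' : π (y⁻¹ * t * y) = 1 := by rw [map_mul, map_mul, map_inv, ht, mul_one, inv_mul_cancel]
          have h3 : a * y * a⁻¹ * y⁻¹ * t = t * (a * y * a⁻¹ * y⁻¹) := by
            have ea : ∀ s : T, π s = 1 → a * s * a⁻¹ = s := fun s hs => by
              rw [← mem_P.1 ha s hs, mul_inv_cancel_right]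
            calc a * y * a⁻¹ * y⁻¹ * t = a * y * (a⁻¹ * (y⁻¹ * t * y)) * y⁻¹ := by group
              _ = a * y * ((y⁻¹ * t * y) * a⁻¹) * y⁻¹ := by
                rw [(show Commute (y⁻¹ * t * y) a from mem_P.1 ha _ hyt').inv_right.eq]
              _ = (a * t * a⁻¹) * (a * y * a⁻¹ * y⁻¹) := by group
              _ = t * (a * y * a⁻¹ * y⁻¹) := by rw [ea t ht]
          rw [← e]
          exact h3.symm
        exact h.commute_P (h.img_cm b y) h2

theorem cm_mul_right {x a b : T} (ha : a ∈ P π) : cm x (a * b) = cm x a * cm x b := by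
  have h1 := h.commute_P (h.img_cm x b) ha
  calc cm x (a * b) = cm x a * (a * cm x b * a⁻¹) := by unfold cm; group
    _ = cm x a * cm x b := by rw [← h1, mul_inv_cancel_right]

theorem cm_kernel_eq_one {p r : T} (hp : p ∈ P π) (hr : π r ∈ W.map π) : cm r p = 1 :=
  commute_iff_cm.2 (h.commute_P hr hp)

theorem cm_inv_left {a y : T} (ha : a ∈ P π) : cm a⁻¹ y = (cm a y)⁻¹ := by
  refine eq_inv_of_mul_eq_one_left ?_
  rw [← h.cm_mul_left (inv_mem ha), inv_mul_cancel]
  unfold cm; group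

theorem cm_inv_right {x a : T} (ha : a ∈ P π) : cm x a⁻¹ = (cm x a)⁻¹ := by
  refine eq_inv_of_mul_eq_one_left ?_
  rw [← h.cm_mul_right (inv_mem ha), inv_mul_cancel]
  unfold cm; group

theorem cm_mem_W {p q : T} (hp : p ∈ P π) (hq : q ∈ P π) : cm p q ∈ W := by
  have hsq : cm p q * cm p q = 1 := by
    rw [← h.cm_mul_left hp, h.cm_kernel_eq_one hq (by rw [map_mul]; exact h.sq p)]
  obtain ⟨v, hv, t, ht, e⟩ := h.split (h.img_cm p q)
  have ht2 : t * t = 1 := by
    rw [e, show v * t * (v * t) = v * (t * v) * t by group, h.central v hv t, ← mul_assoc v v,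
      h.exp v hv, one_mul] at hsq
    exact hsq
  rw [e]
  rcases h.ker_invol t ht ht2 with rfl | rfl
  · rwa [mul_one]
  · exact mul_mem hv h.z_mem

theorem cm_congr_left {p p' q : T} (hp : p ∈ P π) (hq : q ∈ P π) (he : π p = π p') :
    cm p' q = cm p q := by
  have hr : π (p⁻¹ * p') ∈ W.map π := by rw [map_mul, map_inv, he, inv_mul_cancel]; exact one_mem _
  calc cm p' q = cm (p * (p⁻¹ * p')) q := by rw [mul_inv_cancel_left]
    _ = cm p q * cm (p⁻¹ * p') q := h.cm_mul_left hp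
    _ = cm p q := by rw [h.cm_kernel_eq_one hq hr, mul_one]

theorem cm_congr_right {p q q' : T} (hp : p ∈ P π) (hq : q ∈ P π) (he : π q = π q') :
    cm p q' = cm p q := by
  have hr : π (q⁻¹ * q') ∈ W.map π := by rw [map_mul, map_inv, he, inv_mul_cancel]; exact one_mem _
  calc cm p q' = cm p (q * (q⁻¹ * q')) := by rw [mul_inv_cancel_left]
    _ = cm p q * cm p (q⁻¹ * q') := h.cm_mul_right hq
    _ = cm p q := by rw [commute_iff_cm.2 (h.commute_P hr hp).symm, mul_one]

theorem cm_alpha {p q : T} (hp : p ∈ P π) (hq : q ∈ P π) : cm (α p) (α q) = cm p q := by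
  rw [show cm (α p) (α q) = α (cm p q) by simp [cm]]
  exact h.fix_W _ (h.cm_mem_W hp hq)

/-- A group containing all commutators maps onto the image of `W`. -/
theorem squares {V : Subgroup T} (hVW : V ≤ W) (hV : ∀ p ∈ P π, ∀ q ∈ P π, cm p q ∈ V) :
    V.map π = W.map π := by
  classical
  by_contra hne
  haveI : Finite (W.map π) := Nat.finite_of_card_ne_zero (by rw [h.img_card]; norm_num)
  haveI : Finite (V.map π) := Finite.of_injective _ (inclusion_injective (map_mono hVW))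
  have hcard : Nat.card (V.map π) ≤ 2 := by
    have hd := card_dvd_of_le (map_mono (f := π) hVW)
    rw [h.img_card] at hd
    have hle := Nat.le_of_dvd (by norm_num) hd
    have h3 : Nat.card (V.map π) ≠ 3 := fun e => by rw [e] at hd; norm_num at hd
    have h4 : Nat.card (V.map π) ≠ 4 := fun e => hne (eq_of_le_of_card_ge (map_mono hVW) (by
      rw [h.img_card, e]))
    omega
  have hV2 : ∀ a ∈ V.map π, ∀ b ∈ V.map π, a ≠ 1 → b ≠ 1 → a = b := by
    intro a ha b hb ha1 hb1
    by_contra hab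
    have h3 : ({1, ⟨a, ha⟩, ⟨b, hb⟩} : Finset (V.map π)).card = 3 := by
      rw [Finset.card_insert_of_notMem, Finset.card_pair]
      · exact fun e => hab (congrArg Subtype.val e)
      · simp [Subtype.ext_iff, Ne.symm ha1, Ne.symm hb1]
    haveI := Fintype.ofFinite (V.map π)
    rw [Nat.card_eq_fintype_card] at hcard
    have := Finset.card_le_univ ({1, ⟨a, ha⟩, ⟨b, hb⟩} : Finset (V.map π))
    omega
  have hcomm : ∀ a ∈ P π, ∀ b ∈ P π, π (cm a b) ∈ V.map π := fun a ha b hb => ⟨_, hV a ha b hb, rfl⟩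
  have hWc : ∀ a ∈ W.map π, ∀ x : T, π x * a = a * π x := by
    rintro _ ⟨w, hw, rfl⟩ x
    rw [← map_mul, ← map_mul, h.central w hw x]
  let K : Subgroup T :=
    { carrier := {p | p ∈ P π ∧ π p * π p ∈ V.map π}
      one_mem' := ⟨one_mem _, by rw [map_one, one_mul]; exact one_mem _⟩
      mul_mem' := by
        rintro a b ⟨ha, ha2⟩ ⟨hb, hb2⟩
        refine ⟨mul_mem ha hb, ?_⟩
        have e : π (a * b) * π (a * b) = π a * π a * (π (cm a⁻¹ b) * (π b * π b)) := by
          simp only [cm, map_mul, map_inv]; group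
        rw [e]
        exact mul_mem ha2 (mul_mem (hcomm _ (inv_mem ha) _ hb) hb2)
      inv_mem' := by
        rintro a ⟨ha, ha2⟩
        refine ⟨inv_mem ha, ?_⟩
        rw [map_inv, ← mul_inv_rev]
        exact inv_mem ha2 }
  have hsqfix : ∀ a : T, π (α a) * π (α a) = π a * π a := fun a => by
    have h1 := h.alpha_fix (r := a * a) (by rw [map_mul]; exact h.sq a)
    rw [map_mul] at h1
    rw [← map_mul π (α a), ← map_mul π a, h1]
  obtain ⟨p, hp, hpR⟩ := h.exists_P_not_mem
  have hKfull := h.full (K := K) (fun a ha => ha.1)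
    (fun a ha => ⟨h.alpha_mem_P ha.1, by rw [hsqfix]; exact ha.2⟩)
    (fun r hr hrW => ⟨hr, by
      obtain ⟨v, hv, e⟩ := hrW
      rw [← e, ← map_mul, h.exp v hv, map_one]
      exact one_mem _⟩)
    (k := p⁻¹ * α p) ⟨mul_mem (inv_mem hp) (h.alpha_mem_P hp), by
      have e : π (p⁻¹ * α p) * π (p⁻¹ * α p) = (π p * π p)⁻¹ * (π (cm p (α p)) * (π (α p) * π (α p))) := by
        simp only [cm, map_mul, map_inv]; group
      rw [e, hsqfix]
      have hc : π (cm p (α p)) ∈ V.map π := hcomm _ hp _ (h.alpha_mem_P hp)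
      obtain ⟨w, hw, hwe⟩ := h.sq p
      have : (π p * π p)⁻¹ * (π (cm p (α p)) * (π p * π p)) = π (cm p (α p)) := by
        rw [show π (cm p (α p)) * (π p * π p) = π p * π p * π (cm p (α p)) by
          rw [← hwe, ← map_mul, ← map_mul]
          exact congrArg π (h.central w hw _), inv_mul_cancel_left]
      rwa [this]⟩
    (fun e => hpR (h.fpf p e))
  have hall : ∀ x : T, π x * π x ∈ V.map π := fun x => by
    obtain ⟨k, hk, hkx⟩ := hKfull x
    obtain ⟨v, hv, t, ht, e⟩ := h.split hkx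
    have h1 : π x = π k * π v := by
      rw [← mul_inv_cancel_left k x, e, map_mul, map_mul, ht, mul_one]
    rw [h1, show π k * π v * (π k * π v) = π k * (π v * π k) * π v by group,
      ← hWc _ ⟨v, hv, rfl⟩ k, show π k * (π k * π v) * π v = π k * π k * (π v * π v) by group,
      ← map_mul π v v, h.exp v hv, map_one, mul_one]
    exact hk.2
  have hne1 : ∀ x : T, π x ∉ W.map π → π x * π x ≠ 1 := fun x hx e => hx (h.invol x e)
  have hpair : ∀ x y : T, π x ∉ W.map π → π y ∉ W.map π → π (x⁻¹ * y) ∉ W.map π →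
      π (cm y x) = π x * π x := by
    intro x y hx hy hxy
    have hxy' : π (x * y) ∉ W.map π := fun e => hxy (by
      rw [show x⁻¹ * y = (x * x)⁻¹ * (x * y) by group, map_mul, map_inv]
      exact mul_mem (inv_mem (by rw [map_mul]; exact h.sq x)) e)
    have e1 := hV2 _ (hall x) _ (hall y) (hne1 x hx) (hne1 y hy)
    have e2 := hV2 _ (hall x) _ (hall (x * y)) (hne1 x hx) (hne1 _ hxy')
    set s := π x * π x with hs
    have hss : s * s = 1 := by
      obtain ⟨w, hw, e⟩ := h.sq x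
      rw [hs, ← e, ← map_mul, h.exp w hw, map_one]
    have hc : π (cm x y) = π (x * y) * π (x * y) * (π y * π y)⁻¹ * (π x * π x)⁻¹ := by
      have hyy := hWc _ (h.sq y) x⁻¹
      rw [map_inv] at hyy
      calc π (cm x y) = π x * π y * (π x)⁻¹ * (π y)⁻¹ := by simp only [cm, map_mul, map_inv]
        _ = π x * π y * (π x)⁻¹ * (π y * π y)⁻¹ * π y := by group
        _ = π (x * y) * π (x * y) * ((π y)⁻¹ * (π x * π x)⁻¹ * π y) * (π y * π y)⁻¹ := by
          have hyi : (π y * π y)⁻¹ * π y = π y * (π y * π y)⁻¹ := by group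
          rw [mul_assoc (π x * π y * (π x)⁻¹), hyi, map_mul]
          group
        _ = π (x * y) * π (x * y) * (π y * π y)⁻¹ * (π x * π x)⁻¹ := by
          have hxx := hWc _ (inv_mem (h.sq x)) y⁻¹
          rw [map_inv] at hxx
          have hxy2 : (π x * π x)⁻¹ * (π y * π y)⁻¹ = (π y * π y)⁻¹ * (π x * π x)⁻¹ := by
            rw [← mul_inv_rev, ← mul_inv_rev]
            have := hWc _ (h.sq y) (x * x)
            rw [map_mul] at this
            rw [this]
          rw [hxx, show (π x * π x)⁻¹ * (π y)⁻¹ * π y = (π x * π x)⁻¹ by group, mul_assoc, hxy2,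
            ← mul_assoc]
    rw [← e2, ← e1] at hc
    rw [mul_inv_cancel, one_mul, ← hs] at hc
    have hsi : s⁻¹ = s := inv_eq_of_mul_eq_one_right hss
    have : π (cm y x) = (π (cm x y))⁻¹ := by simp only [cm, map_mul, map_inv]; group
    rw [this, hc, inv_inv]
  obtain ⟨x, hx⟩ := h.exists_not_mem
  obtain ⟨y, hy, hxy, -, -⟩ := h.big x 1
  obtain ⟨y', hy', hxy', hyy', hxyy'⟩ := h.big x y
  obtain ⟨p0, hp0, t0, ht0, rfl⟩ := h.exists_P x
  obtain ⟨q, hq, tq, htq, rfl⟩ := h.exists_P y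
  obtain ⟨q', hq', tq', htq', rfl⟩ := h.exists_P y'
  simp only [map_mul, map_inv, ht0, htq, htq', mul_one] at hx hy hxy hy' hxy' hyy' hxyy'
  have e1 := hpair p0 q hx hy (by rwa [map_mul, map_inv])
  have e2 := hpair p0 q' hx hy' (by rwa [map_mul, map_inv])
  have hq0 : π (q * q') ∉ W.map π := fun e => hyy' (by
    rw [show (π q)⁻¹ * π q' = (π q * π q)⁻¹ * (π q * π q') by group]
    exact mul_mem (inv_mem (h.sq q)) (by rwa [map_mul] at e))
  have hq1 : π (p0⁻¹ * (q * q')) ∉ W.map π := fun e => hxyy' (by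
    rw [map_mul, map_inv, map_mul] at e
    have hsqx : π p0 * π p0 ∈ W.map π := h.sq p0
    have hsqy : π q * π q ∈ W.map π := h.sq q
    have hc : π (cm p0 q) ∈ W.map π := h.img_cm p0 q
    rw [show (π p0 * π q)⁻¹ * π q' =
      ((π q * π q)⁻¹) * (π q * (π p0)⁻¹ * (π q)⁻¹ * π p0) * ((π p0)⁻¹ * (π q * π q')) by group]
    refine mul_mem (mul_mem (inv_mem hsqy) ?_) e
    have := h.img_cm q p0⁻¹
    simpa only [cm, map_mul, map_inv, inv_inv] using this)
  have e3 := hpair p0 (q * q') hx hq0 hq1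
  rw [h.cm_mul_left hq, map_mul, e1, e2] at e3
  exact hne1 p0 hx (mul_left_cancel (e3.trans (mul_one _).symm))

/-- A four-element group containing all commutators. -/
theorem exists_V : ∃ V : Subgroup T, V ≤ W ∧ Nat.card V ≤ 4 ∧ z ∉ V ∧
    ∀ p ∈ P π, ∀ q ∈ P π, cm p q ∈ V := by
  classical
  obtain ⟨x, hx, hxR⟩ := h.exists_P_not_mem
  have hP : ∀ i : ℕ, (α ^ i) x ∈ P π := fun i => by
    induction i with
    | zero => exact hx
    | succ i ih => rw [pow_succ', MulAut.mul_apply]; exact h.alpha_mem_P ih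
  set k1 := cm x ((α ^ 1) x) with hk1
  set k2 := cm x ((α ^ 2) x) with hk2
  have hk1W := h.cm_mem_W hx (hP 1)
  have hk2W := h.cm_mem_W hx (hP 2)
  have hc : k1 * k2 = k2 * k1 := (h.central k1 hk1W k2).symm
  let V : Subgroup T :=
    { carrier := {1, k1, k2, k1 * k2}
      one_mem' := Or.inl rfl
      mul_mem' := by
        have h1 := h.exp k1 hk1W
        have h2 := h.exp k2 hk2W
        have h3 : k1 * (k1 * k2) = k2 := by rw [← mul_assoc, h1, one_mul]
        have h4 : k2 * (k1 * k2) = k1 := by rw [hc, ← mul_assoc, h2, one_mul]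
        rintro a b (rfl | rfl | rfl | rfl) (rfl | rfl | rfl | rfl) <;>
          simp [h1, h2, h3, h4, ← hc, mul_assoc]
      inv_mem' := by
        intro a ha
        have : a * a = 1 := by
          rcases ha with rfl | rfl | rfl | rfl
          exacts [one_mul 1, h.exp _ hk1W, h.exp _ hk2W, h.exp _ (mul_mem hk1W hk2W)]
        rwa [inv_eq_of_mul_eq_one_right this] }
  have hVW : V ≤ W := by
    rintro a (rfl | rfl | rfl | rfl)
    exacts [one_mem _, hk1W, hk2W, mul_mem hk1W hk2W]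
  have hV4 : Nat.card V ≤ 4 := by
    show Nat.card ↥({1, k1, k2, k1 * k2} : Set T) ≤ 4
    rw [Nat.card_coe_set_eq]
    refine (Set.ncard_insert_le _ _).trans ?_
    have h1 := Set.ncard_insert_le k1 ({k2, k1 * k2} : Set T)
    have h2 := Set.ncard_insert_le k2 ({k1 * k2} : Set T)
    rw [Set.ncard_singleton] at h2
    omega
  have hα5 : ∀ j : ℕ, π ((α ^ (j + 5)) x) = π ((α ^ j) x) := fun j => by
    rw [show j + 5 = 5 + j by omega, pow_add, MulAut.mul_apply]
    exact h.pow_five _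
  have hshift : ∀ i j : ℕ, cm ((α ^ (i + 1)) x) ((α ^ (j + 1)) x) = cm ((α ^ i) x) ((α ^ j) x) :=
    fun i j => by
      rw [pow_succ', pow_succ', MulAut.mul_apply, MulAut.mul_apply]
      exact h.cm_alpha (hP i) (hP j)
  have hshift' : ∀ i j : ℕ, cm ((α ^ i) x) ((α ^ (i + j)) x) = cm x ((α ^ j) x) := fun i j => by
    induction i with
    | zero => simp
    | succ i ih => rw [show i + 1 + j = i + j + 1 by omega, hshift, ih]
  have hanti : ∀ {a b : T}, cm a b ∈ V → cm b a ∈ V := fun {a b} hab => by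
    rw [show cm b a = (cm a b)⁻¹ by unfold cm; group]
    exact inv_mem hab
  have hgap : ∀ j : ℕ, j < 5 → cm x ((α ^ j) x) ∈ V := by
    intro j hj
    interval_cases j
    · simpa [cm] using one_mem V
    · exact Or.inr (Or.inl rfl)
    · exact Or.inr (Or.inr (Or.inl rfl))
    · refine hanti ?_
      have h1 := hshift' 3 2
      rw [h.cm_congr_right (hP 3) hx (by simpa using (hα5 0).symm)] at h1
      rw [h1]
      exact Or.inr (Or.inr (Or.inl rfl))
    · refine hanti ?_
      have h1 := hshift' 4 1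
      rw [h.cm_congr_right (hP 4) hx (by simpa using (hα5 0).symm)] at h1
      rw [h1]
      exact Or.inr (Or.inl rfl)
  have hall : ∀ i j : ℕ, cm ((α ^ i) x) ((α ^ j) x) ∈ V := by
    have hmod : ∀ j : ℕ, π ((α ^ j) x) = π ((α ^ (j % 5)) x) := fun j => by
      induction j using Nat.strong_induction_on with
      | _ j ih =>
        by_cases hj : j < 5
        · rw [Nat.mod_eq_of_lt hj]
        · obtain ⟨k, rfl⟩ := Nat.exists_eq_add_of_le (not_lt.1 hj)
          rw [add_comm 5 k, hα5, ih k (by omega), Nat.add_mod_right]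
    intro i j
    rcases le_total i j with hij | hij
    · obtain ⟨d, rfl⟩ := Nat.exists_eq_add_of_le hij
      rw [hshift', ← h.cm_congr_right hx (hP d) (hmod d)]
      exact hgap _ (Nat.mod_lt _ (by norm_num))
    · obtain ⟨d, rfl⟩ := Nat.exists_eq_add_of_le hij
      refine hanti ?_
      rw [hshift', ← h.cm_congr_right hx (hP d) (hmod d)]
      exact hgap _ (Nat.mod_lt _ (by norm_num))
  -- one side
  let A : Subgroup T :=
    { carrier := {q | q ∈ P π ∧ ∀ i : ℕ, cm ((α ^ i) x) q ∈ V}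
      one_mem' := ⟨one_mem _, fun i => by simpa [cm] using one_mem V⟩
      mul_mem' := fun {a b} ha hb => ⟨mul_mem ha.1 hb.1, fun i => by
        rw [h.cm_mul_right ha.1]; exact mul_mem (ha.2 i) (hb.2 i)⟩
      inv_mem' := fun {a} ha => ⟨inv_mem ha.1, fun i => by
        rw [h.cm_inv_right ha.1]; exact inv_mem (ha.2 i)⟩ }
  have hA : ∀ q ∈ P π, q ∈ A := by
    intro q hq
    obtain ⟨k, hk, hkq⟩ := h.full (K := A) (fun a ha => ha.1)
      (fun a ha => ⟨h.alpha_mem_P ha.1, fun i => by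
        rw [h.cm_congr_left (hP (i + 5)) (h.alpha_mem_P ha.1) (hα5 i),
          show i + 5 = i + 4 + 1 by omega, pow_succ', MulAut.mul_apply, h.cm_alpha (hP _) ha.1]
        exact ha.2 _⟩)
      (fun r hr hrW => ⟨hr, fun i => by
        rw [commute_iff_cm.2 (h.commute_P hrW (hP i)).symm]; exact one_mem V⟩)
      (k := x) ⟨hx, fun i => by simpa using hall i 0⟩ hxR q
    refine mul_inv_cancel_left k q ▸ mul_mem hk ?_
    exact ⟨mul_mem (inv_mem hk.1) hq, fun i => by
      rw [commute_iff_cm.2 (h.commute_P hkq (hP i)).symm]; exact one_mem V⟩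
  let B : Subgroup T :=
    { carrier := {p | p ∈ P π ∧ ∀ q ∈ P π, cm p q ∈ V}
      one_mem' := ⟨one_mem _, fun q _ => by simpa [cm] using one_mem V⟩
      mul_mem' := fun {a b} ha hb => ⟨mul_mem ha.1 hb.1, fun q hq => by
        rw [h.cm_mul_left ha.1]; exact mul_mem (ha.2 q hq) (hb.2 q hq)⟩
      inv_mem' := fun {a} ha => ⟨inv_mem ha.1, fun q hq => by
        rw [h.cm_inv_left ha.1]; exact inv_mem (ha.2 q hq)⟩ }
  have hcm : ∀ p ∈ P π, ∀ q ∈ P π, cm p q ∈ V := by
    intro p hp q hq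
    obtain ⟨k, hk, hkp⟩ := h.full (K := B) (fun a ha => ha.1)
      (fun a ha => ⟨h.alpha_mem_P ha.1, fun q hq => by
        have hq5 : α (α (α (α q))) ∈ P π :=
          h.alpha_mem_P (h.alpha_mem_P (h.alpha_mem_P (h.alpha_mem_P hq)))
        rw [h.cm_congr_right (h.alpha_mem_P ha.1) (h.alpha_mem_P hq5) (h.pow_five q), h.cm_alpha ha.1 hq5]
        exact ha.2 _ hq5⟩)
      (fun r hr hrW => ⟨hr, fun q hq => by rw [h.cm_kernel_eq_one hq hrW]; exact one_mem V⟩)
      (k := x) ⟨hx, fun q hq => by simpa using (hA q hq).2 0⟩ hxR p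
    rw [← mul_inv_cancel_left k p, h.cm_mul_left hk.1, h.cm_kernel_eq_one hq hkp, mul_one]
    exact hk.2 q hq
  refine ⟨V, hVW, hV4, fun hz => ?_, hcm⟩
  have h1 := h.squares hVW hcm
  haveI : Finite V := Set.Finite.to_subtype (s := (V : Set T)) (Set.toFinite ({1, k1, k2, k1 * k2} : Set T))
  let g : V → V.map π := fun v => ⟨π v, v, v.2, rfl⟩
  have hs : Function.Surjective g := fun ⟨_, v, hv, rfl⟩ => ⟨⟨v, hv⟩, rfl⟩
  have hb : Function.Bijective g := hs.bijective_of_nat_card_le (by rw [h1, h.img_card]; exact hV4)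
  exact h.z_ne (congrArg Subtype.val (hb.1 (a₁ := ⟨z, hz⟩) (a₂ := 1) (Subtype.ext (by
    show π z = π 1
    rw [h.pi_z, map_one]))))

theorem cm_decomp {p q s t : T} (hp : p ∈ P π) (hq : q ∈ P π) (hs : π s = 1) (ht : π t = 1) :
    cm (p * s) (q * t) = cm p q * cm s t := by
  have hp' : ∀ r, π r = 1 → cm p r = 1 := fun r hr => commute_iff_cm.2 (mem_P.1 hp r hr).symm
  have hq' : ∀ r, π r = 1 → cm r q = 1 := fun r hr => commute_iff_cm.2 (mem_P.1 hq r hr)
  rw [h.cm_mul_left hp, h.cm_mul_right hq, h.cm_mul_right hq, hp' t ht, hq' s hs, mul_one, one_mul]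

/-- A nonabelian kernel has an element whose commutators with the group are `1` and `z`. -/
theorem exists_small [Finite T] (hT : IsPGroup 2 T) (hne : ∃ s t : T, π s = 1 ∧ π t = 1 ∧ cm s t ≠ 1) :
    ∃ t : T, π t = 1 ∧ (∀ y : T, cm t y = 1 ∨ cm t y = z) ∧ ∃ y : T, cm t y = z := by
  classical
  haveI : Fact (Nat.Prime 2) := ⟨Nat.prime_two⟩
  set K := π.ker
  set Z0 := center K
  haveI : Nontrivial (K ⧸ Z0) := by
    obtain ⟨s, t, hs, ht, hst⟩ := hne
    refine ⟨⟨(QuotientGroup.mk (⟨s, hs⟩ : K) : K ⧸ Z0), 1, fun e => hst ?_⟩⟩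
    have := mem_center_iff.1 ((QuotientGroup.eq_one_iff _).1 e) (⟨t, ht⟩ : K)
    exact commute_iff_cm.2 (congrArg Subtype.val this).symm
  have hKp : IsPGroup 2 (K ⧸ Z0) := (hT.to_subgroup K).to_quotient Z0
  haveI : Nontrivial (center (K ⧸ Z0)) := hKp.center_nontrivial
  obtain ⟨c, hc⟩ := exists_prime_orderOf_dvd_card' (G := center (K ⧸ Z0)) 2 (by
    obtain ⟨n, hn0, hn⟩ := ((hKp.to_subgroup (center (K ⧸ Z0))).nontrivial_iff_card).1 inferInstance
    rw [hn]
    exact dvd_pow_self 2 (Nat.pos_iff_ne_zero.1 hn0))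
  obtain ⟨t, ht⟩ := QuotientGroup.mk_surjective (c : K ⧸ Z0)
  have htZ : t ∉ Z0 := fun e => by
    have h1 : (c : K ⧸ Z0) = 1 := ht ▸ (QuotientGroup.eq_one_iff t).2 e
    rw [show c = 1 from Subtype.ext h1, orderOf_one] at hc
    omega
  have ht2 : t * t ∈ Z0 := by
    rw [← QuotientGroup.eq_one_iff, QuotientGroup.mk_mul, ht]
    exact congrArg Subtype.val (show c * c = 1 by rw [← pow_two, ← hc, pow_orderOf_eq_one])
  have hK : ∀ s : K, cm (t : T) s = 1 ∨ cm (t : T) s = z := by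
    intro s
    have h1 : t * s * t⁻¹ * s⁻¹ ∈ Z0 := by
      rw [← QuotientGroup.eq_one_iff, QuotientGroup.mk_mul, QuotientGroup.mk_mul, QuotientGroup.mk_mul,
        QuotientGroup.mk_inv, QuotientGroup.mk_inv, ht, ← mem_center_iff.1 c.2 (QuotientGroup.mk s),
        mul_inv_cancel_right, mul_inv_cancel]
    set d := t * s * t⁻¹ * s⁻¹
    have hd : ∀ r : K, r * d = d * r := mem_center_iff.1 h1
    have h2 : d * d = 1 := by
      have h3 : t * t * s = s * (t * t) := (mem_center_iff.1 ht2 s).symm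
      calc d * d = t * d * s * t⁻¹ * s⁻¹ := by
            conv_rhs => rw [hd t]
            simp only [d]; group
        _ = (t * t * s) * (t⁻¹ * t⁻¹) * s⁻¹ := by simp only [d]; group
        _ = 1 := by rw [h3]; group
    exact h.ker_invol _ d.2 (congrArg Subtype.val h2)
  refine ⟨t, t.2, fun y => ?_, ?_⟩
  · obtain ⟨q, hq, r, hr, rfl⟩ := h.exists_P y
    have h1 := h.cm_decomp (one_mem _) hq t.2 hr
    rw [one_mul, show cm (1 : T) q = 1 by simp [cm], one_mul] at h1
    rw [h1]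
    exact hK ⟨r, hr⟩
  · by_contra hall
    push Not at hall
    refine htZ (mem_center_iff.2 fun s => Subtype.ext (commute_iff_cm.1 ?_).symm)
    exact (hK s).resolve_right (hall s)

/-- No such group. -/
theorem false [Finite T] (hT : IsPGroup 2 T) : False := by
  classical
  obtain ⟨V, hVW, -, hzV, hV⟩ := h.exists_V
  obtain ⟨p0, hp0, q0, hq0, hc0⟩ : ∃ p ∈ P π, ∃ q ∈ P π, cm p q ≠ 1 := by
    by_contra hno
    push Not at hno
    have h1 := h.squares (V := (⊥ : Subgroup T)) bot_le fun p hp q hq => mem_bot.2 (hno p hp q hq)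
    have h2 := h.img_card
    rw [← h1, Subgroup.map_bot, card_bot] at h2
    omega
  set w := cm p0 q0 with hw
  have hwV : w ∈ V := hV p0 hp0 q0 hq0
  have hwW := hVW hwV
  have hwz : w ≠ z := fun e => hzV (e ▸ hwV)
  obtain ⟨β, hβ⟩ := h.trans w hwW hc0
  by_cases hne : ∃ s t : T, π s = 1 ∧ π t = 1 ∧ cm s t ≠ 1
  · obtain ⟨t, -, ht, y0, hy0⟩ := h.exists_small hT hne
    set e := β t
    have he : ∀ y, cm e y = 1 ∨ cm e y = w := fun y => by
      have hy : cm e y = β (cm t (β.symm y)) := by simp [cm, e]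
      rcases ht (β.symm y) with h1 | h1 <;> rw [hy, h1]
      · exact Or.inl (map_one β)
      · exact Or.inr hβ
    have he0 : cm e (β y0) = w := by
      have hy : cm e (β y0) = β (cm t y0) := by simp [cm, e]
      rw [hy, hy0, hβ]
    obtain ⟨p, hp, s, hs, hps⟩ := h.exists_P e
    have hk : ∀ r, π r = 1 → cm s r = 1 := fun r hr => by
      have h1 := h.cm_decomp hp (one_mem _) hs hr
      rw [one_mul, show cm p (1 : T) = 1 by simp [cm], one_mul, ← hps] at h1
      rcases he r with h2 | h2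
      · rw [← h1, h2]
      · exfalso
        have hker : π w = 1 := by rw [← h2, h1]; simp [cm, hs, hr]
        exact (h.ker_invol w hker (h.exp w hwW)).elim hc0 hwz
    have hp' : ∀ q ∈ P π, cm p q ∈ zpowers w := fun q hq => by
      have h1 := h.cm_decomp hp hq hs (map_one π)
      rw [mul_one, ← hps, hk 1 (map_one π), mul_one] at h1
      rcases he q with h2 | h2 <;> rw [← h1, h2]
      · exact one_mem _
      · exact mem_zpowers w
    have hpR : π p ∉ W.map π := fun hpR => by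
      obtain ⟨q, hq, r, hr, hqr⟩ := h.exists_P (β y0)
      have h1 := h.cm_decomp hp hq hs hr
      rw [← hps, ← hqr, he0, hk r hr, mul_one, h.cm_kernel_eq_one hq hpR] at h1
      exact hc0 h1
    let B : Subgroup T :=
      { carrier := {a | a ∈ P π ∧ ∀ q ∈ P π, cm a q ∈ zpowers w}
        one_mem' := ⟨one_mem _, fun q _ => by simp [cm]⟩
        mul_mem' := fun {a b} ha hb => ⟨mul_mem ha.1 hb.1, fun q hq => by
          rw [h.cm_mul_left ha.1]; exact mul_mem (ha.2 q hq) (hb.2 q hq)⟩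
        inv_mem' := fun {a} ha => ⟨inv_mem ha.1, fun q hq => by
          rw [h.cm_inv_left ha.1]; exact inv_mem (ha.2 q hq)⟩ }
    have hB : ∀ a ∈ P π, ∀ q ∈ P π, cm a q ∈ zpowers w := by
      intro a ha q hq
      obtain ⟨k, hk', hka⟩ := h.full (K := B) (fun a ha => ha.1)
        (fun a ha => ⟨h.alpha_mem_P ha.1, fun q hq => by
          have hq5 : α (α (α (α q))) ∈ P π :=
            h.alpha_mem_P (h.alpha_mem_P (h.alpha_mem_P (h.alpha_mem_P hq)))
          rw [h.cm_congr_right (h.alpha_mem_P ha.1) (h.alpha_mem_P hq5) (h.pow_five q),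
            h.cm_alpha ha.1 hq5]
          exact ha.2 _ hq5⟩)
        (fun r hr hrW => ⟨hr, fun q hq => by rw [h.cm_kernel_eq_one hq hrW]; exact one_mem _⟩)
        (k := p) ⟨hp, hp'⟩ hpR a
      rw [← mul_inv_cancel_left k a, h.cm_mul_left hk'.1, h.cm_kernel_eq_one hq hka, mul_one]
      exact hk'.2 q hq
    have h1 := h.squares (zpowers_le.2 hwW) hB
    have h2 := h.img_card
    rw [← h1, MonoidHom.map_zpowers, Nat.card_zpowers] at h2
    have h3 : orderOf (π w) ∣ 2 := orderOf_dvd_of_pow_eq_one (by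
      rw [pow_two, ← map_mul, h.exp w hwW, map_one])
    have := Nat.le_of_dvd two_pos h3
    omega
  · push Not at hne
    have hall : ∀ x y : T, cm x y ∈ V := fun x y => by
      obtain ⟨p, hp, s, hs, rfl⟩ := h.exists_P x
      obtain ⟨q, hq, t, ht, rfl⟩ := h.exists_P y
      rw [h.cm_decomp hp hq hs ht, hne s t hs ht, mul_one]
      exact hV p hp q hq
    refine hzV ?_
    have h1 : z = cm (β.symm p0) (β.symm q0) := by
      refine β.injective ?_
      rw [hβ, hw]
      simp [cm]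
    exact h1 ▸ hall _ _

end UEnd

end CfsgLib.CentralRankOne
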