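import Cfsg.Agent.CentralRankOne.Points
import Cfsg.Agent.CentralRankOne.UnitaryEnd
import Cfsg.Agent.TwoRankTwo.U64Props
import Cfsg.Agent.LocalB.SixtyFourModels

/-!
# A section of type `U₃(4)` is impossible with eight central involutions

The instance of `UEnd` given by an element of order five of the section normalizing `S`.
-/

set_option autoImplicit false
set_option linter.unusedSectionVars false
set_option linter.style.haveILetI false

namespace CfsgLib.CentralRankOne

open Subgroup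
open CfsgLib.Criterion.Act (Core)

universe u

/-- The characterisation of `PSU₃(4)` by its Sylow 2-subgroup, for simple groups. -/
def U34Simple : Prop :=
  ∀ (X : Type u) [Group X] [Finite X] [IsSimpleGroup X] (F : Type) [Field F] [Fintype F],
    Fintype.card F = 16 → ∀ (S : Sylow 2 X) (P : Sylow 2 (Cfsg.PSU 3 F 4)),
      Nonempty ((S : Subgroup X) ≃* (P : Subgroup (Cfsg.PSU 3 F 4))) →
        Nonempty (X ≃* Cfsg.PSU 3 F 4)

section Counting

variable {Y : Type*} [Group Y] {a : Y}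

theorem isPGroup_five (ha : a ^ 5 = 1) : IsPGroup 5 (zpowers a) := by
  rintro ⟨y, hy⟩
  obtain ⟨i, rfl⟩ := mem_zpowers_iff.1 hy
  refine ⟨1, Subtype.ext ?_⟩
  show (a ^ i) ^ (5 ^ 1) = 1
  rw [pow_one, ← zpow_natCast, ← zpow_mul, mul_comm, zpow_mul, zpow_natCast, ha, one_zpow]

/-- Conjugation by an element of order five and the fixed points. -/
theorem card_modEq_five [Finite Y] (ha : a ^ 5 = 1) (H : Subgroup Y)
    (hn : a ∈ normalizer (H : Set Y)) :
    Nat.card H ≡ Nat.card ↥(H ⊓ centralizer ({a} : Set Y)) [MOD 5] := by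
  haveI : Fact (Nat.Prime 5) := ⟨by norm_num⟩
  have hle : zpowers a ≤ normalizer (H : Set Y) := zpowers_le.2 hn
  letI : MulAction (zpowers a) H :=
    { smul := fun b x => ⟨(b : Y) * x * (b : Y)⁻¹, (mem_normalizer_iff.1 (hle b.2) x).1 x.2⟩
      one_smul := fun x => Subtype.ext (show (1 : Y) * x * (1 : Y)⁻¹ = x by group)
      mul_smul := fun b c x => Subtype.ext
        (show (b : Y) * c * x * ((b : Y) * c)⁻¹ = b * ((c : Y) * x * (c : Y)⁻¹) * (b : Y)⁻¹ by group) }
  refine ((isPGroup_five ha).card_modEq_card_fixedPoints H).trans (Eq.subst (motive := fun n => n ≡ _ [MOD 5])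
    (Nat.card_congr ?_) rfl)
  refine
    { toFun := fun x => ⟨⟨x.1, x.2.1⟩, fun b => ?_⟩
      invFun := fun x => ⟨(x.1 : Y), (x.1).2, mem_centralizer_singleton_iff.2 ?_⟩
      left_inv := fun _ => rfl
      right_inv := fun _ => rfl }
  · obtain ⟨b, hb⟩ := b
    obtain ⟨i, rfl⟩ := mem_zpowers_iff.1 hb
    refine Subtype.ext ?_
    show a ^ i * x.1 * (a ^ i)⁻¹ = x.1
    rw [((show Commute x.1 a from mem_centralizer_singleton_iff.1 x.2.2).zpow_right i).symm.eq,
      mul_inv_cancel_right]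
  · have h1 : a * (x.1 : Y) * a⁻¹ = x.1 := congrArg Subtype.val (x.2 ⟨a, mem_zpowers a⟩)
    exact (mul_inv_eq_iff_eq_mul.1 h1).symm

theorem fixed_of_small [Finite Y] (ha : a ^ 5 = 1) (H : Subgroup Y) (h4 : Nat.card H = 4)
    (hn : a ∈ normalizer (H : Set Y)) {x : Y} (hx : x ∈ H) : x * a = a * x := by
  have h1 := card_modEq_five ha H hn
  have h2 : H ⊓ centralizer ({a} : Set Y) = H := by
    refine eq_of_le_of_card_ge inf_le_left ?_
    have hd := card_dvd_of_le (inf_le_left : H ⊓ centralizer ({a} : Set Y) ≤ H)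
    rw [h4] at hd h1 ⊢
    have := Nat.le_of_dvd (by norm_num) hd
    unfold Nat.ModEq at h1
    omega
  rw [← h2] at hx
  exact mem_centralizer_singleton_iff.1 hx.2

end Counting

variable {G : Type u} [Group G] [Finite G] {S : Sylow 2 G} {z : G}

namespace Bad

variable (h : Bad S z)
include h

/-- The projection on `S`. -/
def projS : (S : Subgroup G) →* Quot S z := (proj S z).comp (Subgroup.inclusion h.sylow_le)

theorem range_projS : h.projS.range = (h.sylowQ : Subgroup (Quot S z)) := by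
  ext g
  rw [MonoidHom.mem_range, h.mem_sylowQ]
  exact ⟨fun ⟨s, e⟩ => ⟨Subgroup.inclusion h.sylow_le s, s.2, e⟩, fun ⟨c, hc, e⟩ => ⟨⟨c, hc⟩, e⟩⟩

theorem mem_image {g : Quot S z} :
    g ∈ ((omegaCenter S).subgroupOf (S : Subgroup G)).map h.projS ↔
      ∃ v, ∃ hv : v ∈ omegaCenter S, proj S z (h.lift hv) = g :=
  ⟨fun ⟨w, hw, e⟩ => ⟨w, hw, e⟩, fun ⟨v, hv, e⟩ => ⟨⟨v, hv.1⟩, hv, e⟩⟩

theorem projS_z : h.projS ⟨z, h.mem.1⟩ = 1 := by
  refine (QuotientGroup.eq_one_iff _).2 fun b => ?_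
  show ((b * h.lift h.mem * b⁻¹ : centralizer ({z} : Set G)) : G) ∈
    normalizer ((S : Subgroup G) : Set G)
  have e2 : ((b * h.lift h.mem * b⁻¹ : centralizer ({z} : Set G)) : G) = z := by
    show (b : G) * z * (b : G)⁻¹ = z
    rw [h.commute_z b, mul_inv_cancel_right]
  rw [e2]
  exact le_normalizer h.mem.1

variable (hcore : Core.{u}) (hO : Cfsg.oddCore (Quot S z) = ⊥)
  {x : G} (hx : x ∈ omegaCenter S) (hx1 : x ≠ 1) (hxz : x ≠ z)
include hcore hO hx hx1 hxz

set_option maxHeartbeats 1600000 in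
/-- No section of type `U₃(4)`. -/
theorem unitary_false (hU : U34Simple.{u}) (h8 : Nat.card (omegaCenter S) = 8)
    (htr : ∀ w ∈ omegaCenter S, w ≠ 1 → ∃ n ∈ normalizer ((S : Subgroup G) : Set G),
      n * z * n⁻¹ = w) {F : Type} [Field F] [Fintype F] (hF : Fintype.card F = 16)
    (P' : Sylow 2 (Cfsg.PSU 3 F 4)) : ∀ (P : Sylow 2 (h.closureQ hx)),
      (P : Subgroup (h.closureQ hx)) = (h.sylowQ : Subgroup _).subgroupOf (h.closureQ hx) →
      ((P : Subgroup (h.closureQ hx)) ≃* (P' : Subgroup (Cfsg.PSU 3 F 4))) → False := by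
  classical
  haveI : Fact (Nat.Prime 2) := ⟨Nat.prime_two⟩
  haveI : CharP F 2 := by
    obtain ⟨n, hp, hn⟩ := FiniteField.card F (ringChar F)
    have h2 : ringChar F = 2 := by
      have h16 : ringChar F ∣ 2 ^ 4 := by
        rw [show (2 : ℕ) ^ 4 = ringChar F ^ (n : ℕ) by rw [← hn, hF]; norm_num]
        exact dvd_pow_self _ n.ne_zero
      exact (Nat.prime_dvd_prime_iff_eq hp Nat.prime_two).1 (hp.dvd_of_dvd_pow h16)
    exact h2 ▸ ringChar.charP F
  set K := h.closureQ hx with hK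
  set Q := h.qgroup hx with hQdef
  set W' := (omegaCenter S).subgroupOf (S : Subgroup G) with hW'
  set Wb := W'.map h.projS with hWbdef
  intro P hP eP
  haveI := (h.closureQ_three hcore hO hx hx1 hxz).isSimpleGroup
  obtain ⟨eK⟩ := hU K F hF P P' ⟨eP⟩
  have hQP : Nat.card Q = Nat.card (P : Subgroup K) := by
    rw [hP]
    exact (Nat.card_congr ⟨fun q => ⟨⟨q.1, q.2.2⟩, q.2.1⟩,
      fun p => ⟨((p : K) : Quot S z), p.2, (p : K).2⟩, fun _ => rfl, fun _ => rfl⟩)
  have hQ64 : Nat.card Q = 64 := by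
    rw [hQP, Nat.card_congr eP.toEquiv, Sylow.card_eq_multiplicity, SixtyFour.card_psu_three_four hF,
      show 64 = 2 ^ 6 by norm_num, Nat.factorization_mul (by norm_num) (by norm_num),
      Finsupp.add_apply, Nat.Prime.factorization_pow Nat.prime_two, Finsupp.single_eq_same,
      Nat.factorization_eq_zero_of_not_dvd (show ¬ 2 ∣ 975 by norm_num)]
  -- the properties of the Sylow subgroup
  obtain ⟨hcen, hcomm⟩ := TwoRankTwo.u64_props (T := (P : Subgroup K))
    ⟨F, inferInstance, inferInstance, hF, P', ⟨eP⟩⟩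
  have hsub : ∀ {q : Quot S z}, q ∈ Q → ∃ p : (P : Subgroup K), ((p : K) : Quot S z) = q :=
    fun {q} hq => ⟨⟨⟨q, hq.2⟩, by rw [hP]; exact hq.1⟩, rfl⟩
  have hinv : ∀ {q : Quot S z}, q ∈ Q → q * q = 1 → q ∈ Wb := fun {q} hq h2 =>
    h.mem_image.2 (h.qgroup_invol hcore hO hx hx1 hxz hq h2)
  have hcommQ : ∀ {a b : Quot S z}, a ∈ Q → b ∈ Q → a * b * a⁻¹ * b⁻¹ ∈ Wb := fun {a b} ha hb => by
    obtain ⟨p, rfl⟩ := hsub ha
    obtain ⟨q, rfl⟩ := hsub hb
    refine hinv (mul_mem (mul_mem (mul_mem ha hb) (inv_mem ha)) (inv_mem hb)) ?_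
    exact congrArg (fun t : (P : Subgroup K) => ((t : K) : Quot S z)) ((hcen _).1 (hcomm p q))
  have hsqQ : ∀ {a : Quot S z}, a ∈ Q → a * a ∈ Wb := fun {a} ha => by
    obtain ⟨p, rfl⟩ := hsub ha
    refine hinv (mul_mem ha ha) ?_
    have hp2 : p * p ∈ center (P : Subgroup K) := by
      refine mem_center_iff.2 fun q => ?_
      have hc := hcomm q p
      rw [commutatorElement_def] at hc
      set c := q * p * q⁻¹ * p⁻¹ with hcdef
      have hc2 : c * c = 1 := (hcen c).1 hc
      have hcp : p * c = c * p := mem_center_iff.1 hc p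
      calc q * (p * p) = c * p * (c * p) * q := by rw [hcdef]; group
        _ = c * (p * c) * p * q := by group
        _ = (c * c) * (p * p) * q := by rw [hcp]; group
        _ = p * p * q := by rw [hc2, one_mul]
    exact congrArg (fun t : (P : Subgroup K) => ((t : K) : Quot S z)) ((hcen _).1 hp2)
  have hWQ : Wb ≤ Q := fun g hg => by
    obtain ⟨v, hv, rfl⟩ := h.mem_image.1 hg
    exact h.mem_qgroup hcore hO hx hx1 hxz hv
  have hWc : ∀ {g : Quot S z}, g ∈ Wb → ∀ {s : Quot S z}, s ∈ (h.sylowQ : Subgroup _) → s * g = g * s :=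
    fun {g} hg {s} hs => by
      obtain ⟨v, hv, rfl⟩ := h.mem_image.1 hg
      exact h.proj_lift_central hv hs
  have hW4 : Nat.card Wb = 4 := by
    refine le_antisymm ((Nat.card_le_card_of_injective
      (fun g : Wb => (⟨g.1, hWQ g.2, by
        obtain ⟨v, hv, e⟩ := h.mem_image.1 g.2
        rw [← e]
        exact h.proj_lift_two hv⟩ : {g : Quot S z // g ∈ Q ∧ g * g = 1}))
      fun a b e => Subtype.ext (congrArg (fun q : {g : Quot S z // g ∈ Q ∧ g * g = 1} => q.1) e)).trans
        (h.card_image hcore hO hx hx1 hxz h8)) ?_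
    let φ : W' →* Quot S z := h.projS.comp W'.subtype
    have hker : Nat.card φ.ker ≤ 2 := by
      refine (Nat.card_le_card_of_injective (fun v : φ.ker => decide ((((v : W') : (S : Subgroup G)) : G) = 1))
        fun a b e => ?_).trans (by simp)
      have hval : ∀ v : φ.ker, (((v : W') : (S : Subgroup G)) : G) = 1 ∨
          (((v : W') : (S : Subgroup G)) : G) = z := fun v =>
        h.core_invol ((QuotientGroup.eq_one_iff _).1 (MonoidHom.mem_ker.1 v.2)) (v : W').2.2.1
      have e' := decide_eq_decide.1 e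
      refine Subtype.ext (Subtype.ext (Subtype.ext ?_))
      rcases hval a with ha | ha <;> rcases hval b with hb | hb
      · rw [ha, hb]
      · exact absurd (hb.symm.trans (e'.1 ha)) h.ne
      · exact absurd (ha.symm.trans (e'.2 hb)) h.ne
      · rw [ha, hb]
    have h2 := φ.ker.index_mul_card
    rw [index_ker, Nat.card_congr (subgroupOfEquivOfLe omegaCenter_le).toEquiv, h8] at h2
    have hr : φ.range = Wb := by
      rw [MonoidHom.range_comp, Subgroup.range_subtype]
    rw [hr] at h2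
    nlinarith [Nat.card_pos (α := φ.ker)]
  -- an element of order five
  obtain ⟨g₀, hg₀⟩ : ∃ g, g ∉ normQ S z := by
    by_contra hno
    push Not at hno
    exact h.normQ_ne_top (eq_top_iff.2 fun g _ => hno g)
  set H := (normQ S z).subgroupOf K with hH
  have hKcard : Nat.card K = 64 * 975 := by
    rw [Nat.card_congr eK.toEquiv, SixtyFour.card_psu_three_four hF]
  obtain ⟨k₀, hk₀, hk₀g⟩ := h.exists_mem_coset hcore hO hx hx1 hxz g₀
  have hk₀N : k₀ ∉ normQ S z := fun e => hg₀ (by simpa using mul_mem e hk₀g)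
  have hidx : Nat.card (K ⧸ H) = 65 := by
    let e : Option Q → K ⧸ H := fun o =>
      match o with
      | none => QuotientGroup.mk 1
      | some w => QuotientGroup.mk (⟨(w : Quot S z), w.2.2⟩ * ⟨k₀, hk₀⟩ : K)
    have hout : ∀ w : Q, (w : Quot S z) * k₀ ∉ normQ S z := fun w e => hk₀N (by
      simpa using mul_mem (inv_mem (h.qgroup_le hx w.2)) e)
    have hb : Function.Bijective e := by
      constructor
      · rintro (_ | w) (_ | w') he
        · rfl
        · exact absurd (by simpa [H, mem_subgroupOf] using QuotientGroup.eq.1 he) (hout w')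
        · exact absurd (by simpa [H, mem_subgroupOf] using QuotientGroup.eq.1 he.symm) (hout w)
        · have h0 := QuotientGroup.eq.1 (show
            (QuotientGroup.mk (⟨(w : Quot S z), w.2.2⟩ * ⟨k₀, hk₀⟩ : K) : K ⧸ H) =
              QuotientGroup.mk (⟨(w' : Quot S z), w'.2.2⟩ * ⟨k₀, hk₀⟩ : K) from he)
          have h1 : ((w : Quot S z) * k₀)⁻¹ * ((w' : Quot S z) * k₀) ∈ normQ S z := h0
          rw [show ((w : Quot S z) * k₀)⁻¹ * ((w' : Quot S z) * k₀) =
            k₀⁻¹ * ((w : Quot S z)⁻¹ * w') * k₀ by group] at h1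
          exact congrArg some (Subtype.ext (inv_mul_eq_one.1 (h.eq_one_of_semiregular hcore hO hx hx1 hxz
            (mul_mem (inv_mem w.2) w'.2) hk₀N h1)))
      · intro q
        obtain ⟨g, rfl⟩ := QuotientGroup.mk_surjective q
        by_cases hg : (g : Quot S z) ∈ normQ S z
        · exact ⟨none, QuotientGroup.eq.2 (by simpa [H, mem_subgroupOf] using hg)⟩
        · obtain ⟨w, hw, hwg⟩ := h.exists_move hcore hO hx hx1 hxz hk₀N hg
          exact ⟨some ⟨w, hw⟩, (QuotientGroup.eq.2 (show (g⁻¹ * (⟨w, hw.2⟩ * ⟨k₀, hk₀⟩) : K) ∈ H from hwg)).symm⟩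
    rw [← Nat.card_eq_of_bijective e hb, Finite.card_option, hQ64]
  have hH5 : 5 ∣ Nat.card H := by
    have h1 := H.index_mul_card
    rw [index_eq_card, hidx, hKcard] at h1
    exact ⟨192, by omega⟩
  haveI : Fact (Nat.Prime 5) := ⟨by norm_num⟩
  obtain ⟨f0, hf0⟩ := exists_prime_orderOf_dvd_card' 5 hH5
  set a₁ : Quot S z := ((f0 : K) : Quot S z) with ha₁
  have hf0o : orderOf a₁ = 5 := by rw [ha₁, Subgroup.orderOf_coe, Subgroup.orderOf_coe, hf0]
  -- the kernel of the projection and its centralizer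
  set T0 := (normS S z).normalCore ⊓ (S : Subgroup G).subgroupOf (centralizer ({z} : Set G)) with hT0
  haveI : T0.Normal := ⟨fun t ht c => by
    refine ⟨(normalCore_normal (normS S z)).conj_mem t ht.1 c, ?_⟩
    have hn : ((c * t * c⁻¹ : centralizer ({z} : Set G)) : G) ∈
        normalizer ((S : Subgroup G) : Set G) :=
      (normalCore_le (normS S z) ((normalCore_normal (normS S z)).conj_mem t ht.1 c) : _)
    refine FTRows.CyclicMeet.mem_of_normalizes S ?_ hn
    obtain ⟨i, hi⟩ := S.2 ⟨(t : G), ht.2⟩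
    refine FTRows.CyclicMeet.isPGroup_zpowers (k := i) ?_
    have hi' : (t : G) ^ 2 ^ i = 1 := congrArg Subtype.val hi
    show ((c : G) * t * (c : G)⁻¹) ^ 2 ^ i = 1
    rw [conj_pow, hi', mul_one, mul_inv_cancel]⟩
  set D := centralizer (T0 : Set (centralizer ({z} : Set G))) with hD
  have hKD : K ≤ D.map (proj S z) := by
    haveI : (D.map (proj S z)).Normal := Normal.map inferInstance _ proj_surjective
    refine normalClosure_le_normal (Set.singleton_subset_iff.2 ⟨h.lift hx, ?_, rfl⟩)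
    exact mem_centralizer_iff.2 fun t ht => Subtype.ext (commute_omegaCenter hx ht.2)
  obtain ⟨c0, hc0, hc0a⟩ := hKD (f0 : K).2
  obtain ⟨i₂, b₂, hb₂, hab₂⟩ := Nat.exists_eq_two_pow_mul_odd (orderOf_pos c0).ne'
  set c := c0 ^ 2 ^ i₂ with hcdef
  have hcD : c ∈ D := pow_mem hc0 _
  have hco : Odd (orderOf c) := by
    rw [hcdef, orderOf_pow' _ (pow_ne_zero _ two_ne_zero), hab₂, Nat.gcd_eq_right (dvd_mul_right _ _),
      Nat.mul_div_cancel_left _ (by positivity)]
    exact hb₂
  set a := proj S z c with hadef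
  have haa : a = a₁ ^ 2 ^ i₂ := by rw [hadef, hcdef, map_pow, hc0a]
  have ha5 : orderOf a = 5 := by
    rw [haa, orderOf_pow' _ (pow_ne_zero _ two_ne_zero), hf0o, Nat.Coprime.gcd_eq_one
      (Nat.Coprime.pow_right _ (by norm_num : Nat.Coprime 5 2)), Nat.div_one]
  have ha : a ^ 5 = 1 := ha5 ▸ pow_orderOf_eq_one a
  have haN : a ∈ normQ S z := haa ▸ pow_mem f0.2 _
  have haK : a ∈ K := haa ▸ pow_mem (f0 : K).2 _
  have hcS : (c : G) ∈ normalizer ((S : Subgroup G) : Set G) := proj_mem.1 haN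
  have haS : a ∈ normalizer ((h.sylowQ : Subgroup (Quot S z)) : Set (Quot S z)) := by
    refine LocalB.mem_normalizer_of_conj_le fun g hg => ?_
    obtain ⟨d, hd, rfl⟩ := h.mem_sylowQ.1 hg
    exact h.mem_sylowQ.2 ⟨c * d * c⁻¹, (mem_normalizer_iff.1 hcS d).1 hd, by rw [map_mul, map_mul, map_inv]⟩
  have haQ : a ∈ normalizer (Q : Set (Quot S z)) := LocalB.mem_normalizer_of_conj_le fun g hg =>
    ⟨(mem_normalizer_iff.1 haS g).1 hg.1, K.mul_mem (K.mul_mem haK hg.2) (K.inv_mem haK)⟩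
  have haW : a ∈ normalizer (Wb : Set (Quot S z)) := LocalB.mem_normalizer_of_conj_le fun g hg => by
    obtain ⟨v, hv, rfl⟩ := h.mem_image.1 hg
    refine h.mem_image.2 ⟨_, normalizer_conj_mem hcS hv, ?_⟩
    rw [hadef, ← map_inv, ← map_mul, ← map_mul]
    rfl
  have haWc : ∀ {g : Quot S z}, g ∈ Wb → g * a = a * g := fun {g} hg => fixed_of_small ha Wb hW4 haW hg
  -- conjugation by `c` fixes the central involutions
  have hcW : ∀ v ∈ omegaCenter S, (c : G) * v * (c : G)⁻¹ = v := by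
    intro v hv
    have hv' := normalizer_conj_mem hcS hv
    have hcz : (c : G) * z * (c : G)⁻¹ = z := by rw [h.commute_z c, mul_inv_cancel_right]
    have he : proj S z (h.lift hv) = proj S z (c * h.lift hv * c⁻¹) := by
      rw [map_mul, map_mul, map_inv, ← hadef, ← haWc (h.mem_image.2 ⟨v, hv, rfl⟩), mul_inv_cancel_right]
    rcases h.proj_eq (e := h.lift hv) (e' := c * h.lift hv * c⁻¹) hv.2.1 hv'.2.1
      (commute_omegaCenter hv' hv.1) he with e | e
    · exact e
    · exfalso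
      have e' : (c : G) * v * (c : G)⁻¹ = v * z := e
      have hstep : ∀ i : ℕ, ((c : G) ^ i) * v * ((c : G) ^ i)⁻¹ = v * z ^ i := fun i => by
        induction i with
        | zero => simp
        | succ i ih =>
          calc (c : G) ^ (i + 1) * v * ((c : G) ^ (i + 1))⁻¹
              = c * ((c : G) ^ i * v * ((c : G) ^ i)⁻¹) * (c : G)⁻¹ := by rw [pow_succ']; group
            _ = c * (v * z ^ i) * (c : G)⁻¹ := by rw [ih]
            _ = (c * v * (c : G)⁻¹) * (c * z * (c : G)⁻¹) ^ i := by rw [conj_pow]; group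
            _ = v * z ^ (i + 1) := by rw [e', hcz, mul_assoc, ← pow_succ']
      obtain ⟨k, hk⟩ := hco
      have h1 := hstep (orderOf c)
      have hc1 : (c : G) ^ orderOf c = 1 := by rw [← Subgroup.coe_pow, pow_orderOf_eq_one]; rfl
      rw [hc1, hk, pow_succ, pow_mul, pow_two, h.two, one_pow, one_mul, one_mul, inv_one, mul_one] at h1
      exact h.ne (mul_left_cancel (h1.symm.trans (mul_one v).symm))
  -- fixed points of `a` on `Q`
  have hgfix : ∀ {g : Quot S z}, g ∈ normQ S z → a * g = g * a →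
      (∀ w ∈ Q, g * w = w * g) → ∀ {b : Quot S z}, b ∉ normQ S z → b⁻¹ * g * b ∈ normQ S z → g = 1 :=
    fun {g} hg _ hgc {b} hb hbg => h.eq_one_of_fix hcore hO hx hx1 hxz hg hb hbg hgc
  have hCQ : Q ⊓ centralizer ({a} : Set (Quot S z)) = Wb := by
    have hWle : Wb ≤ Q ⊓ centralizer ({a} : Set (Quot S z)) := fun g hg =>
      ⟨hWQ hg, mem_centralizer_singleton_iff.2 (haWc hg)⟩
    obtain ⟨k, hk⟩ := IsPGroup.iff_card.1 ((h.qgroup_pgroup hx).to_le
      (inf_le_left : Q ⊓ centralizer ({a} : Set (Quot S z)) ≤ Q))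
    have hmod := card_modEq_five ha Q haQ
    rw [hQ64, hk] at hmod
    have h1 := card_dvd_of_le hWle
    rw [hW4, hk] at h1
    have h2 := card_dvd_of_le (inf_le_left : Q ⊓ centralizer ({a} : Set (Quot S z)) ≤ Q)
    rw [hQ64, hk] at h2
    have hk6 : k ≤ 6 := (Nat.pow_dvd_pow_iff_le_right (by norm_num : 1 < 2)).1 h2
    have hk2 : 2 ≤ k := (Nat.pow_dvd_pow_iff_le_right (by norm_num : 1 < 2)).1
      (show 2 ^ 2 ∣ 2 ^ k by simpa using h1)
    rcases eq_or_ne k 2 with rfl | hne
    · exact (eq_of_le_of_card_ge hWle (by rw [hk, hW4]; norm_num)).symm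
    exfalso
    have hk' : k = 6 := by
      unfold Nat.ModEq at hmod
      interval_cases k <;> first | rfl | (exact absurd rfl hne) | (norm_num at hmod)
    have htop : Q ⊓ centralizer ({a} : Set (Quot S z)) = Q :=
      eq_of_le_of_card_ge inf_le_left (by rw [hQ64, hk, hk']; norm_num)
    have hac : ∀ w ∈ Q, w * a = a * w := fun w hw => mem_centralizer_singleton_iff.1 (htop.ge hw).2
    obtain ⟨w, hw, hwg⟩ := h.exists_fixing hcore hO hx hx1 hxz haN hg₀
    have hwa : w⁻¹ * a = 1 := h.eq_one_of_fix hcore hO hx hx1 hxz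
      (mul_mem (inv_mem (h.qgroup_le hx hw)) haN) hg₀ hwg fun q hq => by
        have h1 := hac q hq
        have h2 := hac w hw
        have hwq : Commute w q := by
          have haw : a = w * (w⁻¹ * a) := by rw [mul_inv_cancel_left]
          by_contra hne2
          obtain ⟨i, hi⟩ := h.qgroup_pgroup hx ⟨w, hw⟩
          have hi' : w ^ 2 ^ i = 1 := congrArg Subtype.val hi
          have h3 : g₀⁻¹ * w ^ 5 * g₀ ∈ normQ S z := by
            have h4 := pow_mem hwg 5
            have e : (g₀⁻¹ * (w⁻¹ * a) * g₀) ^ 5 = g₀⁻¹ * (w ^ 5)⁻¹ * g₀ := by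
              have := conj_pow (a := g₀⁻¹) (b := w⁻¹ * a) (i := 5)
              rw [inv_inv] at this
              rw [this, (show Commute w⁻¹ a from (show Commute w a from h2).inv_left).mul_pow, ha,
                mul_one, inv_pow]
            rw [e] at h4
            have := inv_mem h4
            rwa [show (g₀⁻¹ * (w ^ 5)⁻¹ * g₀)⁻¹ = g₀⁻¹ * w ^ 5 * g₀ by group] at this
          have h5 : w ^ 5 = 1 := h.eq_one_of_semiregular hcore hO hx hx1 hxz (pow_mem hw 5) hg₀ h3
          have hw1 : w = 1 := by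
            have h6 := pow_gcd_eq_one.2 ⟨hi', h5⟩
            rwa [Nat.Coprime.gcd_eq_one (Nat.Coprime.pow_left _ (by norm_num : Nat.Coprime 2 5)),
              pow_one] at h6
          exact hne2 (by rw [hw1]; exact Commute.one_left q)
        exact ((hwq.inv_left).mul_left (show Commute a q from h1.symm)).eq
    have e : a = w := (inv_mul_eq_one.1 hwa).symm
    obtain ⟨i, hi⟩ := h.qgroup_pgroup hx ⟨w, hw⟩
    have hi' : a ^ 2 ^ i = 1 := by rw [e]; exact congrArg Subtype.val hi
    have := orderOf_dvd_of_pow_eq_one hi'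
    rw [ha5] at this
    exact absurd ((Nat.prime_dvd_prime_iff_eq (by norm_num) Nat.prime_two).1
      ((Nat.Prime.dvd_of_dvd_pow (by norm_num : Nat.Prime 5) this))) (by norm_num)
  have hfpfQ : ∀ {q : Quot S z}, q ∈ Q → q⁻¹ * (a * q * a⁻¹) ∈ Wb → q ∈ Wb := by
    intro q hq hw
    set w := q⁻¹ * (a * q * a⁻¹) with hwdef
    have haw : a * w * a⁻¹ = w := by rw [← haWc hw, mul_inv_cancel_right]
    have hqw : a * q * a⁻¹ = q * w := by rw [hwdef, mul_inv_cancel_left]
    have hstep : ∀ i : ℕ, a ^ i * q * (a ^ i)⁻¹ = q * w ^ i := fun i => by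
      induction i with
      | zero => simp
      | succ i ih =>
        calc a ^ (i + 1) * q * (a ^ (i + 1))⁻¹ = a * (a ^ i * q * (a ^ i)⁻¹) * a⁻¹ := by
              rw [pow_succ']; group
          _ = a * (q * w ^ i) * a⁻¹ := by rw [ih]
          _ = (a * q * a⁻¹) * (a * w * a⁻¹) ^ i := by rw [conj_pow]; group
          _ = q * w ^ (i + 1) := by rw [hqw, haw, mul_assoc, ← pow_succ']
    have h1 := hstep 5
    rw [ha, one_mul, inv_one, mul_one] at h1
    have hw2 : w * w = 1 := by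
      obtain ⟨v, hv, e⟩ := h.mem_image.1 hw
      rw [← e]; exact h.proj_lift_two hv
    have hw5 : w ^ 5 = 1 := mul_left_cancel (h1.symm.trans (mul_one q).symm)
    rw [pow_succ, show (4 : ℕ) = 2 * 2 from rfl, pow_mul, pow_two w, hw2, one_pow, one_mul] at hw5
    rw [hw5, mul_one] at hqw
    exact hCQ.le ⟨hq, mem_centralizer_singleton_iff.2 (mul_inv_eq_iff_eq_mul.1 hqw).symm⟩
  have hirred : ∀ H' : Subgroup (Quot S z), Wb ≤ H' → H' ≤ Q → a ∈ normalizer (H' : Set (Quot S z)) →
      ¬ H' ≤ Wb → H' = Q := by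
    intro H' hWH hHQ han hne
    obtain ⟨k, hk⟩ := IsPGroup.iff_card.1 ((h.qgroup_pgroup hx).to_le hHQ)
    have hmod := card_modEq_five ha H' han
    have he : H' ⊓ centralizer ({a} : Set (Quot S z)) = Wb := le_antisymm
      (fun g hg => hCQ.le ⟨hHQ hg.1, hg.2⟩)
      (fun g hg => ⟨hWH hg, mem_centralizer_singleton_iff.2 (haWc hg)⟩)
    rw [he, hW4, hk] at hmod
    have h2 := card_dvd_of_le hHQ
    rw [hQ64, hk] at h2
    have hk6 : k ≤ 6 := (Nat.pow_dvd_pow_iff_le_right (by norm_num : 1 < 2)).1 h2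
    have hk2 : k ≠ 2 := fun e => hne (eq_of_le_of_card_ge hWH (by rw [hk, hW4, e]; norm_num)).ge
    refine eq_of_le_of_card_ge hHQ ?_
    rw [hQ64, hk]
    unfold Nat.ModEq at hmod
    interval_cases k <;> first | exact absurd rfl hk2 | (norm_num at hmod; done) | norm_num
  -- a fixed point of `a` off the base coset
  obtain ⟨g₁, hg₁, hg₁a⟩ : ∃ g, g ∉ normQ S z ∧ g⁻¹ * a * g ∈ normQ S z := by
    let X := {q : Quot S z ⧸ normQ S z // q ≠ QuotientGroup.mk 1}
    have hpow : ∀ b : zpowers a, (b : Quot S z) ∈ normQ S z := fun b => (zpowers_le.2 haN) b.2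
    letI : MulAction (zpowers a) X :=
      { smul := fun b q => ⟨(b : Quot S z) • q.1, fun e => q.2 (by
          rw [smul_eq_iff_eq_inv_smul] at e
          rw [e]
          exact QuotientGroup.eq.2 (by simpa using hpow b))⟩
        one_smul := fun q => Subtype.ext (one_smul (Quot S z) q.1)
        mul_smul := fun b c q => Subtype.ext (mul_smul (b : Quot S z) (c : Quot S z) q.1) }
    have hX : Nat.card X = 64 := by
      rw [← hQ64]
      refine (Nat.card_eq_of_bijective (fun w : Q => (⟨QuotientGroup.mk ((w : Quot S z) * g₀), fun e =>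
        hg₀ (by
          have h1 := QuotientGroup.eq.1 e
          rw [mul_one, inv_mem_iff] at h1
          simpa using mul_mem (inv_mem (h.qgroup_le hx w.2)) h1)⟩ : X)) ⟨fun w w' e => ?_, fun q => ?_⟩).symm
      · have h1 := QuotientGroup.eq.1 (congrArg Subtype.val e)
        rw [show ((w : Quot S z) * g₀)⁻¹ * ((w' : Quot S z) * g₀) =
          g₀⁻¹ * ((w : Quot S z)⁻¹ * w') * g₀ by group] at h1
        exact Subtype.ext (inv_mul_eq_one.1 (h.eq_one_of_semiregular hcore hO hx hx1 hxz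
          (mul_mem (inv_mem w.2) w'.2) hg₀ h1))
      · obtain ⟨q, hq⟩ := q
        obtain ⟨g, rfl⟩ := QuotientGroup.mk_surjective q
        obtain ⟨w, hw, hwg⟩ := h.exists_move hcore hO hx hx1 hxz hg₀ (g₂ := g) fun e => hq
          (QuotientGroup.eq.2 (by simpa using e))
        exact ⟨⟨w, hw⟩, Subtype.ext (QuotientGroup.eq.2 hwg).symm⟩
    have hmod := (isPGroup_five ha).card_modEq_card_fixedPoints X
    rw [hX] at hmod
    have hne : Nat.card (MulAction.fixedPoints (zpowers a) X) ≠ 0 := by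
      intro e
      rw [e] at hmod
      exact absurd hmod (by decide)
    obtain ⟨⟨⟨q, hq⟩, hqf⟩⟩ := (Nat.card_ne_zero.1 hne).1
    obtain ⟨g, rfl⟩ := QuotientGroup.mk_surjective q
    refine ⟨g, fun e => hq (QuotientGroup.eq.2 (by simpa using e)), ?_⟩
    exact StrongEmbed.smul_mk_iff.1 (congrArg Subtype.val (hqf ⟨a, mem_zpowers a⟩))
  -- the centralizer of `a` in the image of `S`
  have hCS : ∀ y ∈ (h.sylowQ : Subgroup (Quot S z)), y * a = a * y → y ∈ Wb := by
    intro y hyS hya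
    have hyQ : ∀ q ∈ Q, y * q * y⁻¹ ∈ Q := fun q hq =>
      ⟨Subgroup.mul_mem _ (Subgroup.mul_mem _ hyS hq.1) (Subgroup.inv_mem _ hyS),
        (inferInstance : K.Normal).conj_mem q hq.2 y⟩
    let H' : Subgroup (Quot S z) :=
      { carrier := {q | q ∈ Q ∧ q⁻¹ * (y * q * y⁻¹) ∈ Wb}
        one_mem' := ⟨one_mem _, by simp⟩
        mul_mem' := by
          rintro p q ⟨hp, hp'⟩ ⟨hq, hq'⟩
          refine ⟨mul_mem hp hq, ?_⟩
          rw [show (p * q)⁻¹ * (y * (p * q) * y⁻¹) =
            q⁻¹ * (p⁻¹ * (y * p * y⁻¹) * q) * (q⁻¹ * (y * q * y⁻¹)) by group,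
            ← hWc hp' hq.1, inv_mul_cancel_left]
          exact mul_mem hp' hq'
        inv_mem' := by
          rintro q ⟨hq, hq'⟩
          refine ⟨inv_mem hq, ?_⟩
          rw [show q⁻¹⁻¹ * (y * q⁻¹ * y⁻¹) = q * (q⁻¹ * (y * q * y⁻¹))⁻¹ * q⁻¹ by group,
            hWc (inv_mem hq') hq.1, mul_inv_cancel_right]
          exact inv_mem hq' }
    have hWH : Wb ≤ H' := fun g hg => ⟨hWQ hg, by
      rw [hWc hg hyS, mul_inv_cancel_right, inv_mul_cancel]; exact one_mem _⟩
    have hH'Q : H' = Q := by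
      refine hirred H' hWH (fun q hq => hq.1) (LocalB.mem_normalizer_of_conj_le fun q hq =>
        ⟨(mem_normalizer_iff.1 haQ q).1 hq.1, by
          have h1 : a * (q⁻¹ * (y * q * y⁻¹)) * a⁻¹ = q⁻¹ * (y * q * y⁻¹) := by
            rw [← haWc hq.2, mul_inv_cancel_right]
          have e : (a * q * a⁻¹)⁻¹ * (y * (a * q * a⁻¹) * y⁻¹) = a * (q⁻¹ * (y * q * y⁻¹)) * a⁻¹ := by
            have hy1 : y * a = a * y := hya
            have hy2 : a⁻¹ * y⁻¹ = y⁻¹ * a⁻¹ := by rw [← mul_inv_rev, ← mul_inv_rev, hya]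
            calc (a * q * a⁻¹)⁻¹ * (y * (a * q * a⁻¹) * y⁻¹)
                = a * q⁻¹ * a⁻¹ * ((y * a) * q * (a⁻¹ * y⁻¹)) := by group
              _ = a * q⁻¹ * a⁻¹ * ((a * y) * q * (y⁻¹ * a⁻¹)) := by rw [hy1, hy2]
              _ = a * (q⁻¹ * (y * q * y⁻¹)) * a⁻¹ := by group
          rw [e, h1]; exact hq.2⟩) fun hle => ?_
      -- a fixed point of `y` on `Q / Wb`
      set Sb := (h.sylowQ : Subgroup (Quot S z)) with hSb
      haveI : (Wb.subgroupOf Sb).Normal := ⟨fun g hg s => by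
        show (s : Quot S z) * g * (s : Quot S z)⁻¹ ∈ Wb
        rw [hWc (show (g : Quot S z) ∈ Wb from hg) s.2, mul_inv_cancel_right]; exact hg⟩
      haveI : (Q.subgroupOf Sb).Normal := ⟨fun g hg s =>
        ⟨Subgroup.mul_mem _ (Subgroup.mul_mem _ s.2 hg.1) (Subgroup.inv_mem _ s.2),
          (inferInstance : K.Normal).conj_mem g hg.2 s⟩⟩
      set π' := QuotientGroup.mk' (Wb.subgroupOf Sb)
      haveI : Group.IsNilpotent (Sb ⧸ Wb.subgroupOf Sb) :=
        ((h.sylowQ.2).to_quotient (Wb.subgroupOf Sb)).isNilpotent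
      have hNn : ((Q.subgroupOf Sb).map π').Normal :=
        Normal.map inferInstance _ (QuotientGroup.mk'_surjective _)
      haveI := hNn
      have hNe : (Q.subgroupOf Sb).map π' ≠ ⊥ := fun e => by
        have hQW : Q ≤ Wb := fun g hg => by
          have h1 : π' ⟨g, hg.1⟩ ∈ (Q.subgroupOf Sb).map π' := ⟨_, hg, rfl⟩
          rw [e, mem_bot] at h1
          exact (QuotientGroup.eq_one_iff (⟨g, hg.1⟩ : Sb)).1 h1
        have := card_dvd_of_le hQW
        rw [hQ64, hW4] at this
        norm_num at this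
      obtain ⟨⟨d, hdN, hdC⟩, hd⟩ := Subgroup.ne_bot_iff_exists_ne_one.1
        (CfsgLib.PGroupBasic.inf_center_ne_bot _ hNe)
      obtain ⟨q, hq, rfl⟩ := hdN
      have hq' : ((q : Sb) : Quot S z) ∈ H' := ⟨hq, by
        have h1 := mem_center_iff.1 hdC (π' ⟨y, hyS⟩)
        rw [← map_mul, ← map_mul] at h1
        have h2 : (⟨y, hyS⟩ * q)⁻¹ * (q * ⟨y, hyS⟩) ∈ Wb.subgroupOf Sb := QuotientGroup.eq.1 h1
        have h3 : ((y * q)⁻¹ * ((q : Quot S z) * y) : Quot S z) ∈ Wb := h2
        have h4 := inv_mem h3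
        have e : (q : Quot S z)⁻¹ * (y * q * y⁻¹) =
            y * ((y * q)⁻¹ * ((q : Quot S z) * y))⁻¹ * y⁻¹ := by group
        rw [e, hWc h4 hyS, mul_inv_cancel_right]
        exact h4⟩
      exact hd (Subtype.ext ((QuotientGroup.eq_one_iff q).2 (hle hq')))
    have hyQc : ∀ q ∈ Q, y * q = q * y := by
      let H'' : Subgroup (Quot S z) := Q ⊓ centralizer ({y} : Set (Quot S z))
      have hH'' : H'' = Q := by
        refine hirred H'' (fun g hg => ⟨hWQ hg, mem_centralizer_singleton_iff.2 (hWc hg hyS).symm⟩)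
          inf_le_left (LocalB.mem_normalizer_of_conj_le fun q hq =>
            ⟨(mem_normalizer_iff.1 haQ q).1 hq.1, mem_centralizer_singleton_iff.2 (by
              have hy1 : y * a = a * y := hya
              have hy2 : a⁻¹ * y = y * a⁻¹ := by
                rw [inv_mul_eq_iff_eq_mul, ← mul_assoc, ← hy1, mul_inv_cancel_right]
              calc a * q * a⁻¹ * y = a * q * (a⁻¹ * y) := by group
                _ = a * (q * y) * a⁻¹ := by rw [hy2]; group
                _ = a * (y * q) * a⁻¹ := by rw [mem_centralizer_singleton_iff.1 hq.2]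
                _ = y * (a * q * a⁻¹) := by rw [← mul_assoc a y q, ← hy1]; group)⟩) fun hle => ?_
        obtain ⟨q, hqQ, hqW⟩ : ∃ q ∈ Q, q ∉ Wb := by
          by_contra hno
          push Not at hno
          have := card_dvd_of_le (show Q ≤ Wb from hno)
          rw [hQ64, hW4] at this
          norm_num at this
        have hd := (hH'Q.ge hqQ).2
        have hp : a * q * a⁻¹ * q⁻¹ ∈ H'' := by
          have haq := (mem_normalizer_iff.1 haQ q).1 hqQ
          refine ⟨Q.mul_mem haq (Q.inv_mem hqQ), mem_centralizer_singleton_iff.2 ?_⟩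
          set δ := q⁻¹ * (y * q * y⁻¹) with hδ
          have e1 : y * q * y⁻¹ = q * δ := by rw [hδ, mul_inv_cancel_left]
          have e2 : y * (a * q * a⁻¹) * y⁻¹ = a * q * a⁻¹ * δ := by
            have hy2 : a⁻¹ * y⁻¹ = y⁻¹ * a⁻¹ := by rw [← mul_inv_rev, ← mul_inv_rev, hya]
            calc y * (a * q * a⁻¹) * y⁻¹ = (y * a) * q * (a⁻¹ * y⁻¹) := by group
              _ = (a * y) * q * (y⁻¹ * a⁻¹) := by rw [show y * a = a * y from hya, hy2]
              _ = a * (q * δ) * a⁻¹ := by rw [← e1]; group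
              _ = a * q * a⁻¹ * (a * δ * a⁻¹) := by group
              _ = a * q * a⁻¹ * δ := by rw [← haWc hd, mul_inv_cancel_right]
          refine (mul_inv_eq_iff_eq_mul.1 (?_ : y * (a * q * a⁻¹ * q⁻¹) * y⁻¹ = _)).symm
          calc y * (a * q * a⁻¹ * q⁻¹) * y⁻¹ = y * (a * q * a⁻¹) * y⁻¹ * (y * q * y⁻¹)⁻¹ := by group
            _ = a * q * a⁻¹ * δ * (q * δ)⁻¹ := by rw [e2, e1]
            _ = a * q * a⁻¹ * q⁻¹ := by group
        refine hqW (hfpfQ hqQ ?_)
        rw [show q⁻¹ * (a * q * a⁻¹) = q⁻¹ * (a * q * a⁻¹ * q⁻¹) * q by group, mul_assoc,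
          ← hWc (hle hp) hqQ.1, inv_mul_cancel_left]
        exact hle hp
      exact fun q hq => (mem_centralizer_singleton_iff.1 (hH''.ge hq).2).symm
    obtain ⟨w, hw, hwg⟩ := h.exists_fixing hcore hO hx hx1 hxz (h.sylowQ_le hyS) hg₁
    have hwW : w ∈ Wb := by
      have h1 : g₁⁻¹ * ((a * w * a⁻¹)⁻¹ * y) * g₁ ∈ normQ S z := by
        have hy2 : a⁻¹ * y = y * a⁻¹ := by
          rw [inv_mul_eq_iff_eq_mul, ← mul_assoc, ← (show y * a = a * y from hya), mul_inv_cancel_right]
        rw [show g₁⁻¹ * ((a * w * a⁻¹)⁻¹ * y) * g₁ = g₁⁻¹ * (a * w⁻¹ * (a⁻¹ * y)) * g₁ by group, hy2,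
          show g₁⁻¹ * (a * w⁻¹ * (y * a⁻¹)) * g₁ =
            (g₁⁻¹ * a * g₁) * (g₁⁻¹ * (w⁻¹ * y) * g₁) * (g₁⁻¹ * a * g₁)⁻¹ by group]
        exact mul_mem (mul_mem hg₁a hwg) (inv_mem hg₁a)
      have h2 : g₁⁻¹ * (w⁻¹ * (a * w * a⁻¹)) * g₁ ∈ normQ S z := by
        rw [show g₁⁻¹ * (w⁻¹ * (a * w * a⁻¹)) * g₁ =
          (g₁⁻¹ * (w⁻¹ * y) * g₁) * (g₁⁻¹ * ((a * w * a⁻¹)⁻¹ * y) * g₁)⁻¹ by group]
        exact mul_mem hwg (inv_mem h1)
      have h3 := h.eq_one_of_semiregular hcore hO hx hx1 hxz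
        (mul_mem (inv_mem hw) ((mem_normalizer_iff.1 haQ w).1 hw)) hg₁ h2
      exact hfpfQ hw (h3 ▸ one_mem _)
    have h1 : w⁻¹ * y = 1 := h.eq_one_of_fix hcore hO hx hx1 hxz
      (mul_mem (inv_mem (h.qgroup_le hx hw)) (h.sylowQ_le hyS)) hg₁ hwg fun q hq => by
        rw [mul_assoc, hyQc q hq, ← mul_assoc, ← mul_assoc]
        congr 1
        exact (hWc (inv_mem hwW) hq.1).symm
    rw [← inv_mul_eq_one.1 h1]
    exact hwW
  have hSQ : (h.sylowQ : Subgroup (Quot S z)) ≤ Q := by
    intro y hy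
    let C' := {q : Quot S z // q ∈ (h.sylowQ : Subgroup (Quot S z)) ∧ y⁻¹ * q ∈ Q}
    have haC : ∀ b ∈ zpowers a, ∀ q : C', b * q.1 * b⁻¹ ∈ (h.sylowQ : Subgroup (Quot S z)) ∧
        y⁻¹ * (b * q.1 * b⁻¹) ∈ Q := by
      intro b hb q
      have h1 := (mem_normalizer_iff.1 ((zpowers_le.2 haS) hb) q.1).1 q.2.1
      refine ⟨h1, Subgroup.mul_mem _ (Subgroup.inv_mem _ hy) h1, ?_⟩
      rw [show y⁻¹ * (b * q.1 * b⁻¹) = y⁻¹ * b * y * (y⁻¹ * q.1) * b⁻¹ by group]
      have hbK : b ∈ K := (zpowers_le.2 haK) hb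
      refine K.mul_mem (K.mul_mem ?_ q.2.2.2) (K.inv_mem hbK)
      have := (inferInstance : K.Normal).conj_mem b hbK y⁻¹
      rwa [inv_inv] at this
    letI : MulAction (zpowers a) C' :=
      { smul := fun b q => ⟨(b : Quot S z) * q.1 * (b : Quot S z)⁻¹, haC b b.2 q⟩
        one_smul := fun q => Subtype.ext (show (1 : Quot S z) * q.1 * (1 : Quot S z)⁻¹ = q.1 by group)
        mul_smul := fun b c q => Subtype.ext (show (b : Quot S z) * c * q.1 * ((b : Quot S z) * c)⁻¹ =
          (b : Quot S z) * ((c : Quot S z) * q.1 * (c : Quot S z)⁻¹) * (b : Quot S z)⁻¹ by group) }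
    have hC : Nat.card C' = 64 := by
      rw [← hQ64]
      exact Nat.card_congr ⟨fun q => ⟨y⁻¹ * q.1, q.2.2⟩,
        fun w => ⟨y * w, mul_mem hy w.2.1, by rw [inv_mul_cancel_left]; exact w.2⟩,
        fun q => Subtype.ext (mul_inv_cancel_left y q.1), fun w => Subtype.ext (inv_mul_cancel_left y w.1)⟩
    have hmod := (isPGroup_five ha).card_modEq_card_fixedPoints C'
    rw [hC] at hmod
    have hne : Nat.card (MulAction.fixedPoints (zpowers a) C') ≠ 0 := by
      intro e
      rw [e] at hmod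
      exact absurd hmod (by decide)
    obtain ⟨⟨⟨q, hqS, hqQ⟩, hqf⟩⟩ := (Nat.card_ne_zero.1 hne).1
    have hqc : a * q * a⁻¹ = q := congrArg Subtype.val (hqf ⟨a, mem_zpowers a⟩)
    have hqW := hWQ (hCS q hqS (mul_inv_eq_iff_eq_mul.1 hqc).symm)
    have := mul_mem hqW (inv_mem hqQ)
    rwa [show q * (y⁻¹ * q)⁻¹ = y by group] at this
  -- the instance
  set T := ((S : Subgroup G) : Type u)
  set π := h.projS with hπ
  have hrange : ∀ s : T, π s ∈ Q := fun s => hSQ (h.range_projS ▸ ⟨s, rfl⟩)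
  set α : MulAut T := (S : Subgroup G).normalizerMonoidHom ⟨c, hcS⟩ with hα
  have hαv : ∀ s : T, ((α s : T) : G) = (c : G) * s * (c : G)⁻¹ := fun s => rfl
  have hαπ : ∀ s : T, π (α s) = a * π s * a⁻¹ := fun s => by
    show proj S z _ = _
    rw [show Subgroup.inclusion h.sylow_le (α s) = c * Subgroup.inclusion h.sylow_le s * c⁻¹ from
      Subtype.ext (hαv s), map_mul, map_mul, map_inv]
    rfl
  have hEnd : UEnd W' (⟨z, h.mem.1⟩ : T) π α :=
    { exp := fun w hw => Subtype.ext hw.2.1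
      central := fun w hw s => Subtype.ext (commute_omegaCenter hw s.2)
      z_mem := h.mem
      z_ne := fun e => h.ne (congrArg Subtype.val e)
      pi_z := h.projS_z
      ker_invol := fun t ht ht2 => by
        rcases h.core_invol ((QuotientGroup.eq_one_iff _).1 ht)
          (show (t : G) * t = 1 from congrArg Subtype.val ht2) with e | e
        · exact Or.inl (Subtype.ext e)
        · exact Or.inr (Subtype.ext e)
      img_card := hW4
      sq := fun s => hsqQ (hrange s)
      comm := fun s t => by rw [map_mul, map_mul, map_mul, map_inv, map_inv]; exact hcommQ (hrange s) (hrange t)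
      invol := fun s hs => hinv (hrange s) hs
      fix_W := fun w hw => Subtype.ext ((hαv w).trans (hcW _ hw))
      fix_ker := fun t ht => Subtype.ext ((hαv t).trans (by
        have h1 := mem_centralizer_iff.1 hcD (Subgroup.inclusion h.sylow_le t)
          ⟨(QuotientGroup.eq_one_iff _).1 ht, t.2⟩
        have h2 : (t : G) * c = c * t := congrArg Subtype.val h1
        rw [← h2, mul_inv_cancel_right]))
      pow_five := fun s => by
        rw [hαπ, hαπ, hαπ, hαπ, hαπ,
          show a * (a * (a * (a * (a * π s * a⁻¹) * a⁻¹) * a⁻¹) * a⁻¹) * a⁻¹ = a ^ 5 * π s * (a ^ 5)⁻¹ by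
            simp only [pow_succ, pow_zero, one_mul]; group,
          ha, one_mul, inv_one, mul_one]
      fpf := fun s hs => hfpfQ (hrange s) (by rwa [map_mul, map_inv, hαπ] at hs)
      irred := fun L hR hαL ⟨k, hk, hkW⟩ => by
        have hL : L.map π = Q := hirred (L.map π) (fun g hg => by
            obtain ⟨w, hw, rfl⟩ := hg
            exact ⟨w, hR w ⟨w, hw, rfl⟩, rfl⟩) (by rintro _ ⟨s, -, rfl⟩; exact hrange s)
          (LocalB.mem_normalizer_of_conj_le fun g hg => by
            obtain ⟨s, hs, rfl⟩ := hg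
            exact ⟨α s, hαL s hs, hαπ s⟩)
          (fun hle => hkW (hle ⟨k, hk, rfl⟩))
        refine eq_top_iff.2 fun s _ => ?_
        obtain ⟨l, hl, e⟩ := hL.ge (hrange s)
        have := mul_mem hl (hR (l⁻¹ * s) (by
          rw [map_mul, map_inv, e, inv_mul_cancel]; exact one_mem _))
        rwa [mul_inv_cancel_left] at this
      big := fun s t => by
        by_contra hno
        push Not at hno
        let bad : Set (Quot S z) := (fun p : Bool × Bool × Wb =>
          (if p.1 then π s else 1) * (if p.2.1 then π t else 1) * (p.2.2 : Quot S z)) '' Set.univ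
        have hsub : (Q : Set (Quot S z)) ⊆ bad := by
          intro g hg
          obtain ⟨d, hd⟩ : ∃ d : T, π d = g := by
            obtain ⟨c', hc', e⟩ := h.mem_sylowQ.1 hg.1
            exact ⟨⟨c', hc'⟩, e⟩
          by_cases h1 : π d ∈ Wb
          · exact ⟨(false, false, ⟨π d, h1⟩), trivial, by simp [hd]⟩
          by_cases h2 : π (s⁻¹ * d) ∈ Wb
          · exact ⟨(true, false, ⟨_, h2⟩), trivial, by simp [← hd]⟩
          by_cases h3 : π (t⁻¹ * d) ∈ Wb
          · exact ⟨(false, true, ⟨_, h3⟩), trivial, by simp [← hd]⟩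
          refine ⟨(true, true, ⟨_, hno d h1 h2 h3⟩), trivial, ?_⟩
          simp [← hd, mul_assoc]
        have h1 := Set.ncard_le_ncard hsub (Set.toFinite _)
        have h2 : bad.ncard ≤ _ := Set.ncard_image_le (Set.toFinite _)
        rw [Set.ncard_univ, Nat.card_prod, Nat.card_prod, hW4] at h2
        simp at h2
        have h3 : (Q : Set (Quot S z)).ncard = Nat.card Q := (Nat.card_coe_set_eq _).symm
        omega
      trans := fun w hw hw1 => by
        obtain ⟨n, hn, e⟩ := htr w hw fun e => hw1 (Subtype.ext e)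
        exact ⟨(S : Subgroup G).normalizerMonoidHom ⟨n, hn⟩, Subtype.ext e⟩ }
  exact hEnd.false S.2

end Bad

end CfsgLib.CentralRankOne
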