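import Cfsg.Agent.CentralRankOne.Rigid
import Cfsg.Agent.UMult.ThreeP
import Cfsg.Agent.U3Type.Syl

/-!
# The Sylow normalizer of `PSU₃(2ⁿ)` is irreducible on the central quotient
-/

set_option autoImplicit false
set_option linter.unusedSectionVars false
set_option linter.style.haveILetI false

namespace CfsgLib.CentralRankOne

open Subgroup
open CfsgLib.MinIdxPSU CfsgLib.MinIdxU3 CfsgLib.Unitary

universe u

/-- A scalar of the form `t ^ (2q - 1)` of order larger than `q + 1`. -/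
theorem exists_big_scalar {F : Type*} [Field F] [Finite F] {q : ℕ} (hF : Nat.card F = q ^ 2) (hq : 4 ≤ q) :
    ∃ t : Fˣ, ∃ w : Fˣ, (w : F) = (t : F) ^ q * ((t : F) ^ q / t) ∧ q + 1 < orderOf w := by
  obtain ⟨t, ht⟩ := IsCyclic.exists_ofOrder_eq_natCard (α := Fˣ)
  rw [Nat.card_units, hF] at ht
  refine ⟨t, t ^ q * (t ^ q / t), by simp, ?_⟩
  set w := t ^ q * (t ^ q / t) with hw
  by_contra hle
  push Not at hle
  set k := orderOf w with hk
  have hk0 : 0 < k := orderOf_pos w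
  have hwt : w * t = t ^ (2 * q) := by rw [hw, mul_assoc, div_mul_cancel, ← pow_add, two_mul]
  have h1 : t ^ k = t ^ (2 * q * k) := by
    rw [pow_mul, ← hwt, mul_pow, hk, pow_orderOf_eq_one, one_mul]
  have h2 : t ^ ((2 * q - 1) * k) = 1 := by
    have h3 : (2 * q - 1) * k + k = 2 * q * k := by
      obtain ⟨j, hj⟩ := Nat.exists_eq_add_of_le (show 1 ≤ 2 * q by omega)
      rw [hj, Nat.add_sub_cancel_left]; ring
    have := h1
    rw [← h3, pow_add] at this
    exact mul_right_cancel (this.symm.trans (one_mul _).symm)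
  have h4 := orderOf_dvd_of_pow_eq_one h2
  rw [ht] at h4
  have h5 : q ^ 2 - 1 ∣ 3 * k := by
    have e : (2 * q + 1) * ((2 * q - 1) * k) = 4 * (q ^ 2 - 1) * k + 3 * k := by
      obtain ⟨j, hj⟩ := Nat.exists_eq_add_of_le (show 1 ≤ 2 * q by omega)
      obtain ⟨i, hi⟩ := Nat.exists_eq_add_of_le (show 1 ≤ q ^ 2 from Nat.one_le_pow _ _ (by omega))
      rw [hj, Nat.add_sub_cancel_left, hi, Nat.add_sub_cancel_left]
      nlinarith [congrArg (fun x => x * k) hi, congrArg (fun x => x * x * k) hj]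
    have h6 : q ^ 2 - 1 ∣ (2 * q + 1) * ((2 * q - 1) * k) := dvd_mul_of_dvd_right h4 _
    rw [e] at h6
    exact (Nat.dvd_add_right (Dvd.intro (4 * k) (by ring))).1 h6
  have h7 := Nat.le_of_dvd (by omega) h5
  have h8 : q ≤ 4 := by
    by_contra hq5
    have : 5 * q ≤ q ^ 2 := by rw [pow_two]; exact Nat.mul_le_mul_right q (by omega)
    omega
  obtain rfl : q = 4 := by omega
  norm_num at h4 hle
  obtain ⟨r, hr⟩ := h4
  omega

/-- The normalizer of some Sylow 2-subgroup is irreducible over the involutions. -/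
theorem psu_irred {F : Type*} [Field F] [Finite F] [CharP F 2] {n : ℕ} (hn : 2 ≤ n)
    (hF : Nat.card F = (2 ^ n) ^ 2) :
    ∃ P : Sylow 2 (Cfsg.PSU 3 F (2 ^ n)), ∀ K : Subgroup (Cfsg.PSU 3 F (2 ^ n)),
      omegaCenter P ≤ K → K ≤ (P : Subgroup _) →
      (∀ g ∈ normalizer ((P : Subgroup (Cfsg.PSU 3 F (2 ^ n))) : Set (Cfsg.PSU 3 F (2 ^ n))), ∀ k ∈ K, g * k * g⁻¹ ∈ K) →
      K = omegaCenter P ∨ K = (P : Subgroup _) := by
  classical
  haveI : Fact (Nat.Prime 2) := ⟨Nat.prime_two⟩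
  set q := 2 ^ n with hq
  have hq4 : 4 ≤ q := by
    calc 4 = 2 ^ 2 := by norm_num
      _ ≤ 2 ^ n := Nat.pow_le_pow_right (by norm_num) hn
  have hqe : Even q := even_two.pow_of_ne_zero (by omega)
  set π := QuotientGroup.mk' (center (G 1 F q)) with hπ
  have hidx : ¬ 2 ∣ (Rad (F := F) (q := q) hF).index := by
    have h1 := (Rad (F := F) (q := q) hF).card_mul_index
    rw [card_Rad hF, card_G3 hF, mul_assoc] at h1
    rw [Nat.eq_of_mul_eq_mul_left (pow_pos (by omega) 3) h1, Nat.prime_two.dvd_mul]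
    rintro (h | h)
    · have h1 : 1 ≤ q ^ 2 := Nat.one_le_pow _ _ (by omega)
      have h2 : Odd (q ^ 2 - 1) := Nat.Even.sub_odd h1 (hqe.pow_of_ne_zero two_ne_zero) odd_one
      exact Nat.not_even_iff_odd.2 h2 (even_iff_two_dvd.2 h)
    · exact Nat.not_even_iff_odd.2 ((hqe.pow_of_ne_zero three_ne_zero).add_one) (even_iff_two_dvd.2 h)
  have hRp : IsPGroup 2 (Rad (F := F) (q := q) hF) := IsPGroup.of_card (n := n * 3) (by
    rw [card_Rad hF, hq, ← pow_mul])
  have hPidx : ¬ 2 ∣ ((Rad (F := F) (q := q) hF).map π).index := fun h =>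
    hidx (h.trans (index_map_dvd _ (QuotientGroup.mk'_surjective _)))
  let P : Sylow 2 (Cfsg.PSU 3 F q) := (hRp.map π).toSylow hPidx
  have hPcoe : (P : Subgroup (Cfsg.PSU 3 F q)) = (Rad (F := F) (q := q) hF).map π := rfl
  refine ⟨P, fun K hWK hKP hinv => ?_⟩
  have hfacts := U3Type.facts_psu (by omega : n ≠ 0) hF P
  have hz : ∀ z : Skew hF, π (zE (k := 1) hF z) ∈ omegaCenter P := fun z => by
    have hmem : π (zE (k := 1) hF z) ∈ (P : Subgroup (Cfsg.PSU 3 F q)) := ⟨_, zE_mem_Rad hF z, rfl⟩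
    have h2 : π (zE (k := 1) hF z) * π (zE (k := 1) hF z) = 1 := by
      rw [← map_mul, ← zE_add, show z + z = 0 from Subtype.ext (CharTwo.add_self_eq_zero _), zE_zero, map_one]
    exact ⟨hmem, h2, fun s hs =>
      (congrArg Subtype.val (hfacts.central ⟨_, hmem⟩ (Subtype.ext h2) ⟨s, hs⟩)).symm⟩
  set H := K.comap π with hH
  set A := abar hF H with hA
  by_cases hA0 : A = ⊥
  · refine Or.inl (le_antisymm (fun k hk => ?_) hWK)
    obtain ⟨r, hr, rfl⟩ := hKP hk
    have h0 : gam hF r = 0 := by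
      have : gam hF r ∈ A := ⟨r, ⟨hk, hr⟩, rfl⟩
      rwa [hA0, AddSubgroup.mem_bot] at this
    obtain ⟨z, rfl⟩ := eq_zE_of_gam hF hr h0
    exact hz z
  refine Or.inr (le_antisymm hKP ?_)
  obtain ⟨t, w, hw, how⟩ := exists_big_scalar hF hq4
  obtain ⟨g, hg, hgl⟩ := UMult.exists_Bor hF t
  have hgn : π g ∈ normalizer ((P : Subgroup (Cfsg.PSU 3 F q)) : Set (Cfsg.PSU 3 F q)) := by
    refine LocalB.mem_normalizer_of_conj_le fun a ha => ?_
    obtain ⟨r, hr, rfl⟩ := ha
    exact ⟨g * r * g⁻¹, (gam_conj hF hg hr).1, by rw [map_mul, map_mul, map_inv]⟩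
  let Stab : Subfield F :=
    { carrier := {c | ∀ a ∈ A, c * a ∈ A}
      mul_mem' := fun {c d} hc hd a ha => by rw [mul_assoc]; exact hc _ (hd a ha)
      one_mem' := fun a ha => by rwa [one_mul]
      add_mem' := fun {c d} hc hd a ha => by rw [add_mul]; exact add_mem (hc a ha) (hd a ha)
      zero_mem' := fun a _ => by rw [zero_mul]; exact zero_mem A
      neg_mem' := fun {c} hc a ha => by rw [neg_mul]; exact neg_mem (hc a ha)
      inv_mem' := fun c hc => by
        by_cases h0 : c = 0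
        · intro a _; rw [h0, inv_zero, zero_mul]; exact zero_mem A
        have h1 : c⁻¹ = c ^ (Nat.card Fˣ - 1) := by
          have h2 : (Units.mk0 c h0) ^ Nat.card Fˣ = 1 := pow_card_eq_one'
          have h3 : c * c ^ (Nat.card Fˣ - 1) = 1 := by
            rw [← pow_succ', Nat.sub_add_cancel Nat.card_pos]
            rw [show c = ((Units.mk0 c h0 : Fˣ) : F) from rfl, ← Units.val_pow_eq_pow_val, h2, Units.val_one]
          exact (eq_inv_of_mul_eq_one_right h3).symm
        rw [h1]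
        have h4 : ∀ i : ℕ, ∀ a ∈ A, c ^ i * a ∈ A := fun i => by
          induction i with
          | zero => intro a ha; rwa [pow_zero, one_mul]
          | succ i ih => intro a ha; rw [pow_succ, mul_assoc]; exact ih _ (hc a ha)
        exact h4 _ }
  have hwS : (w : F) ∈ Stab := by
    intro a ha
    obtain ⟨r, ⟨hr1, hr2⟩, rfl⟩ := ha
    obtain ⟨hm, he⟩ := gam_conj hF hg hr2
    refine ⟨g * r * g⁻¹, ⟨?_, hm⟩, ?_⟩
    · show π (g * r * g⁻¹) ∈ K
      rw [map_mul, map_mul, map_inv]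
      exact hinv _ hgn _ hr1
    · rw [he, hgl, hw]
  have htop := UMult.subfield_eq_top hF Stab hwS how
  obtain ⟨a, haA, ha0⟩ : ∃ a ∈ A, a ≠ 0 := by
    by_contra hno
    push Not at hno
    exact hA0 ((AddSubgroup.eq_bot_iff_forall _).2 hno)
  rintro k ⟨r, hr, rfl⟩
  have hrA : gam hF r ∈ A := by
    have h1 : gam hF r / a ∈ Stab := htop ▸ Subfield.mem_top _
    have := h1 a haA
    rwa [div_mul_cancel₀ _ ha0] at this
  obtain ⟨r', ⟨hr'K, hr'⟩, he⟩ := hrA
  have h0 : gam hF (r'⁻¹ * r) = 0 := by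
    rw [gam_mul hF (inv_mem hr') hr, UMult.gam_inv hF hr', he, neg_add_cancel]
  obtain ⟨z, hzr⟩ := eq_zE_of_gam hF (mul_mem (inv_mem hr') hr) h0
  have hr3 : r = r' * zE (k := 1) hF z := by rw [← hzr, mul_inv_cancel_left]
  rw [hr3, map_mul]
  exact mul_mem hr'K (hWK (hz z))

variable {L : Type u} [Group L] [Finite L]

/-- `PSU₃(2ⁿ)` is rigid, given the fusion of its central involutions. -/
theorem rigid_of_unitary {F : Type} [Field F] [Fintype F] {n : ℕ} (hn : 2 ≤ n)
    (hc : Fintype.card F = (2 ^ n) ^ 2) (e : L ≃* Cfsg.PSU 3 F (2 ^ n))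
    (htr : ∀ P : Sylow 2 L, (∀ a ∈ (P : Subgroup L), a * a = 1 → a ∈ omegaCenter P) →
      ∀ a ∈ omegaCenter P, ∀ b ∈ omegaCenter P, a ≠ 1 → b ≠ 1 →
        ∃ g ∈ normalizer ((P : Subgroup L) : Set L), g * a * g⁻¹ = b) :
    ∃ P : Sylow 2 L, Rigid P := by
  classical
  haveI : Fact (Nat.Prime 2) := ⟨Nat.prime_two⟩
  haveI : CharP F 2 := by
    have hc' : Fintype.card F = 2 ^ (n * 2) := by rw [hc, ← pow_mul]
    exact charP_of_card_eq_prime_pow hc'
  have hF : Nat.card F = (2 ^ n) ^ 2 := by rw [Nat.card_eq_fintype_card, hc]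
  obtain ⟨P₀, hirr⟩ := psu_irred hn hF
  let P : Sylow 2 L := P₀.mapSurjective (f := e.symm.toMonoidHom) e.symm.surjective
  have hP : ∀ g : L, g ∈ (P : Subgroup L) ↔ e g ∈ (P₀ : Subgroup (Cfsg.PSU 3 F (2 ^ n))) := fun g =>
    ⟨fun ⟨x, hx, he⟩ => by rw [← he, MulEquiv.coe_toMonoidHom, e.apply_symm_apply]; exact hx, fun hg => ⟨e g, hg, by simp⟩⟩
  have hfacts := U3Type.facts_psu (by omega : n ≠ 0) hF P₀
  have hW : ∀ g : L, g ∈ omegaCenter P ↔ e g ∈ omegaCenter P₀ := fun g => by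
    constructor
    · rintro ⟨h1, h2, h3⟩
      refine ⟨(hP g).1 h1, by rw [← map_mul, h2, map_one], fun s hs => ?_⟩
      have := h3 (e.symm s) ((hP _).2 (by simpa using hs))
      simpa using congrArg e this
    · rintro ⟨h1, h2, h3⟩
      refine ⟨(hP g).2 h1, e.injective (by rw [map_mul, h2, map_one]), fun s hs => e.injective ?_⟩
      rw [map_mul, map_mul]
      exact h3 _ ((hP s).1 hs)
  have hin : ∀ g : Cfsg.PSU 3 F (2 ^ n), g ∈ (P₀ : Subgroup _) → g * g = 1 → g ∈ omegaCenter P₀ :=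
    fun g hg h2 => ⟨hg, h2, fun s hs =>
      (congrArg Subtype.val (hfacts.central ⟨g, hg⟩ (Subtype.ext h2) ⟨s, hs⟩)).symm⟩
  have hcentral : ∀ a ∈ (P : Subgroup L), a * a = 1 → a ∈ omegaCenter P := fun a ha h2 =>
    (hW a).2 (hin _ ((hP a).1 ha) (by rw [← map_mul, h2, map_one]))
  have hcW : Nat.card (omegaCenter P) = 2 ^ n := by
    rw [← hfacts.card_inv]
    exact Nat.card_congr
      { toFun := fun g => ⟨⟨e g, ((hW g).1 g.2).1⟩, Subtype.ext ((hW g).1 g.2).2.1⟩
        invFun := fun g => ⟨e.symm g.1, (hW _).2 (by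
          rw [e.apply_symm_apply]
          exact hin _ g.1.2 (congrArg Subtype.val g.2))⟩
        left_inv := fun g => Subtype.ext (e.symm_apply_apply _)
        right_inv := fun g => Subtype.ext (Subtype.ext (e.apply_symm_apply _)) }
  have hcP : Nat.card (P : Subgroup L) = (2 ^ n) ^ 3 := by
    rw [← hfacts.card]
    exact Nat.card_congr
      { toFun := fun g => ⟨e g, (hP g).1 g.2⟩
        invFun := fun g => ⟨e.symm g, (hP _).2 (by simp)⟩
        left_inv := fun g => Subtype.ext (e.symm_apply_apply _)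
        right_inv := fun g => Subtype.ext (e.apply_symm_apply _) }
  have h4 : 4 ≤ 2 ^ n := by
    calc 4 = 2 ^ 2 := by norm_num
      _ ≤ 2 ^ n := Nat.pow_le_pow_right (by norm_num) hn
  refine ⟨P, hcentral, ?_, htr P hcentral, Or.inr ⟨?_, ?_, ?_, ?_⟩⟩
  · obtain ⟨a, ha, b, hb, h1⟩ : ∃ a ∈ omegaCenter P, ∃ b ∈ omegaCenter P, a ≠ 1 ∧ b ≠ 1 ∧ a ≠ b := by
      have hlt : 2 < ((omegaCenter P : Subgroup L) : Set L).ncard := by
        rw [show ((omegaCenter P : Subgroup L) : Set L).ncard = Nat.card (omegaCenter P) from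
          (Nat.card_coe_set_eq _).symm, hcW]
        omega
      obtain ⟨a, ha, ha1⟩ := Set.exists_ne_of_one_lt_ncard (s := ((omegaCenter P : Subgroup L) : Set L)) (by omega) (1 : L)
      obtain ⟨b, hb, hb1⟩ := Set.not_subset.1
        fun hs : ((omegaCenter P : Subgroup L) : Set L) ⊆ {1, a} => by
          have h1 := (Set.ncard_le_ncard hs (Set.toFinite _)).trans (Set.ncard_insert_le (1 : L) {a})
          rw [Set.ncard_singleton] at h1
          omega
      simp only [Set.mem_insert_iff, Set.mem_singleton_iff, not_or] at hb1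
      exact ⟨a, ha, b, hb, ha1, hb1.1, Ne.symm hb1.2⟩
    exact ⟨a, ha, b, hb, h1⟩
  · intro s hs
    refine hcentral _ (mul_mem hs hs) (e.injective ?_)
    rw [map_mul, map_mul, map_one]
    exact congrArg Subtype.val (hfacts.sq_sq ⟨e s, (hP s).1 hs⟩)
  · intro s hs t ht
    refine hcentral _ (mul_mem (mul_mem (mul_mem hs ht) (inv_mem hs)) (inv_mem ht)) (e.injective ?_)
    simp only [map_mul, map_inv, map_one]
    exact congrArg Subtype.val (hfacts.comm_sq ⟨e s, (hP s).1 hs⟩ ⟨e t, (hP t).1 ht⟩)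
  · rw [hcW, hcP]
    nlinarith [Nat.mul_le_mul h4 (le_refl (2 ^ n * 2 ^ n))]
  · intro K hWK hKP hinv
    rcases hirr (K.map e.toMonoidHom) (fun g hg => ⟨e.symm g, hWK ((hW _).2 (by simpa using hg)), by simp⟩)
      (by rintro _ ⟨k, hk, rfl⟩; exact (hP k).1 (hKP hk)) (by
        rintro g hg _ ⟨k, hk, rfl⟩
        refine ⟨e.symm g * k * (e.symm g)⁻¹, hinv _ (mem_normalizer_iff.2 fun x => ?_) k hk, by simp⟩
        rw [hP, hP, map_mul, map_mul, map_inv, e.apply_symm_apply]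
        exact mem_normalizer_iff.1 hg (e x)) with h | h
    · refine Or.inl (le_antisymm (fun k hk => (hW k).2 ?_) hWK)
      rw [← h]; exact ⟨k, hk, rfl⟩
    · refine Or.inr (le_antisymm hKP fun k hk => ?_)
      obtain ⟨k', hk', he⟩ := h.ge ((hP k).1 hk)
      rwa [← e.injective he]

end CfsgLib.CentralRankOne
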