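import Cfsg.Agent.CentralRankOne.Four
import Cfsg.Agent.CentralRankOne.Unitary
import Cfsg.Agent.CentralRankOne.UnitaryRigid
import Cfsg.Agent.CentralMeet.Ext
import Cfsg.Agent.GW.Top.Statement
import Cfsg.Agent.AbelianSolvCent.Simple
import Cfsg.Agent.Classical.SmallPSL
import Cfsg.Agent.CTwoAbelian.Cover
import Cfsg.Agent.S0205

/-!
# Simple groups whose central intersections of Sylow 2-subgroups have rank one

The five possibilities, from the characterisation of `U₃(4)` and the embedding criterion.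
-/

set_option autoImplicit false
set_option linter.unusedSectionVars false
set_option linter.style.haveILetI false

namespace CfsgLib.CentralRankOne

open Subgroup
open CfsgLib.Criterion.Act (Core)

universe u

/-- The five kinds of simple groups. -/
def Five (G : Type u) [Group G] : Prop :=
  (∃ (n : ℕ) (F : Type) (_ : Field F) (_ : Fintype F), 2 ≤ n ∧ Fintype.card F = 2 ^ n ∧
      Nonempty (G ≃* Matrix.ProjectiveSpecialLinearGroup (Fin 2) F)) ∨
  (∃ (m : ℕ) (F : Type) (_ : Field F) (_ : Fintype F), 1 ≤ m ∧ Fintype.card F = 2 ^ (2 * m + 1) ∧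
      Nonempty (G ≃* ↥(Cfsg.Lie.Sz F (2 ^ (m + 1))))) ∨
  (∃ (n : ℕ) (F : Type) (_ : Field F) (_ : Fintype F), 2 ≤ n ∧ Fintype.card F = 4 ^ n ∧
      Nonempty (G ≃* Cfsg.PSU 3 F (2 ^ n))) ∨
  (∃ (F : Type) (_ : Field F) (_ : Fintype F), (Fintype.card F % 8 = 3 ∨ Fintype.card F % 8 = 5) ∧
      5 < Fintype.card F ∧ Nonempty (G ≃* Matrix.ProjectiveSpecialLinearGroup (Fin 2) F)) ∨
  Cfsg.IsJ1 G

variable {G : Type u} [Group G] [Finite G]

theorem five_of_three (h : Bender.Consumers.Three G) : Five G := by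
  rcases h with ⟨F, i1, i2, ⟨n, hn, hc⟩, e⟩ | ⟨F, i1, i2, m, hm, hc, e⟩ | ⟨F, i1, i2, n, hn, hc, e⟩
  · exact Or.inl ⟨n, F, i1, i2, hn, hc, e⟩
  · exact Or.inr (Or.inl ⟨m, F, i1, i2, hm, hc, e⟩)
  · refine Or.inr (Or.inr (Or.inl ⟨n, F, i1, i2, hn, ?_, e⟩))
    rw [hc, show (4 : ℕ) = 2 ^ 2 from rfl, ← pow_mul, ← pow_mul, mul_comm]

/-- Two elements of a group of exponent two avoiding a given element. -/
theorem exists_avoid {A : Subgroup G} (hc : 4 < Nat.card A) (h2 : ∀ a ∈ A, a * a = 1) (z : G) :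
    ∃ a ∈ A, ∃ b ∈ A, a ≠ 1 ∧ b ≠ 1 ∧ a ≠ z ∧ b ≠ z ∧ a ≠ b ∧ a * b ≠ z := by
  classical
  have hc' : 4 < (A : Set G).ncard := by
    rwa [show (A : Set G).ncard = Nat.card A from (Nat.card_coe_set_eq _).symm]
  obtain ⟨a, haA, ha⟩ := Set.not_subset.1 fun hs : (A : Set G) ⊆ {1, z} => by
    have h1 := (Set.ncard_le_ncard hs (Set.toFinite _)).trans (Set.ncard_insert_le _ _)
    rw [Set.ncard_singleton] at h1
    omega
  obtain ⟨b, hbA, hb⟩ := Set.not_subset.1 fun hs : (A : Set G) ⊆ {1, z, a, a * z} => by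
    have h1 := Set.ncard_le_ncard hs (Set.toFinite _)
    have h3 := Set.ncard_insert_le (1 : G) ({z, a, a * z} : Set G)
    have h4 := Set.ncard_insert_le z ({a, a * z} : Set G)
    have h5 := Set.ncard_insert_le a ({a * z} : Set G)
    rw [Set.ncard_singleton] at h5
    omega
  simp only [Set.mem_insert_iff, Set.mem_singleton_iff, not_or] at ha hb
  refine ⟨a, haA, b, hbA, ha.1, hb.1, ha.2, hb.2.1, Ne.symm hb.2.2.1, fun e => hb.2.2.2 ?_⟩
  rw [← e, ← mul_assoc, h2 a haA, one_mul]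

theorem even_of_simple [IsSimpleGroup G] (hG : ¬ IsMulCommutative G) : ¬ Odd (Nat.card G) :=
  fun ho => hG ⟨⟨fun a b => IsSimpleGroup.comm_iff_isSolvable.2 (Cfsg.Agent.S0205.result ho) a b⟩⟩

theorem center_eq_bot_of_simple [IsSimpleGroup G] (hG : ¬ IsMulCommutative G) : center G = ⊥ :=
  (inferInstance : (center G).Normal).eq_bot_or_eq_top.resolve_right fun h => hG
    ⟨⟨fun a b => mem_center_iff.1 (h ▸ mem_top b : b ∈ center G) a⟩⟩

theorem normalizer_sylow_ne_top [IsSimpleGroup G] (hG : ¬ IsMulCommutative G) (S : Sylow 2 G) :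
    normalizer ((S : Subgroup G) : Set G) ≠ ⊤ := by
  haveI : Fact (Nat.Prime 2) := ⟨Nat.prime_two⟩
  intro e
  rcases (normalizer_eq_top_iff.1 e).eq_bot_or_eq_top with h | h
  · refine even_of_simple hG (Nat.not_even_iff_odd.1 fun he => ?_)
    have h1 := (S : Subgroup G).index_mul_card
    rw [h, card_bot, mul_one] at h1
    exact S.not_dvd_index (by rw [h, h1]; exact even_iff_two_dvd.1 he)
  · have hP : IsPGroup 2 G := S.2.of_equiv ((MulEquiv.subgroupCongr h).trans Subgroup.topEquiv)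
    haveI := hP.isNilpotent
    exact hG ⟨⟨fun a b => IsSimpleGroup.comm_iff_isSolvable.2 inferInstance a b⟩⟩

/-- Two distinct nontrivial central involutions. -/
theorem exists_two [IsSimpleGroup G] (hG : ¬ IsMulCommutative G) (hM : Meets G) (S : Sylow 2 G) :
    ∃ z ∈ omegaCenter S, z ≠ 1 ∧ ∀ v ∈ omegaCenter S, v ≠ 1 →
      ∃ y ∈ omegaCenter S, y ≠ 1 ∧ y ≠ v := by
  obtain ⟨x, hxS, hx1⟩ : ∃ x ∈ (S : Subgroup G), x ≠ 1 := by
    by_contra hno
    push Not at hno
    haveI : Fact (Nat.Prime 2) := ⟨Nat.prime_two⟩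
    refine normalizer_sylow_ne_top hG S ?_
    rw [show (S : Subgroup G) = ⊥ from (eq_bot_iff_forall _).2 hno, normalizer_eq_top_iff]
    infer_instance
  obtain ⟨z, hz, hz1⟩ := exists_omegaCenter hxS hx1
  refine ⟨z, hz, hz1, fun v hv hv1 => exists_second hM hv hv1 ?_⟩
  rintro ⟨N, hN, hodd, hc⟩
  rcases hN.eq_bot_or_eq_top with h | h
  · have hvc : v ∈ center G := mem_center_iff.2 fun g => by
      have h1 := hc g
      rw [h, mem_bot, mul_inv_eq_one, mul_inv_eq_iff_eq_mul] at h1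
      exact h1
    rw [center_eq_bot_of_simple hG, mem_bot] at hvc
    exact hv1 hvc
  · rw [h, card_top] at hodd
    exact even_of_simple hG hodd

/-- In rank two the involutions of `S` are central. -/
theorem invol_central {S : Sylow 2 G} (hr : Cfsg.PRankLE 2 2 G) {z y : G} (hz : z ∈ omegaCenter S)
    (hz1 : z ≠ 1) (hy : y ∈ omegaCenter S) (hy1 : y ≠ 1) (hyz : y ≠ z) {a : G}
    (ha : a ∈ (S : Subgroup G)) (ha2 : a * a = 1) : a ∈ omegaCenter S := by
  classical
  set W := omegaCenter S with hW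
  by_contra haW
  have hca : ∀ w ∈ W, a * w = w * a := fun w hw => commute_omegaCenter hw ha
  have hww : ∀ v ∈ W, ∀ w ∈ W, v * w = w * v := fun v hv w hw => commute_omegaCenter hw hv.1
  let A : Subgroup G :=
    { carrier := {g | g ∈ W ∨ g * a ∈ W}
      one_mem' := Or.inl (one_mem _)
      mul_mem' := by
        rintro p q (hp | hp) (hq | hq)
        · exact Or.inl (mul_mem hp hq)
        · exact Or.inr (by rw [mul_assoc]; exact mul_mem hp hq)
        · refine Or.inr ?_
          rw [show p * q * a = p * (q * a) from mul_assoc p q a, ← hca q hq, ← mul_assoc]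
          exact mul_mem hp hq
        · refine Or.inl ?_
          have hq' : a * (q * a) = (q * a) * a := hca _ hq
          have : p * q = (p * a) * (q * a) := by
            rw [mul_assoc p a (q * a), hq', mul_assoc q a a, ha2, mul_one]
          rw [this]
          exact mul_mem hp hq
      inv_mem' := by
        rintro p (hp | hp)
        · exact Or.inl (inv_mem hp)
        · refine Or.inr ?_
          have hai : a⁻¹ = a := inv_eq_of_mul_eq_one_right ha2
          have h1 := inv_mem hp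
          rw [mul_inv_rev, hai] at h1
          have h2 := hca _ h1
          rw [← mul_assoc, ha2, one_mul] at h2
          rw [h2, mul_assoc, mul_assoc, ha2, mul_one]
          exact h1 }
  have hA : ∀ g ∈ A, ∃ w ∈ W, g = w ∨ g = w * a := by
    rintro g (hg | hg)
    · exact ⟨g, hg, Or.inl rfl⟩
    · exact ⟨g * a, hg, Or.inr (by rw [mul_assoc, ha2, mul_one])⟩
  have hAc : IsMulCommutative A := ⟨⟨fun p q => Subtype.ext (by
    obtain ⟨v, hv, e⟩ := hA p p.2
    obtain ⟨w, hw, e'⟩ := hA q q.2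
    show (p : G) * q = q * p
    have c1 : Commute v w := hww v hv w hw
    have c2 : Commute a w := hca w hw
    have c3 : Commute a v := hca v hv
    rcases e with e | e <;> rcases e' with e' | e' <;> rw [e, e']
    · exact c1.eq
    · exact (c1.mul_right c3.symm).eq
    · exact (c1.mul_left c2).eq
    · exact ((c1.mul_right c3.symm).mul_left (c2.mul_right (Commute.refl a))).eq)⟩⟩
  have hA2 : ∀ g ∈ A, g ^ 2 = 1 := fun g hg => by
    obtain ⟨w, hw, e | e⟩ := hA g hg
    · rw [e, sq]; exact hw.2.1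
    · rw [e, (show Commute w a from (hca w hw).symm).mul_pow, sq, sq, hw.2.1, ha2, one_mul]
  have h4 := hr A hAc hA2
  have hsub : ({1, z, y, z * y, a} : Set G) ⊆ (A : Set G) := by
    rintro g (rfl | rfl | rfl | rfl | rfl)
    · exact one_mem A
    · exact Or.inl hz
    · exact Or.inl hy
    · exact Or.inl (mul_mem hz hy)
    · exact Or.inr (by rw [ha2]; exact one_mem _)
  have hzy1 : z * y ≠ 1 := fun e => hyz (((inv_eq_of_mul_eq_one_right e).symm.trans
    (inv_eq_of_mul_eq_one_right hz.2.1)))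
  have hne : ∀ w ∈ W, w ≠ a := fun w hw e => haW (e ▸ hw)
  have h5 := Set.ncard_le_ncard hsub (Set.toFinite _)
  rw [Set.ncard_insert_of_notMem (by
      simp [Ne.symm hz1, Ne.symm hy1, Ne.symm hzy1, Ne.symm (Ne.symm (hne 1 (one_mem _)))]),
    Set.ncard_insert_of_notMem (by simp [Ne.symm hyz, hne z hz, hy1]),
    Set.ncard_insert_of_notMem (by simp [hne y hy, hz1]),
    Set.ncard_insert_of_notMem (by simp [hne (z * y) (mul_mem hz hy)]), Set.ncard_singleton] at h5
  have h6 : (A : Set G).ncard = Nat.card A := (Nat.card_coe_set_eq _).symm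
  omega

/-- Either a Suzuki group or rigid Sylow 2-subgroups. -/
def Kind (G : Type u) [Group G] : Prop :=
  Cfsg.Lie.IsoSuzuki G ∨ ∃ P : Sylow 2 G, Rigid P

variable [IsSimpleGroup G]

/-- In rank two the normalizer is transitive on the three central involutions. -/
theorem trans_of_four (hG : ¬ IsMulCommutative G) (hM : Meets G) (hr : Cfsg.PRankLE 2 2 G)
    (S : Sylow 2 G) {a b : G} (ha : a ∈ omegaCenter S) (hb : b ∈ omegaCenter S) (ha1 : a ≠ 1)
    (hb1 : b ≠ 1) : ∃ n ∈ normalizer ((S : Subgroup G) : Set G), n * a * n⁻¹ = b := by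
  classical
  obtain ⟨n, hn, hna⟩ : ∃ n ∈ normalizer ((S : Subgroup G) : Set G), n * a * n⁻¹ ≠ a := by
    by_contra hno
    push Not at hno
    obtain ⟨N, hN, hodd, hc⟩ := ZStar.zstar_of_sylow S (twoCentral_of_mem ha ha1).1 fun g hg => by
      obtain ⟨m, hm, c, hc, rfl⟩ := exists_normalizer_mul hM ha ha1 hg
      rw [show m * c * a * (m * c)⁻¹ = m * (c * a) * c⁻¹ * m⁻¹ by group, hc, ← mul_assoc,
        mul_inv_cancel_right, hno m hm]
    rcases hN.eq_bot_or_eq_top with h | h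
    · have hac : a ∈ center G := mem_center_iff.2 fun g => by
        have h1 := hc g
        rw [h, mem_bot, mul_inv_eq_one, mul_inv_eq_iff_eq_mul] at h1
        exact h1.symm
      rw [center_eq_bot_of_simple hG, mem_bot] at hac
      exact ha1 hac
    · rw [h, card_top] at hodd
      exact even_of_simple hG hodd
  have ha' := normalizer_conj_mem hn ha
  have ha'' := normalizer_conj_mem hn ha'
  have h3 : n * (n * a * n⁻¹) * n⁻¹ ≠ a := by
    intro e
    set f := centerAut S ⟨n, hn⟩ with hf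
    have hff : f (f ⟨a, ha⟩) = ⟨a, ha⟩ := Subtype.ext e
    obtain ⟨j, hj⟩ := (odd_range_centerAut S).of_dvd_nat
      ((centerAut S).range.orderOf_dvd_natCard (show f ∈ (centerAut S).range from ⟨_, rfl⟩))
    have hpow : ∀ i : ℕ, (f ^ (2 * i)) ⟨a, ha⟩ = ⟨a, ha⟩ := fun i => by
      induction i with
      | zero => rfl
      | succ i ih => rw [show 2 * (i + 1) = 2 * i + 1 + 1 by ring, pow_succ, pow_succ,
          MulAut.mul_apply, MulAut.mul_apply, hff, ih]
    have h1 : (f ^ (2 * j + 1)) ⟨a, ha⟩ = f ⟨a, ha⟩ := by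
      rw [pow_succ', MulAut.mul_apply, hpow]
    rw [← hj, pow_orderOf_eq_one] at h1
    exact hna (congrArg Subtype.val h1).symm
  have hconj : ∀ x : G, x ≠ 1 → n * x * n⁻¹ ≠ 1 := fun x hx e => hx (by
    have h1 : n⁻¹ * (n * x * n⁻¹) * n = x := by group
    rw [e] at h1
    simpa using h1.symm)
  have hne2 : n * (n * a * n⁻¹) * n⁻¹ ≠ n * a * n⁻¹ := fun e => hna
    (mul_left_cancel (mul_right_cancel e))
  have hW : Nat.card (omegaCenter S) ≤ 4 := by
    refine hr _ ⟨⟨fun x y => Subtype.ext (commute_omegaCenter y.2 x.2.1)⟩⟩ fun x hx => ?_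
    rw [sq]; exact hx.2.1
  by_contra hno
  push Not at hno
  have hsub : ({1, a, n * a * n⁻¹, n * (n * a * n⁻¹) * n⁻¹, b} : Set G) ⊆ (omegaCenter S : Set G) := by
    rintro g (rfl | rfl | rfl | rfl | rfl)
    · exact one_mem (omegaCenter S)
    · exact ha
    · exact ha'
    · exact ha''
    · exact hb
  have hba : a ≠ b := fun e => hno 1 (one_mem _) (by rw [e]; group)
  have hba' : n * a * n⁻¹ ≠ b := hno n hn
  have hba'' : n * (n * a * n⁻¹) * n⁻¹ ≠ b := fun e =>
    hno (n * n) (mul_mem hn hn) (by rw [← e]; group)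
  have h5 := Set.ncard_le_ncard hsub (Set.toFinite _)
  rw [Set.ncard_insert_of_notMem (by
      simp [Ne.symm ha1, Ne.symm hb1, Ne.symm (hconj a ha1), Ne.symm (hconj _ (hconj a ha1))]),
    Set.ncard_insert_of_notMem (by simp [Ne.symm hna, Ne.symm h3, hba]),
    Set.ncard_insert_of_notMem (by simp [Ne.symm hne2, hba']),
    Set.ncard_insert_of_notMem (by simp [hba'']), Set.ncard_singleton,
    show ((omegaCenter S : Subgroup G) : Set G).ncard = Nat.card (omegaCenter S) from
      (Nat.card_coe_set_eq _).symm] at h5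
  omega

/-- The simple groups of 2-rank at most two. -/
theorem five_rank_two (hU : U34Simple.{u}) (hG : ¬ IsMulCommutative G) (hM : Meets G)
    (hr : Cfsg.PRankLE 2 2 G) : Five G ∧ Kind G := by
  classical
  haveI : Fact (Nat.Prime 2) := ⟨Nat.prime_two⟩
  obtain ⟨S⟩ : Nonempty (Sylow 2 G) := Sylow.nonempty
  obtain ⟨z, hz, hz1, hsec⟩ := exists_two hG hM S
  obtain ⟨y, hy, hy1, hyz⟩ := hsec z hz hz1
  have hcent : ∀ p : (S : Subgroup G), p * p = 1 → ∀ q : (S : Subgroup G), q * p = p * q := fun p hp q =>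
    Subtype.ext (commute_omegaCenter (invol_central hr hz hz1 hy hy1 hyz p.2 (congrArg Subtype.val hp)) q.2)
  letI : Fintype (GaloisField 2 4) := Fintype.ofFinite _
  have hF : Fintype.card (GaloisField 2 4) = 16 := by
    rw [← Nat.card_eq_fintype_card, GaloisField.card 2 4 (by norm_num)]; norm_num
  obtain ⟨P'⟩ : Nonempty (Sylow 2 (Cfsg.PSU 3 (GaloisField 2 4) 4)) := Sylow.nonempty
  rcases FTRows.simple_two_rank_two (fun X [_] [_] hX => Cfsg.Agent.S0205.result hX) hG hr S hF P'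
    with ⟨n, hn, ⟨e⟩⟩ | ⟨n, hn, -, a, b, ha, hb, hab⟩ | ⟨n, hn, -, a, b, t, ha, -, hdisj, ht, htab⟩ | hU'
  · have hc := hcent (e.symm (DihedralGroup.sr 0)) (by
      rw [← map_mul, DihedralGroup.sr_mul_self, map_one]) (e.symm (DihedralGroup.r 1))
    rw [← map_mul, ← map_mul, e.symm.injective.eq_iff, DihedralGroup.r_mul_sr,
      DihedralGroup.sr_mul_r] at hc
    have h2 : ((2 : ℕ) : ZMod n) = 0 := by
      have h3 : (0 : ZMod n) - 1 = 0 + 1 := DihedralGroup.sr.inj hc
      push_cast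
      linear_combination -h3
    rw [ZMod.natCast_eq_zero_iff] at h2
    have hn2 : n = 2 := le_antisymm (Nat.le_of_dvd two_pos h2) hn
    subst hn2
    have hc4 : Nat.card (S : Subgroup G) = 4 := by
      rw [Nat.card_congr e.toEquiv, DihedralGroup.nat_card]
    haveI : Group.IsPerfect G := ⟨(IsSimpleGroup.eq_bot_or_eq_top_of_normal _
      (inferInstance : (commutator G).Normal)).resolve_left fun h => hG ⟨⟨fun a b =>
        commutatorElement_eq_one_iff_mul_comm.1 (mem_bot.1 (h ▸ by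
          rw [_root_.commutator_def]
          exact commutator_mem_commutator (mem_top a) (mem_top b)))⟩⟩⟩
    have hO : Cfsg.oddCore G = ⊥ := by
      rcases (DGroup.normal_oddCore G).eq_bot_or_eq_top with h | h
      · exact h
      · exfalso
        have h1 := DGroup.odd_oddCore G
        rw [h, card_top] at h1
        exact even_of_simple hG h1
    let bot : G ⧸ Cfsg.oddCore G ≃* G :=
      (QuotientGroup.quotientMulEquivOfEq hO).trans QuotientGroup.quotientBot
    have hel : ∀ p : (S : Subgroup G), p * p = 1 := fun p => e.injective (by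
      rw [map_mul, map_one]
      exact (by decide : ∀ d : DihedralGroup 2, d * d = 1) (e p))
    have hkind : Kind G := Or.inr ⟨S,
      fun a ha h2 => invol_central hr hz hz1 hy hy1 hyz ha h2,
      ⟨z, hz, y, hy, hz1, hy1, Ne.symm hyz⟩,
      fun a ha b hb ha1 hb1 => trans_of_four hG hM hr S ha hb ha1 hb1,
      Or.inl fun p hp => congrArg Subtype.val (hel ⟨p, hp⟩)⟩
    refine ⟨?_, hkind⟩
    rcases GW.Top.statement G S 2 le_rfl ⟨e⟩ with ⟨F, i1, i2, hodd, h3, ⟨q⟩⟩ | ⟨⟨q⟩⟩
    · have h8 := AbelianSolvCent.q_mod_eight hodd S hc4 (bot.symm.trans q)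
      rcases lt_or_ge 5 (Fintype.card F) with h5 | h5
      · exact Or.inr (Or.inr (Or.inr (Or.inl ⟨F, i1, i2, h8, h5, ⟨bot.symm.trans q⟩⟩)))
      · have h5' : Fintype.card F = 5 := by omega
        obtain ⟨e5⟩ := Linear.Small.nonempty_psl_two_five h5'
        letI : Fintype (GaloisField 2 2) := Fintype.ofFinite _
        have h4 : Fintype.card (GaloisField 2 2) = 4 := by
          rw [← Nat.card_eq_fintype_card, GaloisField.card 2 2 (by norm_num)]; norm_num
        obtain ⟨e4⟩ := CTwoAbelian.nonempty_psl_two_four_alt h4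
        exact Or.inl ⟨2, GaloisField 2 2, inferInstance, inferInstance, le_rfl, by rw [h4]; norm_num,
          ⟨(bot.symm.trans q).trans (e5.trans e4.symm)⟩⟩
    · exfalso
      have h8 : 2 ^ 3 ∣ Nat.card G := by
        rw [Nat.card_congr (bot.symm.trans q).toEquiv, Nat.card_eq_fintype_card,
          card_alternatingGroup, Fintype.card_fin]
        decide
      obtain ⟨B₀, hB₀⟩ := Sylow.exists_subgroup_card_pow_prime 2 h8
      obtain ⟨B, hB'⟩ := (IsPGroup.of_card hB₀).exists_le_sylow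
      have hcard := card_dvd_of_le hB'
      rw [hB₀, Nat.card_congr (B.equiv S).toEquiv, hc4] at hcard
      norm_num at hcard
  · exfalso
    have hc := hcent b (mul_self_of_order_two hb) a
    rw [show b * a * b⁻¹ = a by rw [← hc, mul_inv_cancel_right]] at hab
    obtain ⟨m, rfl⟩ : ∃ m, n = m + 3 := ⟨n - 3, by omega⟩
    rw [show m + 3 - 1 = m + 2 from rfl] at hab
    have h4 : 4 ≤ 2 ^ (m + 2) := by
      simpa using Nat.pow_le_pow_right (two_pos : 0 < 2) (show 2 ≤ m + 2 by omega)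
    obtain ⟨r, hr'⟩ := Nat.exists_eq_add_of_le (show 1 ≤ 2 ^ (m + 2) - 1 by omega)
    rw [hr', pow_add, pow_one] at hab
    have h5 : a ^ r = 1 := mul_left_cancel (hab.symm.trans (mul_one a).symm)
    have h6 := Nat.le_of_dvd (by omega) (orderOf_dvd_of_pow_eq_one h5)
    rw [ha] at h6
    have : 2 ^ (m + 2) ≤ 2 ^ (m + 3) := Nat.pow_le_pow_right two_pos (by omega)
    omega
  · exfalso
    have hc := hcent t (mul_self_of_order_two ht) a
    rw [show t * a * t⁻¹ = a by rw [← hc, mul_inv_cancel_right]] at htab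
    subst htab
    rw [inf_idem, zpowers_eq_bot] at hdisj
    rw [hdisj, orderOf_one] at ha
    have := Nat.pow_le_pow_right (two_pos : 0 < 2) hn
    omega
  · obtain ⟨e⟩ := hU G (GaloisField 2 4) hF S P' hU'
    refine ⟨?_, Or.inr (rigid_of_unitary (F := GaloisField 2 4) (n := 2) le_rfl (by rw [hF]; norm_num) e
      fun R _ a ha b hb ha1 hb1 => trans_of_four hG hM hr R ha hb ha1 hb1)⟩
    exact Or.inr (Or.inr (Or.inl ⟨2, GaloisField 2 4, inferInstance, inferInstance, le_rfl,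
      by rw [hF]; norm_num, ⟨e⟩⟩))

/-- The groups with a strongly embedded subgroup. -/
theorem kind_of_three (hM : Meets G) {H : Subgroup G} (hH : Cfsg.IsStronglyEmbedded H)
    (h : Bender.Consumers.Three G) (hG : ¬ IsMulCommutative G) : Kind G := by
  have htr : ∀ P : Sylow 2 G, (∀ a ∈ (P : Subgroup G), a * a = 1 → a ∈ omegaCenter P) →
      ∀ a ∈ omegaCenter P, ∀ b ∈ omegaCenter P, a ≠ 1 → b ≠ 1 →
        ∃ g ∈ normalizer ((P : Subgroup G) : Set G), g * a * g⁻¹ = b := by
    intro P _ a ha b hb ha1 hb1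
    obtain ⟨g, hg⟩ := isConj_iff.1 (StrongEmbed.isConj_of_invols hH
      (orderOf_two ha.2.1 ha1) (orderOf_two hb.2.1 hb1))
    obtain ⟨n, hn, c, hc, rfl⟩ := exists_normalizer_mul hM ha ha1 (g := g) (by rw [hg]; exact hb.1)
    refine ⟨n, hn, ?_⟩
    rw [← hg, show n * c * a * (n * c)⁻¹ = n * (c * a) * c⁻¹ * n⁻¹ by group, hc, ← mul_assoc,
      mul_inv_cancel_right]
  rcases h with ⟨F, i1, i2, ⟨n, hn, hc⟩, ⟨e⟩⟩ | h | ⟨F, i1, i2, n, hn, hc, ⟨e⟩⟩
  · obtain ⟨S⟩ : Nonempty (Sylow 2 G) := Sylow.nonempty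
    have hsq : ∀ s ∈ (S : Subgroup G), s * s = 1 := fun s hs => e.injective (by
      rw [map_mul, map_one]
      exact CentralMeet.psl_sylow_comm (by omega) hc (S.2.map e.toMonoidHom) _ ⟨s, hs, rfl⟩)
    have hcen : ∀ a ∈ (S : Subgroup G), a * a = 1 → a ∈ omegaCenter S := fun a ha h2 =>
      ⟨ha, h2, fun s hs => by
        have h := hsq _ (mul_mem hs ha)
        rw [← inv_eq_of_mul_eq_one_right h, mul_inv_rev, inv_eq_of_mul_eq_one_right h2,
          inv_eq_of_mul_eq_one_right (hsq s hs)]⟩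
    obtain ⟨z, hz, hz1, hsec⟩ := exists_two hG hM S
    obtain ⟨y, hy, hy1, hyz⟩ := hsec z hz hz1
    exact Or.inr ⟨S, hcen, ⟨z, hz, y, hy, hz1, hy1, Ne.symm hyz⟩, htr S hcen, Or.inl hsq⟩
  · exact Or.inl h
  · exact Or.inr (rigid_of_unitary hn hc e htr)

/-- All centralizers inside `N(S)`: a strongly embedded subgroup. -/
theorem five_of_good (hcore : Core.{u}) (hG : ¬ IsMulCommutative G) (hM : Meets G) (S : Sylow 2 G)
    (hgood : ∀ w ∈ omegaCenter S, w ≠ 1 →
      centralizer ({w} : Set G) ≤ normalizer ((S : Subgroup G) : Set G)) : Five G ∧ Kind G := by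
  obtain ⟨z, hz, hz1, -⟩ := exists_two hG hM S
  obtain ⟨H, hH⟩ := Criterion.Act.aschbacher_row hcore _ (normalizer_sylow_ne_top hG S) z
    (orderOf_two hz.2.1 hz1) (le_normalizer hz.1)
    ⟨S, hz.1, fun s hs => commute_omegaCenter hz hs⟩
    (fun g hg => mem_normalizer_of_conj hM hz hz1 (hgood z hz hz1) hg) (fun g hcomm hne => by
      have h2 : g * z * g⁻¹ * (g * z * g⁻¹) = 1 := by
        rw [show g * z * g⁻¹ * (g * z * g⁻¹) = g * (z * z) * g⁻¹ by group, hz.2.1, mul_one,
          mul_inv_cancel]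
      have hv : g * z * g⁻¹ ∈ (S : Subgroup G) := invol_mem h2
        (hgood z hz hz1 (mem_centralizer_singleton_iff.2 hcomm.eq.symm))
      have hvW := conj_mem_omegaCenter hM hz hz1 hv
      refine hgood _ (mul_mem hz hvW) fun e => hne ?_
      exact (inv_eq_of_mul_eq_one_right e).symm.trans (inv_eq_of_mul_eq_one_right hz.2.1))
  have h3 := Bender.Consumers.three_of_simple Bender.Consumers.structure_all hH
  exact ⟨five_of_three h3, kind_of_three hM hH h3 hG⟩

/-- A bad central involution in rank at least three. -/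
theorem five_of_bad (hU : U34Simple.{u}) (hcore : Core.{u}) (hG : ¬ IsMulCommutative G)
    (hr : ¬ Cfsg.PRankLE 2 2 G) {S : Sylow 2 G} {z : G} (h : Bad S z) : Five G ∧ Kind G := by
  classical
  haveI : Fact (Nat.Prime 2) := ⟨Nat.prime_two⟩
  -- a large elementary subgroup of `S`
  obtain ⟨E, hE4, hE2, hEc, hES⟩ : ∃ E : Subgroup G, 4 < Nat.card E ∧ (∀ a ∈ E, a * a = 1) ∧
      (∀ a ∈ E, ∀ b ∈ E, a * b = b * a) ∧ E ≤ (S : Subgroup G) := by
    unfold Cfsg.PRankLE at hr
    push Not at hr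
    obtain ⟨A, hAc, hA2, hA4⟩ := hr
    have hAp : IsPGroup 2 A := fun a => ⟨1, Subtype.ext (by simpa [pow_one] using hA2 a a.2)⟩
    obtain ⟨R, hR⟩ := hAp.exists_le_sylow
    obtain ⟨g, hg⟩ := MulAction.exists_smul_eq G R S
    refine ⟨A.map (MulAut.conj g).toMonoidHom, ?_, ?_, ?_, ?_⟩
    · rw [Subgroup.card_map_of_injective (MulAut.conj g).injective]
      simpa using hA4
    · rintro _ ⟨a, ha, rfl⟩
      rw [← map_mul, ← sq, hA2 a ha, map_one]
    · rintro _ ⟨a, ha, rfl⟩ _ ⟨b, hb, rfl⟩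
      rw [← map_mul, ← map_mul]
      exact congrArg _ (congrArg Subtype.val (hAc.is_comm.comm ⟨a, ha⟩ ⟨b, hb⟩))
    · rintro _ ⟨a, ha, rfl⟩
      rw [← hg, Sylow.coe_subgroup_smul]
      exact ⟨a, hR ha, rfl⟩
  obtain ⟨a, haE, b, hbE, ha1, hb1, haz, hbz, hab, habz⟩ := exists_avoid hE4 hE2 z
  have hO := h.oddCore_eq_bot_of_pair (hES haE) (hES hbE) (hE2 a haE) (hE2 b hbE)
    (hEc a haE b hbE) ha1 hb1 haz hbz hab habz
  obtain ⟨z₀, hz₀, -, hsec⟩ := exists_two hG h.meets S
  obtain ⟨x, hx, hx1, hxz⟩ := hsec z h.mem h.ne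
  obtain ⟨y, hy, hy1, hyz, hyx, hyxz⟩ := h.exists_third hx hx1 hxz hO
  obtain ⟨h8, htr⟩ := h.transitive hG hcore hO hx hx1 hxz hy hy1 hyz hyx hyxz
  letI : Fintype (GaloisField 2 4) := Fintype.ofFinite _
  have hF : Fintype.card (GaloisField 2 4) = 16 := by
    rw [← Nat.card_eq_fintype_card, GaloisField.card 2 4 (by norm_num)]; norm_num
  obtain ⟨P'⟩ : Nonempty (Sylow 2 (Cfsg.PSU 3 (GaloisField 2 4) 4)) := Sylow.nonempty
  rcases h.qgroup_type hcore hO hx hx1 hxz h8 hF P' with h4 | ⟨P, hP, ⟨eP⟩⟩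
  · have hel : ∀ s ∈ (S : Subgroup G), s ∈ omegaCenter S := fun s hs =>
      h.sylow_eq hcore hO hx hx1 hxz h8 h4 htr hs
    refine ⟨?_, Or.inr ⟨S, fun a ha _ => hel a ha, ⟨z, h.mem, x, hx, h.ne, hx1, Ne.symm hxz⟩,
      fun a ha b hb ha1 hb1 => ?_, Or.inl fun s hs => (hel s hs).2.1⟩⟩
    swap
    · obtain ⟨n, hn, e⟩ := htr a ha ha1
      obtain ⟨m, hm, e'⟩ := htr b hb hb1
      exact ⟨m * n⁻¹, mul_mem hm (inv_mem hn), by rw [← e, ← e']; group⟩
    refine Or.inr (Or.inr (Or.inr (Or.inr ?_)))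
    refine h.isJ1 hcore hO hx hx1 hxz h8 h4 htr ?_ hy hy1 hyz hyx
    intro w hw hw1 hb
    obtain ⟨u, hu, v, hv, hu1, hv1, huw, hvw, huv, huvw⟩ :=
      exists_avoid (A := omegaCenter S) (by omega) (fun a ha => ha.2.1) w
    set C := centralizer ({w} : Set G) with hC
    intro o ho
    have hSC : ∀ s ∈ (S : Subgroup G), s ∈ C := fun s hs => hb.sylow_le hs
    set D := (Cfsg.oddCore C).map C.subtype with hD
    have hDodd : Odd (Nat.card D) := by
      rw [hD, Subgroup.card_map_of_injective C.subtype_injective]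
      exact DGroup.odd_oddCore C
    have hDn : ∀ s ∈ (S : Subgroup G), ∀ d ∈ D, s * d * s⁻¹ ∈ D := by
      rintro s hs _ ⟨d, hd, rfl⟩
      exact ⟨⟨s, hSC s hs⟩ * d * ⟨s, hSC s hs⟩⁻¹, (DGroup.normal_oddCore C).conj_mem d hd _, rfl⟩
    have hkey : ∀ e ∈ omegaCenter S, e ≠ 1 → e ≠ w → ∀ d ∈ D, d * e = e * d →
        d ∈ normalizer ((S : Subgroup G) : Set G) := by
      rintro e he he1 hew _ ⟨d, -, rfl⟩ hde
      refine hb.key (mem_centralizer_singleton_iff.1 d.2) he.1 he.2.1 he1 hew ?_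
      rw [show C.subtype d * e = e * C.subtype d from hde, mul_inv_cancel_right]
      exact le_normalizer he.1
    have huv1 : u * v ≠ 1 := fun e => huv
      ((inv_eq_of_mul_eq_one_right hu.2.1).symm.trans (inv_eq_of_mul_eq_one_right e))
    have hle : D ≤ normalizer ((S : Subgroup G) : Set G) :=
      SmallCent.le_of_centralizers hu.2.1 hv.2.1 (commute_omegaCenter hv hu.1) hu1 hv1 huv hDodd
        (hDn u hu.1) (hDn v hv.1)
        (fun d hd => mul_mem (mul_mem (le_normalizer hu.1) hd) (inv_mem (le_normalizer hu.1)))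
        (fun d hd => mul_mem (mul_mem (le_normalizer hv.1) hd) (inv_mem (le_normalizer hv.1)))
        (hkey u hu hu1 huw) (hkey v hv hv1 hvw) (hkey (u * v) (mul_mem hu hv) huv1 huvw)
    refine mem_centralizer_iff.2 fun s hs => ?_
    have hoD : (o : G) ∈ D := ⟨o, ho, rfl⟩
    have h1 : (o : G) * s * (o : G)⁻¹ * s⁻¹ ∈ (S : Subgroup G) :=
      mul_mem ((mem_normalizer_iff.1 (hle hoD) s).1 hs) (inv_mem hs)
    have h2 : (o : G) * s * (o : G)⁻¹ * s⁻¹ ∈ D := by
      rw [show (o : G) * s * (o : G)⁻¹ * s⁻¹ = o * (s * (o : G)⁻¹ * s⁻¹) by group]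
      exact mul_mem hoD (hDn s hs _ (inv_mem hoD))
    obtain ⟨k, hk⟩ := S.2 ⟨_, h1⟩
    have h3 : orderOf ((o : G) * s * (o : G)⁻¹ * s⁻¹) ∣ 2 ^ k :=
      orderOf_dvd_of_pow_eq_one (congrArg Subtype.val hk)
    have h4' : orderOf ((o : G) * s * (o : G)⁻¹ * s⁻¹) ∣ Nat.card D := by
      rw [← Subgroup.orderOf_mk _ h2]
      exact orderOf_dvd_natCard _
    have h5 : orderOf ((o : G) * s * (o : G)⁻¹ * s⁻¹) = 1 :=
      Nat.eq_one_of_dvd_coprimes ((Nat.coprime_two_left.2 hDodd).pow_left k) h3 h4'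
    rw [orderOf_eq_one_iff, mul_inv_eq_one, mul_inv_eq_iff_eq_mul] at h5
    exact h5.symm
  · exact (h.unitary_false hcore hO hx hx1 hxz hU h8 htr hF P' P hP eP).elim

/-- The simple groups, with the shape of their Sylow 2-subgroups. -/
theorem simple_kind (hU : U34Simple.{u}) (hcore : Core.{u}) (hG : ¬ IsMulCommutative G)
    (hM : Meets G) : Five G ∧ Kind G := by
  by_cases hr : Cfsg.PRankLE 2 2 G
  · exact five_rank_two hU hG hM hr
  obtain ⟨S⟩ : Nonempty (Sylow 2 G) := Sylow.nonempty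
  by_cases hgood : ∀ w ∈ omegaCenter S, w ≠ 1 →
      centralizer ({w} : Set G) ≤ normalizer ((S : Subgroup G) : Set G)
  · exact five_of_good hcore hG hM S hgood
  push Not at hgood
  obtain ⟨z, hz, hz1, hbad⟩ := hgood
  exact five_of_bad hU hcore hG hr (⟨hM, hz, hz1, hbad⟩ : Bad S z)

/-- The simple groups. -/
theorem simple_meets (hU : U34Simple.{u}) (hcore : Core.{u}) (hG : ¬ IsMulCommutative G)
    (hM : Meets G) : Five G :=
  (simple_kind hU hcore hG hM).1

end CfsgLib.CentralRankOne
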