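import Cfsg.Agent.CentralMeet.Final
import Cfsg.Agent.CentralRankOne.Simple
import Cfsg.Prelude.Def_TwoFusion

/-!
# Simple groups with central Sylow 2-intersections

The case of non-abelian Sylow 2-subgroups follows from the structure theorem for such groups; the
case of abelian Sylow 2-subgroups is a hypothesis.
-/

set_option autoImplicit false
set_option linter.unusedSectionVars false
set_option linter.style.haveILetI false

namespace CfsgLib.CentralRankOne

open Subgroup

universe u

/-- The conclusion for abelian Sylow 2-subgroups. -/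
def AbelianCase : Prop :=
  ∀ (G : Type u) [Group G] [Finite G] [IsSimpleGroup G], ¬ IsMulCommutative G →
    (∀ S : Sylow 2 G, IsMulCommutative ↥(S : Subgroup G)) →
    (∃ (F : Type) (_ : Field F) (_ : Fintype F),
        (Fintype.card F % 8 = 0 ∨ Fintype.card F % 8 = 3 ∨ Fintype.card F % 8 = 5) ∧
        Nonempty (G ≃* Matrix.ProjectiveSpecialLinearGroup (Fin 2) F)) ∨
    (∃ t : G, orderOf t = 2 ∧ IsCoatom (centralizer ({t} : Set G)) ∧
        ∃ E : Subgroup G, Cfsg.IsInternalDirectProduct (zpowers t) E (centralizer ({t} : Set G)) ∧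
          ∃ (F : Type) (_ : Field F) (_ : Fintype F), Odd (Fintype.card F) ∧ 3 < Fintype.card F ∧
            ∃ N : Subgroup ↥E, N.Normal ∧
              Nonempty (↥N ≃* Matrix.ProjectiveSpecialLinearGroup (Fin 2) F) ∧
              centralizer (N : Set ↥E) = ⊥)

/-- In a simple group an abelian factor of a central product is trivial. -/
theorem eq_bot_of_central_product {X : Type*} [Group X] [IsSimpleGroup X]
    (hX : ¬ IsMulCommutative X) {A L : Subgroup X} (hA : IsMulCommutative A)
    (hc : ∀ a ∈ A, ∀ l ∈ L, a * l = l * a) (hsup : A ⊔ L = ⊤) : A = ⊥ ∧ L = ⊤ := by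
  have hA1 : A = ⊥ := by
    have hle : A ≤ centralizer (A : Set X) := fun a ha => mem_centralizer_iff.2 fun b hb =>
      congrArg Subtype.val (hA.is_comm.comm ⟨b, hb⟩ ⟨a, ha⟩)
    have hn : A.Normal := normalizer_eq_top_iff.1 (eq_top_iff.2 (hsup ▸ sup_le le_normalizer
      fun l hl => mem_normalizer_iff.2 fun a => ⟨fun ha => by
          rw [show l * a * l⁻¹ = a by rw [← hc a ha l hl, mul_inv_cancel_right]]
          exact ha, fun ha => by
          have h1 : l⁻¹ * (l * a * l⁻¹) * l = l * a * l⁻¹ := by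
            rw [mul_assoc, hc _ ha l hl, inv_mul_cancel_left]
          rw [show a = l⁻¹ * (l * a * l⁻¹) * l by group, h1]
          exact ha⟩))
    refine hn.eq_bot_or_eq_top.resolve_right fun e => hX ⟨⟨fun a b => ?_⟩⟩
    exact mem_centralizer_iff.1 (hle (e ▸ mem_top b : b ∈ A)) a (e ▸ mem_top a : a ∈ A)
  exact ⟨hA1, by rwa [hA1, bot_sup_eq] at hsup⟩

/-- The theorem for simple groups with central intersections, given the abelian case. -/
theorem simple_central_row (hab : AbelianCase.{u}) {G : Type u} [Group G] [Finite G]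
    [IsSimpleGroup G] (hG : ¬ IsMulCommutative G)
    (hCI : ∀ S T : Sylow 2 G, S ≠ T → ∃ U : Sylow 2 G,
      (S : Subgroup G) ⊓ (T : Subgroup G) ≤
        (Subgroup.center ↥(U : Subgroup G)).map (U : Subgroup G).subtype) :
    (∃ (F : Type) (_ : Field F) (_ : Fintype F),
        (Fintype.card F % 8 = 0 ∨ Fintype.card F % 8 = 3 ∨ Fintype.card F % 8 = 5) ∧
        Nonempty (G ≃* Matrix.ProjectiveSpecialLinearGroup (Fin 2) F)) ∨
    ((∀ S : Sylow 2 G, IsMulCommutative ↥(S : Subgroup G)) ∧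
      ∃ t : G, orderOf t = 2 ∧ IsCoatom (Subgroup.centralizer ({t} : Set G)) ∧
        ∃ E : Subgroup G, Cfsg.IsInternalDirectProduct (Subgroup.zpowers t) E
            (Subgroup.centralizer ({t} : Set G)) ∧
          ∃ (F : Type) (_ : Field F) (_ : Fintype F), Odd (Fintype.card F) ∧ 3 < Fintype.card F ∧
            ∃ N : Subgroup ↥E, N.Normal ∧
              Nonempty (↥N ≃* Matrix.ProjectiveSpecialLinearGroup (Fin 2) F) ∧
              Subgroup.centralizer (N : Set ↥E) = ⊥) ∨
    (∃ (m : ℕ) (F : Type) (_ : Field F) (_ : Fintype F), 1 ≤ m ∧ Fintype.card F = 2 ^ (2 * m + 1) ∧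
        Nonempty (G ≃* ↥(Cfsg.Lie.Sz F (2 ^ (m + 1))))) ∨
    (∃ (n : ℕ) (F : Type) (_ : Field F) (_ : Fintype F), 2 ≤ n ∧ Fintype.card F = 4 ^ n ∧
        Nonempty (G ≃* Cfsg.PSU 3 F (2 ^ n))) := by
  classical
  have hcen := center_eq_bot_of_simple hG
  have hnotodd : ∀ M : Subgroup G, M.Normal → Odd M.index → M = ⊤ := fun M hM ho =>
    hM.eq_bot_or_eq_top.resolve_left fun e => even_of_simple hG (by rwa [e, index_bot] at ho)
  rcases CentralMeet.structure_cases (CentralMeet.meet_of_hyp hCI) with ⟨hs, -⟩ | hS |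
    ⟨N, M, hN, hM, hNM, hlt, hNodd, hMidx, A, L, hA, -, ⟨eL⟩, hc, hsup⟩ |
    ⟨M, hM, hMidx, A, L, hA, -, hcase⟩
  · exact absurd ⟨⟨fun a b => IsSimpleGroup.comm_iff_isSolvable.2 hs a b⟩⟩ hG
  · rcases hab G hG hS with h | h
    · exact Or.inl h
    · exact Or.inr (Or.inl ⟨hS, h⟩)
  · exfalso
    obtain rfl := hnotodd M hM hMidx
    obtain rfl : N = ⊥ := hN.eq_bot_or_eq_top.resolve_right hlt.ne
    haveI := hNM
    let e : (↥(⊤ : Subgroup G) ⧸ (⊥ : Subgroup G).subgroupOf ⊤) ≃* G :=
      ((QuotientGroup.quotientMulEquivOfEq (bot_subgroupOf (⊤ : Subgroup G))).trans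
        QuotientGroup.quotientBot).trans Subgroup.topEquiv
    obtain ⟨-, hL⟩ := eq_bot_of_central_product hG (A := A.map e.toMonoidHom)
      (L := L.map e.toMonoidHom)
      ⟨⟨by
        rintro ⟨_, a, ha, rfl⟩ ⟨_, b, hb, rfl⟩
        refine Subtype.ext ?_
        show e a * e b = e b * e a
        rw [← map_mul, ← map_mul]
        exact congrArg e (congrArg Subtype.val (hA.is_comm.comm ⟨a, ha⟩ ⟨b, hb⟩))⟩⟩
      (by
        rintro _ ⟨a, ha, rfl⟩ _ ⟨l, hl, rfl⟩
        rw [← map_mul, ← map_mul, hc a ha l hl])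
      (by rw [← Subgroup.map_sup, hsup, map_top_of_surjective _ e.surjective])
    let ψ : G ≃* Matrix.SpecialLinearGroup (Fin 2) (ZMod 5) :=
      ((Subgroup.topEquiv.symm.trans (MulEquiv.subgroupCongr hL.symm)).trans
        (L.equivMapOfInjective e.toMonoidHom e.injective).symm).trans eL
    have hmem : ψ.symm (-1) ∈ center G := mem_center_iff.2 fun g => ψ.injective (by
      rw [map_mul, map_mul, ψ.apply_symm_apply]
      exact mem_center_iff.1 CentralMeet.sl_neg_one_central (ψ g))
    rw [hcen, mem_bot, ← ψ.injective.eq_iff, ψ.apply_symm_apply, map_one] at hmem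
    exact absurd hmem (by decide)
  · obtain rfl := hnotodd M hM hMidx
    rcases hcase with ⟨⟨-, -, hc, -, hsup⟩, hL⟩ | ⟨-, -, hc, hsup, -, hLc, -⟩
    · obtain ⟨-, rfl⟩ := eq_bot_of_central_product hG hA hc hsup
      rcases hL with ⟨m, F, i1, i2, hm, hcard, ⟨e⟩⟩ | ⟨n, F, i1, i2, hn, hcard, hU⟩
      · exact Or.inr (Or.inr (Or.inl ⟨m, F, i1, i2, hm, hcard, ⟨Subgroup.topEquiv.symm.trans e⟩⟩))
      · refine Or.inr (Or.inr (Or.inr ⟨n, F, i1, i2, hn, hcard, ?_⟩))
        rcases hU with ⟨⟨e⟩⟩ | ⟨⟨e⟩⟩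
        · exact ⟨Subgroup.topEquiv.symm.trans e⟩
        · let ψ : G ≃* ↥(Cfsg.SU 3 F (2 ^ n)) := Subgroup.topEquiv.symm.trans e
          have hc' : center ↥(Cfsg.SU 3 F (2 ^ n)) = ⊥ := (eq_bot_iff_forall _).2 fun x hx => by
            have h1 : ψ.symm x ∈ center G := mem_center_iff.2 fun g => ψ.injective (by
              rw [map_mul, map_mul, ψ.apply_symm_apply]
              exact mem_center_iff.1 hx (ψ g))
            rw [hcen, mem_bot, ← ψ.injective.eq_iff, ψ.apply_symm_apply, map_one] at h1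
            exact h1
          exact ⟨ψ.trans ((QuotientGroup.quotientMulEquivOfEq hc').trans
            QuotientGroup.quotientBot).symm⟩
    · exfalso
      obtain ⟨-, rfl⟩ := eq_bot_of_central_product hG hA hc hsup
      refine hLc ((eq_bot_iff_forall _).2 fun x hx => Subtype.ext ?_)
      have h1 : (x : G) ∈ center G := mem_center_iff.2 fun g =>
        congrArg Subtype.val (mem_center_iff.1 hx ⟨g, mem_top g⟩)
      rw [hcen, mem_bot] at h1
      exact h1

end CfsgLib.CentralRankOne
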