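import Cfsg.Agent.CentralRankOne.Simple
import Cfsg.Agent.CentralMeet.Dichotomy
import Cfsg.Agent.S2126
import Cfsg.Agent.S3305

/-!
# Nonsolvable groups with cyclic intersections of Sylow 2-subgroups

A simple section of odd index over the solvable radical.
-/

set_option autoImplicit false
set_option linter.unusedSectionVars false
set_option linter.style.haveILetI false

namespace CfsgLib.CentralRankOne

open Subgroup
open CfsgLib.Criterion.Act (Core)
open scoped commutatorElement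

universe u

variable {Q : Type u} [Group Q] [Finite Q]

/-- Distinct Sylow 2-subgroups meet in cyclic groups. -/
def CycMeets (Q : Type u) [Group Q] : Prop :=
  ∀ S T : Sylow 2 Q, S ≠ T → IsCyclic ↥((S : Subgroup Q) ⊓ (T : Subgroup Q))

theorem CycMeets.meets (h : CycMeets Q) : Meets Q := by
  intro S T hST z _ _ A _ hA
  by_contra hlt
  push Not at hlt
  obtain ⟨a, haA, ha1⟩ : ∃ a ∈ A, a ≠ 1 := by
    by_contra hno
    push Not at hno
    rw [show A = ⊥ from (eq_bot_iff_forall _).2 hno, card_bot] at hlt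
    omega
  have hsub : (A : Set ↥((S : Subgroup Q) ⊓ (T : Subgroup Q))) ⊆ {1, a} := by
    intro b hb
    by_cases hb1 : b = 1
    · exact Or.inl hb1
    refine Or.inr (Subtype.ext ?_)
    exact FTRows.CyclicMeet.eq_of_invol (h S T hST) b.2 a.2
      (congrArg Subtype.val (by rw [← sq]; exact hA b hb : b * b = 1))
      (congrArg Subtype.val (by rw [← sq]; exact hA a haA : a * a = 1))
      (fun e => hb1 (Subtype.ext e)) (fun e => ha1 (Subtype.ext e))
  have h1 := (Set.ncard_le_ncard hsub (Set.toFinite _)).trans (Set.ncard_insert_le _ _)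
  rw [Set.ncard_singleton,
    show (A : Set ↥((S : Subgroup Q) ⊓ (T : Subgroup Q))).ncard = Nat.card A from
      (Nat.card_coe_set_eq _).symm] at h1
  omega

theorem CycMeets.subgroup (h : CycMeets Q) (H : Subgroup Q) : CycMeets H := by
  haveI : Fact (Nat.Prime 2) := ⟨Nat.prime_two⟩
  intro P R hPR
  obtain ⟨S, hS⟩ := (show IsPGroup 2 ((P : Subgroup H).map H.subtype) from P.2.map _).exists_le_sylow
  obtain ⟨T, hT⟩ := (show IsPGroup 2 ((R : Subgroup H).map H.subtype) from R.2.map _).exists_le_sylow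
  have hne : S ≠ T := by
    rintro rfl
    have h1 : (S : Subgroup Q).comap H.subtype = (P : Subgroup H) :=
      P.3 S.2.comap_subtype fun p hp => hS ⟨p, hp, rfl⟩
    have h2 : (S : Subgroup Q).comap H.subtype = (R : Subgroup H) :=
      R.3 S.2.comap_subtype fun p hp => hT ⟨p, hp, rfl⟩
    exact hPR (Sylow.ext (h1.symm.trans h2))
  haveI := h S T hne
  let f : ↥((P : Subgroup H) ⊓ (R : Subgroup H)) →* ↥((S : Subgroup Q) ⊓ (T : Subgroup Q)) :=
    { toFun := fun x => ⟨((x : H) : Q), hS ⟨_, x.2.1, rfl⟩, hT ⟨_, x.2.2, rfl⟩⟩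
      map_one' := rfl
      map_mul' := fun _ _ => rfl }
  exact isCyclic_of_injective f fun a b e =>
    Subtype.ext (Subtype.ext (congrArg (fun y : ↥((S : Subgroup Q) ⊓ (T : Subgroup Q)) => (y : Q)) e))

/-- Two nonsolvable subgroups centralizing each other meet nontrivially. -/
theorem CycMeets.no_pair (h : CycMeets Q) {M N : Subgroup Q} (hc : ∀ m ∈ M, ∀ n ∈ N, m * n = n * m)
    (hd : M ⊓ N = ⊥) (hM : ¬ Group.IsSolvable M) (hN : ¬ Group.IsSolvable N) : False := by
  haveI : Fact (Nat.Prime 2) := ⟨Nat.prime_two⟩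
  obtain ⟨P⟩ : Nonempty (Sylow 2 M) := Sylow.nonempty
  have hPnc : ¬ IsCyclic (P : Subgroup M) := fun hP => hM
    (FTRows.CyclicMeet.solvable_of_cyclic (fun X [_] [_] hX => Cfsg.Agent.S0205.result hX) P hP)
  obtain ⟨T⟩ : Nonempty (Sylow 2 N) := Sylow.nonempty
  obtain ⟨g, hg⟩ := FTRows.CyclicMeet.sylow_not_normal
    (fun X [_] [_] hX => Cfsg.Agent.S0205.result hX) hN T
  set P' := (P : Subgroup M).map M.subtype with hP'
  have hex : ∀ R : Sylow 2 N, ∃ S : Sylow 2 Q, P' ≤ (S : Subgroup Q) ∧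
      (R : Subgroup N).map N.subtype ≤ (S : Subgroup Q) := fun R => by
    have hp : IsPGroup 2 ↥(P' ⊔ (R : Subgroup N).map N.subtype) := by
      refine (P.2.map _).to_sup_of_normal_right' (R.2.map _) ?_
      intro x hx
      obtain ⟨m, -, rfl⟩ := hx
      refine LocalB.mem_normalizer_of_conj_le fun y hy => ?_
      obtain ⟨n, hn, rfl⟩ := hy
      show (m : Q) * n * (m : Q)⁻¹ ∈ _
      rw [hc m m.2 n n.2, mul_inv_cancel_right]
      exact ⟨n, hn, rfl⟩
    obtain ⟨S, hS⟩ := hp.exists_le_sylow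
    exact ⟨S, le_sup_left.trans hS, le_sup_right.trans hS⟩
  obtain ⟨S₁, hS₁, hT₁⟩ := hex T
  obtain ⟨S₂, hS₂, hT₂⟩ := hex (g • T)
  have hne : S₁ ≠ S₂ := by
    rintro rfl
    have h1 : (S₁ : Subgroup Q).comap N.subtype = (T : Subgroup N) :=
      T.3 S₁.2.comap_subtype fun p hp => hT₁ ⟨p, hp, rfl⟩
    have h2 : (S₁ : Subgroup Q).comap N.subtype = ((g • T : Sylow 2 N) : Subgroup N) :=
      (g • T).3 S₁.2.comap_subtype fun p hp => hT₂ ⟨p, hp, rfl⟩
    exact hg (Sylow.ext (h2.symm.trans h1))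
  haveI := h S₁ S₂ hne
  let f : (P : Subgroup M) →* ↥((S₁ : Subgroup Q) ⊓ (S₂ : Subgroup Q)) :=
    { toFun := fun x => ⟨((x : M) : Q), hS₁ ⟨_, x.2, rfl⟩, hS₂ ⟨_, x.2, rfl⟩⟩
      map_one' := rfl
      map_mul' := fun _ _ => rfl }
  exact hPnc (isCyclic_of_injective f fun a b e =>
    Subtype.ext (Subtype.ext (congrArg (fun y : ↥((S₁ : Subgroup Q) ⊓ (S₂ : Subgroup Q)) => (y : Q)) e)))

/-- The index of a normal simple subgroup with trivial centralizer divides the outer automorphisms. -/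
theorem index_dvd_out (L : Subgroup Q) [L.Normal] (hcent : centralizer (L : Set Q) = ⊥) :
    L.index ∣ Nat.card (Cfsg.Out L) := by
  let φ : Q →* MulAut L := MulAut.conjNormal
  have hL : (Cfsg.Inn L).comap φ = L := by
    ext q
    constructor
    · rintro ⟨l, hl⟩
      have hc : (l : Q)⁻¹ * q ∈ centralizer (L : Set Q) := mem_centralizer_iff.2 fun g hg => by
        have h1 := congrArg Subtype.val (DFunLike.congr_fun hl (⟨g, hg⟩ : L))
        have h2 : (l : Q) * g * (l : Q)⁻¹ = q * g * q⁻¹ := h1.trans (MulAut.conjNormal_apply q _)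
        calc g * ((l : Q)⁻¹ * q) = (l : Q)⁻¹ * ((l : Q) * g * (l : Q)⁻¹) * q := by group
          _ = (l : Q)⁻¹ * (q * g * q⁻¹) * q := by rw [h2]
          _ = (l : Q)⁻¹ * q * g := by group
      rw [hcent, mem_bot, inv_mul_eq_one] at hc
      exact hc ▸ l.2
    · exact fun hq => ⟨⟨q, hq⟩, MulEquiv.ext fun g => Subtype.ext (MulAut.conjNormal_apply q g).symm⟩
  conv_lhs => rw [← hL, index_comap]
  exact (Cfsg.Inn L).relIndex_dvd_index_of_normal φ.range

/-- The simple normal subgroup of odd index. -/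
theorem CycMeets.exists_socle (hU : U34Simple.{u}) (hcore : Core.{u}) (h : CycMeets Q)
    (hns : ¬ Group.IsSolvable Q)
    (hrad : ∀ N : Subgroup Q, N.Normal → Group.IsSolvable N → N = ⊥) :
    ∃ (L : Subgroup Q) (_ : L.Normal), Odd L.index ∧ IsSimpleGroup L ∧ ¬ IsMulCommutative L ∧
      Five L := by
  classical
  -- a minimal normal subgroup
  have hex : ∃ n, ∃ L : Subgroup Q, L.Normal ∧ L ≠ ⊥ ∧ Nat.card L = n := by
    refine ⟨_, ⊤, inferInstance, fun e => hns ?_, rfl⟩
    haveI : Group.IsSolvable (⊥ : Subgroup Q) := inferInstance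
    haveI : Group.IsSolvable (⊤ : Subgroup Q) := e ▸ this
    exact Group.isSolvable_of_surjective (f := (topEquiv (G := Q)).toMonoidHom) topEquiv.surjective
  obtain ⟨L, hLn, hL1, hLc⟩ := Nat.find_spec hex
  haveI := hLn
  have hmin : ∀ M : Subgroup Q, M.Normal → M ≤ L → M ≠ ⊥ → M = L := fun M hM hle hM1 => by
    refine eq_of_le_of_card_ge hle ?_
    rw [hLc]
    exact Nat.find_min' hex ⟨M, hM, hM1, rfl⟩
  have hLns : ¬ Group.IsSolvable L := fun hs => hL1 (hrad L hLn hs)
  have hab : ∀ A B : Subgroup Q, A ⊓ B = ⊥ → A ≤ L → B ≤ L →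
      (∀ l ∈ L, ∀ a ∈ A, l * a * l⁻¹ ∈ A) → (∀ l ∈ L, ∀ b ∈ B, l * b * l⁻¹ ∈ B) →
      ∀ a ∈ A, ∀ b ∈ B, a * b = b * a := by
    intro A B hd hA hB hAn hBn a ha b hb
    have h1 : a * b * a⁻¹ * b⁻¹ ∈ A ⊓ B := by
      refine ⟨?_, B.mul_mem (hBn a (hA ha) b hb) (B.inv_mem hb)⟩
      rw [show a * b * a⁻¹ * b⁻¹ = a * (b * a⁻¹ * b⁻¹) by group]
      exact mul_mem ha (hAn b (hB hb) _ (inv_mem ha))
    rw [hd, mem_bot, mul_inv_eq_one, mul_inv_eq_iff_eq_mul] at h1
    exact h1
  -- minimal normal subgroups of `L`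
  have hAll : ∀ A : Subgroup Q, A ≤ L → A ≠ ⊥ → (∀ l ∈ L, ∀ a ∈ A, l * a * l⁻¹ ∈ A) → A = L := by
    intro A₀ hA₀ hA₀1 hA₀n
    have hexA : ∃ n, ∃ A : Subgroup Q, A ≤ A₀ ∧ A ≠ ⊥ ∧ (∀ l ∈ L, ∀ a ∈ A, l * a * l⁻¹ ∈ A) ∧
        Nat.card A = n := ⟨_, A₀, le_rfl, hA₀1, hA₀n, rfl⟩
    obtain ⟨A, hA0, hA1, hAn, hAc⟩ := Nat.find_spec hexA
    have hAL : A ≤ L := hA0.trans hA₀
    have hAmin : ∀ B : Subgroup Q, B ≤ A → B ≠ ⊥ → (∀ l ∈ L, ∀ b ∈ B, l * b * l⁻¹ ∈ B) → B = A :=
      fun B hB hB1 hBn => eq_of_le_of_card_ge hB (by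
        rw [hAc]; exact Nat.find_min' hexA ⟨B, hB.trans hA0, hB1, hBn, rfl⟩)
    let cj : Q → Subgroup Q := fun g => A.map (MulAut.conj g).toMonoidHom
    have hcjL : ∀ g, cj g ≤ L := by
      rintro g _ ⟨a, ha, rfl⟩; exact hLn.conj_mem a (hAL ha) g
    have hcjn : ∀ g, ∀ l ∈ L, ∀ b ∈ cj g, l * b * l⁻¹ ∈ cj g := by
      rintro g l hl _ ⟨a, ha, rfl⟩
      refine ⟨g⁻¹ * l * g * a * (g⁻¹ * l * g)⁻¹, hAn _ ?_ a ha, ?_⟩
      · simpa using hLn.conj_mem l hl g⁻¹
      · show g * (g⁻¹ * l * g * a * (g⁻¹ * l * g)⁻¹) * g⁻¹ = l * (g * a * g⁻¹) * l⁻¹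
        group
    have hcase : ∀ g, A ⊓ cj g = ⊥ ∨ cj g = A := fun g => by
      by_cases hd : A ⊓ cj g = ⊥
      · exact Or.inl hd
      · have h1 := hAmin _ inf_le_left hd fun l hl b hb => ⟨hAn l hl b hb.1, hcjn g l hl b hb.2⟩
        refine Or.inr (eq_of_le_of_card_ge (inf_eq_left.1 h1) (le_of_eq ?_)).symm
        exact (Subgroup.card_map_of_injective (MulAut.conj g).injective)
    by_cases hAs : Group.IsSolvable A
    · exfalso
      -- `A` is abelian
      have hAab : ∀ a ∈ A, ∀ b ∈ A, a * b = b * a := by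
        intro a ha b hb
        haveI : Nontrivial A := (Subgroup.nontrivial_iff_ne_bot _).2 hA1
        set D := (commutator A).map A.subtype with hD
        have hDA : D ≤ A := map_subtype_le _
        by_contra hne
        have hD1 : D ≠ ⊥ := fun e => hne (by
          have h0 : ⁅(⟨a, ha⟩ : A), (⟨b, hb⟩ : A)⁆ ∈ commutator A := by
            rw [_root_.commutator_def]; exact commutator_mem_commutator (mem_top _) (mem_top _)
          have h1 : ((⁅(⟨a, ha⟩ : A), (⟨b, hb⟩ : A)⁆ : A) : Q) ∈ D := ⟨_, h0, rfl⟩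
          rw [e, mem_bot] at h1
          have h2 : ⁅(⟨a, ha⟩ : A), (⟨b, hb⟩ : A)⁆ = 1 := Subtype.ext h1
          exact congrArg Subtype.val (commutatorElement_eq_one_iff_mul_comm.1 h2))
        have hDn : ∀ l ∈ L, ∀ d ∈ D, l * d * l⁻¹ ∈ D := by
          intro l hl
          rintro _ ⟨d, hd, rfl⟩
          have hnA : l ∈ normalizer (A : Set Q) :=
            LocalB.mem_normalizer_of_conj_le fun x hx => hAn l hl x hx
          let f : MulAut A := A.normalizerMonoidHom ⟨l, hnA⟩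
          refine ⟨f d, ?_, rfl⟩
          have := (characteristic_iff_map_eq.1 (inferInstance : (commutator A).Characteristic)) f
          rw [← this]
          exact ⟨d, hd, rfl⟩
        have hDA' := hAmin D hDA hD1 hDn
        have htop : commutator A = ⊤ := by
          refine eq_top_iff.2 fun x _ => ?_
          obtain ⟨y, hy, he⟩ := hDA'.ge x.2
          rwa [← Subtype.ext he]
        haveI := hAs
        exact (Group.IsSolvable.commutator_lt_top_of_nontrivial A).ne htop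
      have hpair : ∀ g g' : Q, ∀ a ∈ cj g, ∀ b ∈ cj g', a * b = b * a := by
        rintro g g' _ ⟨a, ha, rfl⟩ b hb
        have hb' : g⁻¹ * b * g ∈ cj (g⁻¹ * g') := by
          obtain ⟨c, hc, rfl⟩ := hb
          exact ⟨c, hc, by show g⁻¹ * g' * c * (g⁻¹ * g')⁻¹ = g⁻¹ * (g' * c * g'⁻¹) * g; group⟩
        have h1 : a * (g⁻¹ * b * g) = g⁻¹ * b * g * a := by
          rcases hcase (g⁻¹ * g') with hd | hd
          · exact hab A _ hd hAL (hcjL _) hAn (hcjn _) a ha _ hb'
          · exact hAab a ha _ (hd ▸ hb')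
        show g * a * g⁻¹ * b = b * (g * a * g⁻¹)
        calc g * a * g⁻¹ * b = g * (a * (g⁻¹ * b * g)) * g⁻¹ := by group
          _ = g * (g⁻¹ * b * g * a) * g⁻¹ := by rw [h1]
          _ = b * (g * a * g⁻¹) := by group
      set U := ⨆ g, cj g with hU'
      have hUn : U.Normal := normalizer_eq_top_iff.1 (eq_top_iff.2 fun q _ =>
        LocalB.mem_normalizer_of_conj_le fun x hx => by
          have hle : U ≤ U.comap (MulAut.conj q).toMonoidHom := iSup_le fun g => by
            rintro _ ⟨a, ha, rfl⟩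
            exact le_iSup cj (q * g) ⟨a, ha, by
              show q * g * a * (q * g)⁻¹ = q * (g * a * g⁻¹) * q⁻¹; group⟩
          exact hle hx)
      have hUc : ∀ x ∈ U, ∀ y ∈ U, x * y = y * x := by
        have h1 : U ≤ centralizer (U : Set Q) := iSup_le fun g a ha => by
          refine mem_centralizer_iff.2 ?_
          have h2 : U ≤ centralizer ({a} : Set Q) := iSup_le fun g' b hb =>
            mem_centralizer_singleton_iff.2 (hpair g' g b hb a ha)
          exact fun y hy => mem_centralizer_singleton_iff.1 (h2 hy)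
        exact fun x hx y hy => mem_centralizer_iff.1 (h1 hy) x hx
      have hU0 : U = ⊥ := hrad U hUn (by
        letI : CommGroup U :=
          { (inferInstance : Group U) with mul_comm := fun x y => Subtype.ext (hUc x x.2 y y.2) }
        infer_instance)
      refine hA1 (le_bot_iff.1 (hU0 ▸ ?_))
      exact fun a ha => le_iSup cj 1 ⟨a, ha, by simp⟩
    have hAn' : A.Normal := by
      refine ⟨fun a ha g => ?_⟩
      rcases hcase g with hd | hd
      · exfalso
        refine h.no_pair (hab A _ hd hAL (hcjL _) hAn (hcjn _)) hd hAs fun hs => hAs ?_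
        haveI := hs
        exact Group.isSolvable_of_surjective
          (f := (A.equivMapOfInjective (MulAut.conj g).toMonoidHom (MulAut.conj g).injective).symm.toMonoidHom)
          (MulEquiv.surjective _)
      · exact hd.le ⟨a, ha, rfl⟩
    exact le_antisymm hA₀ ((hmin A hAn' hAL hA1).ge.trans hA0)
  haveI : Nontrivial L := (Subgroup.nontrivial_iff_ne_bot _).2 hL1
  haveI hLs : IsSimpleGroup L := ⟨fun M hM => by
    by_cases hM1 : M = ⊥
    · exact Or.inl hM1
    refine Or.inr ?_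
    have := hAll (M.map L.subtype) (map_subtype_le _) ((map_eq_bot_iff_of_injective _ L.subtype_injective).not.2 hM1)
      (by rintro l hl _ ⟨m, hm, rfl⟩; exact ⟨⟨l, hl⟩ * m * ⟨l, hl⟩⁻¹, hM.conj_mem m hm _, rfl⟩)
    exact map_injective L.subtype_injective (this.trans (by rw [← MonoidHom.range_eq_map, range_subtype]))⟩
  have hna : ¬ IsMulCommutative L := fun hc => hLns (by
    letI : CommGroup L := { (inferInstance : Group L) with mul_comm := hc.is_comm.comm }
    infer_instance)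
  have hcent : centralizer (L : Set Q) = ⊥ := by
    by_contra hne
    haveI : (centralizer (L : Set Q)).Normal := Subgroup.normal_centralizer
    have hd : L ⊓ centralizer (L : Set Q) = ⊥ := by
      refine (eq_bot_iff_forall _).2 fun g hg => ?_
      have hgc : (⟨g, hg.1⟩ : L) ∈ center L := mem_center_iff.2 fun y =>
        Subtype.ext (mem_centralizer_iff.1 hg.2 y y.2)
      rw [center_eq_bot_of_simple hna, mem_bot] at hgc
      exact congrArg Subtype.val hgc
    exact h.no_pair (fun m hm n hn => mem_centralizer_iff.1 hn m hm) hd hLns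
      fun hs => hne (hrad _ inferInstance hs)
  obtain ⟨hF, hK⟩ := simple_kind hU hcore hna (h.subgroup L).meets
  refine ⟨L, hLn, ?_, hLs, hna, hF⟩
  rcases hK with ⟨F, i1, i2, m, hm, hc, ⟨e⟩⟩ | ⟨P, hP⟩
  · refine Odd.of_dvd_nat ?_ (index_dvd_out L hcent)
    have h1 : Nat.card (Cfsg.Out L) = Nat.card (Cfsg.Out ↥(Cfsg.Lie.Sz F (2 ^ (m + 1)))) :=
      Nat.card_congr (QuotientGroup.congr _ _ (MulAut.congr e) (by
        rw [MonoidHom.map_range]
        ext α
        constructor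
        · rintro ⟨g, rfl⟩
          exact ⟨e g, MulEquiv.ext fun y => by simp [MulAut.congr, MulAut.conj_apply]⟩
        · rintro ⟨g, rfl⟩
          exact ⟨e.symm g, MulEquiv.ext fun y => by simp [MulAut.congr, MulAut.conj_apply]⟩)).toEquiv
    rw [h1, Cfsg.Agent.S2126.result hm hc]
    exact odd_two_mul_add_one m
  · exact odd_index_of_rigid h L hcent P hP

/-- Transfer of the five kinds along an isomorphism. -/
theorem Five.congr {A B : Type u} [Group A] [Group B] (h : Five A) (e : B ≃* A) : Five B := by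
  rcases h with ⟨n, F, i1, i2, hn, hc, ⟨f⟩⟩ | ⟨m, F, i1, i2, hm, hc, ⟨f⟩⟩ | ⟨n, F, i1, i2, hn, hc, ⟨f⟩⟩ |
    ⟨F, i1, i2, h8, h5, ⟨f⟩⟩ | ⟨hs, hc⟩
  · exact Or.inl ⟨n, F, i1, i2, hn, hc, ⟨e.trans f⟩⟩
  · exact Or.inr (Or.inl ⟨m, F, i1, i2, hm, hc, ⟨e.trans f⟩⟩)
  · exact Or.inr (Or.inr (Or.inl ⟨n, F, i1, i2, hn, hc, ⟨e.trans f⟩⟩))
  · exact Or.inr (Or.inr (Or.inr (Or.inl ⟨F, i1, i2, h8, h5, ⟨e.trans f⟩⟩)))
  · haveI := hs
    exact Or.inr (Or.inr (Or.inr (Or.inr ⟨e.isSimpleGroup, (Nat.card_congr e.toEquiv).trans hc⟩)))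

/-- Nonsolvable groups with cyclic intersections of Sylow 2-subgroups. -/
theorem cyclic_meets_radical_row (hU : U34Simple.{u}) (hcore : Core.{u}) {G : Type u} [Group G] [Finite G]
    (hns : ¬ Group.IsSolvable G)
    (hC : ∀ S T : Sylow 2 G, S ≠ T → IsCyclic ↥((S : Subgroup G) ⊓ (T : Subgroup G)))
    (R : Subgroup G) [R.Normal] (hR : Group.IsSolvable R)
    (hRmax : ∀ N : Subgroup G, N.Normal → Group.IsSolvable N → N ≤ R) :
    ∃ (G₁ : Subgroup G) (_ : G₁.Normal) (_ : (R.subgroupOf G₁).Normal), Odd G₁.index ∧ R ≤ G₁ ∧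
      IsSimpleGroup (↥G₁ ⧸ R.subgroupOf G₁) ∧ ¬ IsMulCommutative (↥G₁ ⧸ R.subgroupOf G₁) ∧
      Five (↥G₁ ⧸ R.subgroupOf G₁) := by
  have hns' : ¬ Group.IsSolvable (G ⧸ R) := fun h => hns (CentralMeet.isSolvable_of_ext R hR h)
  have hrad : ∀ N : Subgroup (G ⧸ R), N.Normal → Group.IsSolvable N → N = ⊥ := by
    intro N hN hs
    haveI := hN
    set M := N.comap (QuotientGroup.mk' R) with hM
    have hMs : Group.IsSolvable M := by
      haveI := hR
      haveI := hs
      let f : M →* N := ((QuotientGroup.mk' R).comp M.subtype).codRestrict N fun x => x.2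
      refine Group.isSolvable_of_ker_le_range
        (Subgroup.inclusion (fun r hr => show QuotientGroup.mk' R r ∈ N by
          rw [show QuotientGroup.mk' R r = 1 from (QuotientGroup.eq_one_iff r).2 hr]; exact one_mem N : R ≤ M))
        f fun x hx => ?_
      exact ⟨⟨x, (QuotientGroup.eq_one_iff _).1 (congrArg Subtype.val hx)⟩, rfl⟩
    refine (eq_bot_iff_forall _).2 fun x hx => ?_
    obtain ⟨g, rfl⟩ := QuotientGroup.mk'_surjective R x
    exact (QuotientGroup.eq_one_iff g).2 (hRmax M (hN.comap _) hMs hx)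
  obtain ⟨L, hLn, hodd, hsimp, hna, hF⟩ :=
    CycMeets.exists_socle hU hcore (Cfsg.Agent.S3305.result hC R) hns' hrad
  haveI := hLn
  haveI := hsimp
  set G₁ := L.comap (QuotientGroup.mk' R) with hG₁
  have hRG : R ≤ G₁ := fun r hr => show QuotientGroup.mk' R r ∈ L by
    rw [show QuotientGroup.mk' R r = 1 from (QuotientGroup.eq_one_iff r).2 hr]; exact one_mem L
  let f : G₁ →* L := ((QuotientGroup.mk' R).comp G₁.subtype).codRestrict L fun x => x.2
  have hker : f.ker = R.subgroupOf G₁ := by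
    ext x
    rw [MonoidHom.mem_ker, mem_subgroupOf, ← QuotientGroup.eq_one_iff (x : G), Subtype.ext_iff]
    rfl
  have hsurj : Function.Surjective f := by
    rintro ⟨y, hy⟩
    obtain ⟨g, rfl⟩ := QuotientGroup.mk'_surjective R y
    exact ⟨⟨g, hy⟩, rfl⟩
  let e : ↥G₁ ⧸ R.subgroupOf G₁ ≃* L :=
    (QuotientGroup.quotientMulEquivOfEq hker.symm).trans (QuotientGroup.quotientKerEquivOfSurjective f hsurj)
  refine ⟨G₁, inferInstance, inferInstance, ?_, hRG, e.isSimpleGroup, fun hc => hna ?_, hF.congr e⟩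
  · rwa [hG₁, index_comap_of_surjective _ (QuotientGroup.mk'_surjective R)]
  · exact ⟨⟨fun a b => e.symm.injective (by rw [map_mul, map_mul]; exact hc.is_comm.comm _ _)⟩⟩

end CfsgLib.CentralRankOne
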