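import Cfsg.Agent.CentralRankOne.Points
import Cfsg.Agent.U3Type.Basic
import Cfsg.Agent.S0448

/-!
# A four-group section: Janko's group

If the section `K` has four-group Sylow 2-subgroups then `S` is elementary of order eight and
`C(z) ≅ Z₂ × A₅`, so the group is Janko's first group.
-/

set_option autoImplicit false
set_option linter.unusedSectionVars false
set_option linter.style.haveILetI false

namespace CfsgLib.CentralRankOne

open Subgroup
open CfsgLib.Criterion.Act (Core)

universe u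

variable {G : Type u} [Group G] [Finite G] {S : Sylow 2 G} {z : G}

theorem z2_mul_self : ∀ a : Multiplicative (ZMod 2), a * a = 1 := by decide

theorem z2_cases : ∀ a t : Multiplicative (ZMod 2), t ≠ 1 → ∀ u, a = u ∨ a = u * t := by decide

theorem Bad.proj_z (h : Bad S z) : proj S z (h.lift h.mem) = 1 := by
  refine (QuotientGroup.eq_one_iff _).2 fun b => ?_
  show ((b * h.lift h.mem * b⁻¹ : centralizer ({z} : Set G)) : G) ∈
    normalizer ((S : Subgroup G) : Set G)
  have e2 : ((b * h.lift h.mem * b⁻¹ : centralizer ({z} : Set G)) : G) = z := by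
    show (b : G) * z * (b : G)⁻¹ = z
    rw [h.commute_z b, mul_inv_cancel_right]
  rw [e2]
  exact le_normalizer h.mem.1

namespace Bad

variable (h : Bad S z) (hcore : Core.{u}) (hO : Cfsg.oddCore (Quot S z) = ⊥)
  {x : G} (hx : x ∈ omegaCenter S) (hx1 : x ≠ 1) (hxz : x ≠ z)
include h hcore hO hx hx1 hxz

theorem qgroup_eq (h8 : Nat.card (omegaCenter S) = 8) (h4 : Nat.card (h.qgroup hx) = 4)
    {g : Quot S z} (hg : g ∈ h.qgroup hx) :
    ∃ v, ∃ hv : v ∈ omegaCenter S, proj S z (h.lift hv) = g := by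
  classical
  let φ : omegaCenter S →* Quot S z :=
    (proj S z).comp (Subgroup.inclusion fun _ hv => h.sylow_le hv.1)
  have hle : φ.range ≤ h.qgroup hx := by
    rintro _ ⟨v, rfl⟩
    exact h.mem_qgroup hcore hO hx hx1 hxz v.2
  have hker : Nat.card φ.ker ≤ 2 := by
    refine (Nat.card_le_card_of_injective (fun v : φ.ker => decide (((v : omegaCenter S) : G) = 1))
      fun a b e => ?_).trans (by simp)
    have hval : ∀ v : φ.ker, ((v : omegaCenter S) : G) = 1 ∨ ((v : omegaCenter S) : G) = z := fun v =>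
      h.core_invol ((QuotientGroup.eq_one_iff _).1 (MonoidHom.mem_ker.1 v.2)) (v : omegaCenter S).2.2.1
    have e' : (((a : omegaCenter S) : G) = 1) ↔ (((b : omegaCenter S) : G) = 1) := decide_eq_decide.1 e
    refine Subtype.ext (Subtype.ext ?_)
    rcases hval a with ha | ha <;> rcases hval b with hb | hb
    · rw [ha, hb]
    · exact absurd (hb.symm.trans (e'.1 ha)) h.ne
    · exact absurd (ha.symm.trans (e'.2 hb)) h.ne
    · rw [ha, hb]
  have h2 := φ.ker.index_mul_card
  rw [index_ker, h8] at h2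
  have heq : φ.range = h.qgroup hx := eq_of_le_of_card_ge hle (by
    rw [h4]
    by_contra hlt
    nlinarith [Nat.card_pos (α := φ.ker)])
  obtain ⟨v, hv⟩ := (heq ▸ hg : g ∈ φ.range)
  exact ⟨v, v.2, hv⟩

/-- An element centralizing the image of `omegaCenter S` and the base coset lies in it. -/
theorem exists_eq_of_centralizing (h8 : Nat.card (omegaCenter S) = 8)
    (h4 : Nat.card (h.qgroup hx) = 4) {y : Quot S z} (hy : y ∈ normQ S z)
    (hc : ∀ v, ∀ hv : v ∈ omegaCenter S, y * proj S z (h.lift hv) = proj S z (h.lift hv) * y) :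
    ∃ v, ∃ hv : v ∈ omegaCenter S, y = proj S z (h.lift hv) := by
  obtain ⟨g, hg⟩ : ∃ g, g ∉ normQ S z := by
    by_contra hno
    push Not at hno
    exact h.normQ_ne_top (eq_top_iff.2 fun g _ => hno g)
  obtain ⟨w, hw, hwg⟩ := h.exists_fixing hcore hO hx hx1 hxz hy hg
  obtain ⟨v, hv, rfl⟩ := h.qgroup_eq hcore hO hx hx1 hxz h8 h4 hw
  refine ⟨v, hv, (inv_mul_eq_one.1 (h.eq_one_of_fix hcore hO hx hx1 hxz
    (mul_mem (inv_mem (h.qgroup_le hx hw)) hy) hg hwg fun w' hw' => ?_)).symm⟩
  obtain ⟨v', hv', rfl⟩ := h.qgroup_eq hcore hO hx hx1 hxz h8 h4 hw'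
  have hvv : Commute (proj S z (h.lift hv))⁻¹ (proj S z (h.lift hv')) := by
    refine Commute.inv_left (?_ : Commute (proj S z (h.lift hv)) (proj S z (h.lift hv')))
    exact (map_mul (proj S z) _ _).symm.trans ((congrArg _ (Subtype.ext
      (commute_omegaCenter hv' hv.1))).trans (map_mul (proj S z) _ _))
  exact ((hvv.mul_left (show Commute y _ from hc v' hv')) : _)

/-- `S` is the elementary group of order eight. -/
theorem sylow_eq (h8 : Nat.card (omegaCenter S) = 8) (h4 : Nat.card (h.qgroup hx) = 4)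
    (htr : ∀ w ∈ omegaCenter S, w ≠ 1 → ∃ n ∈ normalizer ((S : Subgroup G) : Set G),
      n * z * n⁻¹ = w) {s : G} (hs : s ∈ (S : Subgroup G)) : s ∈ omegaCenter S := by
  haveI : Fact (Nat.Prime 2) := ⟨Nat.prime_two⟩
  have hdec : ∀ s : G, ∀ hs : s ∈ (S : Subgroup G), ∃ v, ∃ hv : v ∈ omegaCenter S,
      (h.lift hv)⁻¹ * ⟨s, h.sylow_le hs⟩ ∈ (normS S z).normalCore := by
    intro s hs
    obtain ⟨v, hv, e⟩ := h.exists_eq_of_centralizing hcore hO hx hx1 hxz h8 h4
      (y := proj S z ⟨s, h.sylow_le hs⟩) (proj_mem.2 (le_normalizer hs))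
      (fun v hv => h.proj_lift_central hv (h.mem_sylowQ.2 ⟨_, hs, rfl⟩))
    exact ⟨v, hv, QuotientGroup.eq.1 e.symm⟩
  -- squares lie in the core
  have hsq : ∀ s : G, ∀ hs : s ∈ (S : Subgroup G),
      (⟨s, h.sylow_le hs⟩ * ⟨s, h.sylow_le hs⟩ : centralizer ({z} : Set G)) ∈
        (normS S z).normalCore := by
    intro s hs
    obtain ⟨v, hv, ht⟩ := hdec s hs
    have e : (⟨s, h.sylow_le hs⟩ * ⟨s, h.sylow_le hs⟩ : centralizer ({z} : Set G)) =
        (h.lift hv)⁻¹ * ⟨s, h.sylow_le hs⟩ * ((h.lift hv)⁻¹ * ⟨s, h.sylow_le hs⟩) := Subtype.ext (by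
      show s * s = v⁻¹ * s * (v⁻¹ * s)
      rw [inv_eq_of_mul_eq_one_right hv.2.1, ← mul_assoc, mul_assoc v s v, commute_omegaCenter hv hs,
        ← mul_assoc, hv.2.1, one_mul])
    rw [e]
    exact mul_mem ht ht
  have hno : ∀ u ∈ (S : Subgroup G), u * u ≠ z := by
    intro u hu e
    obtain ⟨n, hn, hnz⟩ := htr x hx hx1
    have hu' := (mem_normalizer_iff.1 hn u).1 hu
    have hsq' : n * u * n⁻¹ * (n * u * n⁻¹) = x := by rw [← hnz, ← e]; group
    rcases h.core_invol (hsq _ hu') (by
      show n * u * n⁻¹ * (n * u * n⁻¹) * (n * u * n⁻¹ * (n * u * n⁻¹)) = 1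
      rw [hsq', hx.2.1]) with e1 | e1
    · exact hx1 (hsq'.symm.trans e1)
    · exact hxz (hsq'.symm.trans e1)
  have hexp : ∀ u ∈ (S : Subgroup G), u * u = 1 := by
    intro u hu
    by_contra hne
    obtain ⟨m, hm⟩ := IsPGroup.iff_orderOf.1 S.2 ⟨u, hu⟩
    rw [← Subgroup.orderOf_coe] at hm
    change orderOf u = 2 ^ m at hm
    obtain ⟨j, rfl⟩ : ∃ j, m = j + 2 := by
      rcases m with _ | _ | j
      · rw [pow_zero, orderOf_eq_one_iff] at hm; exact absurd (by rw [hm, one_mul]) hne
      · exact absurd (by rw [← sq]; exact orderOf_dvd_iff_pow_eq_one.1 (dvd_of_eq hm)) hne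
      · exact ⟨j, rfl⟩
    set q := u ^ 2 ^ j
    have hq4 : q * q * (q * q) = 1 := by
      simp only [q]
      rw [← pow_add, ← pow_add, show 2 ^ j + 2 ^ j + (2 ^ j + 2 ^ j) = 2 ^ (j + 2) by ring, ← hm,
        pow_orderOf_eq_one]
    have hq2 : q * q ≠ 1 := fun e => by
      simp only [q, ← pow_add] at e
      have := Nat.le_of_dvd (by positivity) (orderOf_dvd_of_pow_eq_one e)
      rw [hm, pow_add] at this
      have := pow_pos (two_pos : 0 < 2) j
      omega
    exact hno q (pow_mem hu _) ((h.core_invol (hsq q (pow_mem hu _)) hq4).resolve_left hq2)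
  obtain ⟨v, hv, ht⟩ := hdec s hs
  rcases h.core_invol ht (hexp _ (mul_mem (inv_mem hv.1) hs)) with e | e
  · rw [show s = v from (inv_mul_eq_one.1 e).symm]
    exact hv
  · rw [show s = v * z from inv_mul_eq_iff_eq_mul.1 e]
    exact mul_mem hv h.mem

omit hcore hO hx hx1 hxz in
/-- A homomorphism of `C(z)` to a group of order two moving `z`, if `S` is elementary. -/
theorem exists_sign (hel : ∀ s ∈ (S : Subgroup G), s ∈ omegaCenter S)
    (h8 : Nat.card (omegaCenter S) = 8) :
    ∃ τ : centralizer ({z} : Set G) →* Multiplicative (ZMod 2), τ (h.lift h.mem) ≠ 1 := by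
  classical
  haveI : Fact (Nat.Prime 2) := ⟨Nat.prime_two⟩
  set Q : Subgroup (centralizer ({z} : Set G)) := (S : Subgroup G).subgroupOf _ with hQdef
  letI : CommGroup Q :=
    { (inferInstance : Group Q) with
      mul_comm := fun a b => Subtype.ext (Subtype.ext (commute_omegaCenter (hel _ b.2) a.2)) }
  have hQ8 : Nat.card Q = 8 := by
    rw [← h8]
    exact Nat.card_congr ⟨fun q => ⟨((q : centralizer ({z} : Set G)) : G), hel _ q.2⟩,
      fun v => ⟨h.lift v.2, v.2.1⟩, fun _ => rfl, fun _ => rfl⟩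
  set zz : Q := ⟨h.lift h.mem, h.mem.1⟩ with hzz
  have hzz1 : zz ≠ 1 := fun e => h.ne (congrArg (fun q : Q => ((q : centralizer ({z} : Set G)) : G)) e)
  have hexp : ∀ q : Q, q * q = 1 := fun q => Subtype.ext (Subtype.ext (hel _ q.2).2.1)
  obtain ⟨a, -, ha⟩ : ∃ a ∈ (Set.univ : Set Q), a ∉ ({1, zz} : Set Q) :=
    Set.exists_mem_notMem_of_ncard_lt_ncard (by
      rw [Set.ncard_pair (Ne.symm hzz1), Set.ncard_univ, hQ8]; norm_num)
  obtain ⟨b, -, hb⟩ : ∃ b ∈ (Set.univ : Set Q), b ∉ ({1, zz, a, a * zz} : Set Q) :=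
    Set.exists_mem_notMem_of_ncard_lt_ncard (by
      refine (Set.ncard_insert_le _ _).trans_lt ?_
      have h1 := Set.ncard_insert_le zz ({a, a * zz} : Set Q)
      have h2 := Set.ncard_insert_le a ({a * zz} : Set Q)
      rw [Set.ncard_singleton] at h2
      rw [Set.ncard_univ, hQ8]
      omega)
  simp only [Set.mem_insert_iff, Set.mem_singleton_iff, not_or] at ha hb
  let H : Subgroup Q :=
    { carrier := {1, a, b, a * b}
      one_mem' := Or.inl rfl
      mul_mem' := by
        rintro p q (rfl | rfl | rfl | rfl) (rfl | rfl | rfl | rfl) <;>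
          simp [mul_comm, mul_left_comm, hexp]
      inv_mem' := by
        intro p hp
        rwa [inv_eq_of_mul_eq_one_right (hexp p)] }
  have hzH : zz ∉ H := by
    rintro (e | e | e | e)
    · exact hzz1 e
    · exact ha.2 e.symm
    · exact hb.2.1 e.symm
    · exact hb.2.2.2 (by rw [e, ← mul_assoc, hexp, one_mul])
  have hH4 : Nat.card H = 4 := by
    have hne : a * b ≠ 1 := fun e => hb.2.2.1
      ((eq_inv_of_mul_eq_one_right e).trans (inv_eq_of_mul_eq_one_right (hexp a)))
    show Nat.card ↥({1, a, b, a * b} : Set Q) = 4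
    rw [Nat.card_coe_set_eq]
    rw [Set.ncard_insert_of_notMem (by simp [Ne.symm ha.1, Ne.symm hb.1, Ne.symm hne]),
      Set.ncard_insert_of_notMem (by simp [Ne.symm hb.2.2.1, hb.1]),
      Set.ncard_pair (by simp [ha.1])]
  have hidx : Nat.card (Q ⧸ H) = 2 := by
    have := H.card_mul_index
    rw [hQ8, hH4, index_eq_card] at this
    omega
  let e : Q ⧸ H ≃* Multiplicative (ZMod 2) :=
    mulEquivOfPrimeCardEq hidx (by rw [Nat.card_eq_fintype_card]; rfl)
  let ψ : Q →* Multiplicative (ZMod 2) := e.toMonoidHom.comp (QuotientGroup.mk' H)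
  refine ⟨ψ.transfer, ?_⟩
  have hcz : ∀ c : centralizer ({z} : Set G), c * h.lift h.mem = h.lift h.mem * c := fun c =>
    Subtype.ext (h.commute_z c)
  rw [MonoidHom.transfer_eq_pow ψ _ fun k g _ => by
    rw [mul_assoc, ((show Commute g (h.lift h.mem) from hcz g).pow_right k).symm.eq,
      inv_mul_cancel_left]]
  have hQi : Odd Q.index := by
    rw [Nat.odd_iff, ← Nat.two_dvd_ne_zero]
    exact fun hd => h.sylowC.not_dvd_index (by
      rwa [show (h.sylowC : Subgroup _) = Q from Sylow.coe_subtype _ _])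
  obtain ⟨k, hk⟩ := hQi
  rw [show (⟨h.lift h.mem ^ Q.index, _⟩ : Q) = zz from Subtype.ext (by
    show h.lift h.mem ^ Q.index = h.lift h.mem
    rw [hk, pow_succ, pow_mul, sq, show h.lift h.mem * h.lift h.mem = 1 from Subtype.ext h.two,
      one_pow, one_mul])]
  exact fun e1 => hzH ((QuotientGroup.eq_one_iff zz).1 (e.injective (e1.trans (map_one e).symm)))

/-- The section with four-group Sylow subgroups gives Janko's group. -/
theorem isJ1 [IsSimpleGroup G] (h8 : Nat.card (omegaCenter S) = 8)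
    (h4 : Nat.card (h.qgroup hx) = 4)
    (htr : ∀ w ∈ omegaCenter S, w ≠ 1 → ∃ n ∈ normalizer ((S : Subgroup G) : Set G),
      n * z * n⁻¹ = w)
    (hall : ∀ w ∈ omegaCenter S, w ≠ 1 → ∀ hb : Bad S w, ∀ o ∈ Cfsg.oddCore (centralizer ({w} : Set G)),
      (o : G) ∈ centralizer ((S : Subgroup G) : Set G))
    {x' : G} (hx' : x' ∈ omegaCenter S) (hx'1 : x' ≠ 1) (hx'z : x' ≠ z) (hxx' : x' ≠ x) :
    Cfsg.IsJ1 G := by
  classical
  haveI : Fact (Nat.Prime 2) := ⟨Nat.prime_two⟩
  have hel : ∀ s ∈ (S : Subgroup G), s ∈ omegaCenter S :=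
    fun s hs => h.sylow_eq hcore hO hx hx1 hxz h8 h4 htr hs
  have h2odd := z2_mul_self
  -- odd elements centralizing `S` lie in the core
  have hin : ∀ (hb : Bad S z) (c : centralizer ({z} : Set G)),
      (c : G) ∈ centralizer ((S : Subgroup G) : Set G) → Odd (orderOf c) →
      c ∈ Cfsg.oddCore (centralizer ({z} : Set G)) := by
    intro _ c hc hodd
    have hn : (c : G) ∈ normalizer ((S : Subgroup G) : Set G) := centralizer_le_normalizer _ hc
    obtain ⟨v, hv, e⟩ := h.exists_eq_of_centralizing hcore hO hx hx1 hxz h8 h4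
      (y := proj S z c) (proj_mem.2 hn) (fun v hv => by
        rw [← map_mul, ← map_mul]
        exact congrArg _ (Subtype.ext (mem_centralizer_iff.1 hc v hv.1).symm))
    have hc1 : proj S z c = 1 := by
      refine orderOf_eq_one_iff.1 (Nat.eq_one_of_dvd_coprimes (Nat.coprime_two_left.2 hodd)
        (orderOf_dvd_of_pow_eq_one ?_) (orderOf_map_dvd _ _))
      rw [sq, e, h.proj_lift_two hv]
    obtain ⟨τ, hτ⟩ := h.exists_sign hel h8
    have hτc : τ c = 1 :=
      orderOf_eq_one_iff.1 (Nat.eq_one_of_dvd_coprimes (Nat.coprime_two_left.2 hodd)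
        (orderOf_dvd_of_pow_eq_one (by rw [sq, h2odd])) (orderOf_map_dvd _ _))
    refine DGroup.le_oddCore (N := (normS S z).normalCore ⊓ τ.ker) inferInstance ?_
      ⟨(QuotientGroup.eq_one_iff c).1 hc1, hτc⟩
    rw [← Nat.not_even_iff_odd, even_iff_two_dvd]
    intro hd
    obtain ⟨y, hy⟩ := exists_prime_orderOf_dvd_card' 2 hd
    have hy2 : ((y.1 : centralizer ({z} : Set G)) : G) * (y.1 : centralizer ({z} : Set G)) = 1 :=
      congrArg (fun w : ↥((normS S z).normalCore ⊓ τ.ker) => ((w.1 : centralizer ({z} : Set G)) : G))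
        (mul_self_of_order_two hy)
    rcases h.core_invol y.2.1 hy2 with e1 | e1
    · rw [show y = 1 from Subtype.ext (Subtype.ext e1), orderOf_one] at hy
      omega
    · exact hτ (by rw [← show y.1 = h.lift h.mem from Subtype.ext e1]; exact y.2.2)
  have hX : ∀ (c : G), c ∈ (Cfsg.oddCore (centralizer ({z} : Set G))).map (centralizer ({z} : Set G)).subtype ↔
      c ∈ centralizer ((S : Subgroup G) : Set G) ∧ Odd (orderOf c) := by
    refine fun c => ⟨?_, fun hc => ?_⟩
    · rintro ⟨o, ho, rfl⟩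
      refine ⟨hall z h.mem h.ne h o ho, ?_⟩
      rw [coe_subtype, Subgroup.orderOf_coe]
      exact (DGroup.odd_oddCore _).of_dvd_nat (Subgroup.orderOf_dvd_natCard _ ho)
    · have hcC : c ∈ centralizer ({z} : Set G) :=
        mem_centralizer_singleton_iff.2 (mem_centralizer_iff.1 hc.1 z h.mem.1).symm
      exact ⟨⟨c, hcC⟩, hin h ⟨c, hcC⟩ hc.1 (by rw [← Subgroup.orderOf_coe]; exact hc.2), rfl⟩
  set X := (Cfsg.oddCore (centralizer ({z} : Set G))).map (centralizer ({z} : Set G)).subtype with hXdef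
  set H0 := normalizer (X : Set G) with hH0
  have hNS : normalizer ((S : Subgroup G) : Set G) ≤ H0 := fun n hn => by
    refine LocalB.mem_normalizer_of_conj_le fun c hc => ?_
    obtain ⟨hc1, hc2⟩ := (hX c).1 hc
    refine (hX _).2 ⟨mem_centralizer_iff.2 fun s hs => ?_, by rwa [Invol.orderOf_conj_eq]⟩
    have hs' : n⁻¹ * s * n ∈ (S : Subgroup G) := by
      have := (mem_normalizer_iff.1 (inv_mem hn) s).1 hs
      rwa [inv_inv] at this
    calc s * (n * c * n⁻¹) = n * ((n⁻¹ * s * n) * c) * n⁻¹ := by group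
      _ = n * (c * (n⁻¹ * s * n)) * n⁻¹ := by rw [mem_centralizer_iff.1 hc1 _ hs']
      _ = n * c * n⁻¹ * s := by group
  have hCz : centralizer ({z} : Set G) ≤ H0 := fun c hc => by
    refine LocalB.mem_normalizer_of_conj_le fun o ho => ?_
    obtain ⟨o, ho', rfl⟩ := ho
    exact ⟨_, (inferInstance : (Cfsg.oddCore _).Normal).conj_mem o ho' ⟨c, hc⟩, rfl⟩
  have hXbot : X = ⊥ := by
    by_contra hne
    have hH0top : H0 ≠ ⊤ := fun e => by
      haveI : X.Normal := normalizer_eq_top_iff.1 e
      rcases (inferInstance : X.Normal).eq_bot_or_eq_top with e1 | e1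
      · exact hne e1
      · have h2 : Odd (Nat.card X) := by
          rw [hXdef, card_map_of_injective (subtype_injective _)]
          exact DGroup.odd_oddCore _
        have hz2 : orderOf z = 2 := h.central2.1
        exact Nat.not_even_iff_odd.2 h2 (even_iff_two_dvd.2 (hz2 ▸ Subgroup.orderOf_dvd_natCard _
          (e1 ▸ mem_top z : z ∈ X)))
    have hse : Cfsg.IsStronglyEmbedded H0 := by
      refine U3Type.stronglyEmbedded_of S hH0top hNS ⟨z, h.mem.1, h.central2.1⟩ fun s hs ho c hc => ?_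
      obtain ⟨n, hn, hnz⟩ := htr s (hel s hs) (ne_one_of_order_two ho)
      have hc' : n⁻¹ * c * n ∈ centralizer ({z} : Set G) := by
        rw [mem_centralizer_singleton_iff]
        calc n⁻¹ * c * n * z = n⁻¹ * (c * (n * z * n⁻¹)) * n := by group
          _ = n⁻¹ * ((n * z * n⁻¹) * c) * n := by rw [hnz, mem_centralizer_singleton_iff.1 hc]
          _ = z * (n⁻¹ * c * n) := by group
      have := mul_mem (mul_mem (hNS hn) (hCz hc')) (inv_mem (hNS hn))
      rwa [show n * (n⁻¹ * c * n) * n⁻¹ = c by group] at this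
    haveI : Group.IsSolvable H0 := Bender.Consumers.isSolvable Bender.Consumers.structure_all hse
      (Bender.Consumers.pairRank_of_simple hse)
    haveI : Group.IsSolvable (centralizer ({z} : Set G)) :=
      solvable_of_solvable_injective (inclusion_injective hCz)
    haveI : Group.IsSolvable (h.closureQ hx) := by
      haveI : Group.IsSolvable (Quot S z) := Group.isSolvable_of_surjective proj_surjective
      infer_instance
    haveI := (h.closureQ_three hcore hO hx hx1 hxz).isSimpleGroup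
    refine (h.closureQ_se hcore hx hx1 hxz).1 (eq_top_iff.2 fun g _ => StrongEmbed.mem_of_commute
      (h.closureQ_se hcore hx hx1 hxz) (s := (⟨_, h.mem_closureQ hx⟩ : h.closureQ hx))
      (proj_mem.2 (le_normalizer hx.1))
      (orderOf_two (Subtype.ext (h.proj_lift_two hx)) fun e =>
        h.proj_ne_one (e := h.lift hx) hx.2.1 hx1 hxz (congrArg Subtype.val e)) ?_)
    exact IsSimpleGroup.comm_iff_isSolvable.2 inferInstance _ _
  -- the core has order two
  have hObot : Cfsg.oddCore (centralizer ({z} : Set G)) = ⊥ :=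
    (map_eq_bot_iff_of_injective _ (subtype_injective _)).1 hXbot
  obtain ⟨τ, hτ⟩ := h.exists_sign hel h8
  have hker : (normS S z).normalCore ⊓ τ.ker = ⊥ := by
    refine le_bot_iff.1 (hObot ▸ DGroup.le_oddCore inferInstance ?_)
    rw [← Nat.not_even_iff_odd, even_iff_two_dvd]
    intro hd
    obtain ⟨y, hy⟩ := exists_prime_orderOf_dvd_card' 2 hd
    have hy2 : ((y.1 : centralizer ({z} : Set G)) : G) * (y.1 : centralizer ({z} : Set G)) = 1 :=
      congrArg (fun w : ↥((normS S z).normalCore ⊓ τ.ker) => ((w.1 : centralizer ({z} : Set G)) : G))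
        (mul_self_of_order_two hy)
    rcases h.core_invol y.2.1 hy2 with e1 | e1
    · rw [show y = 1 from Subtype.ext (Subtype.ext e1), orderOf_one] at hy
      omega
    · exact hτ (by rw [← show y.1 = h.lift h.mem from Subtype.ext e1]; exact y.2.2)
  let Φ : centralizer ({z} : Set G) →* Multiplicative (ZMod 2) × Quot S z := τ.prod (proj S z)
  have hΦ : Function.Injective Φ := (injective_iff_map_eq_one Φ).2 fun c hc => by
    have h1 : c ∈ (normS S z).normalCore ⊓ τ.ker :=
      ⟨(QuotientGroup.eq_one_iff c).1 (congrArg Prod.snd hc), congrArg Prod.fst hc⟩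
    rwa [hker, mem_bot] at h1
  have hΦs : Function.Surjective Φ := by
    rintro ⟨a, g⟩
    obtain ⟨c, rfl⟩ := proj_surjective g
    have hzN := h.proj_z
    have hcases := z2_cases
    rcases hcases a _ hτ (τ c) with rfl | rfl
    · exact ⟨c, rfl⟩
    · exact ⟨c * h.lift h.mem, Prod.ext (map_mul τ _ _) (by
        show proj S z (c * h.lift h.mem) = proj S z c
        rw [map_mul, hzN, mul_one])⟩
  -- the quotient acts on five points
  obtain ⟨g₀, hg₀⟩ : ∃ g, g ∉ normQ S z := by
    by_contra hno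
    push Not at hno
    exact h.normQ_ne_top (eq_top_iff.2 fun g _ => hno g)
  let f : Option (h.qgroup hx) → Quot S z ⧸ normQ S z := fun o =>
    match o with
    | none => QuotientGroup.mk 1
    | some w => QuotientGroup.mk ((w : Quot S z) * g₀)
  have hf : Function.Bijective f := by
    have hout : ∀ w : h.qgroup hx, (w : Quot S z) * g₀ ∉ normQ S z := fun w e => hg₀ (by
      simpa using mul_mem (inv_mem (h.qgroup_le hx w.2)) e)
    constructor
    · rintro (_ | w) (_ | w') e
      · rfl
      · exact absurd (by simpa using QuotientGroup.eq.1 e) (hout w')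
      · exact absurd (by simpa using QuotientGroup.eq.1 e.symm) (hout w)
      · have h1 := QuotientGroup.eq.1 e
        rw [show ((w : Quot S z) * g₀)⁻¹ * ((w' : Quot S z) * g₀) =
          g₀⁻¹ * ((w : Quot S z)⁻¹ * w') * g₀ by group] at h1
        exact congrArg some (Subtype.ext (inv_mul_eq_one.1 (h.eq_one_of_semiregular hcore hO hx hx1 hxz
          (mul_mem (inv_mem w.2) w'.2) hg₀ h1)))
    · intro q
      obtain ⟨g, rfl⟩ := QuotientGroup.mk_surjective q
      by_cases hg : g ∈ normQ S z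
      · exact ⟨none, QuotientGroup.eq.2 (by simpa using hg)⟩
      · obtain ⟨w, hw, hwg⟩ := h.exists_move hcore hO hx hx1 hxz hg₀ hg
        exact ⟨some ⟨w, hw⟩, (QuotientGroup.eq.2 hwg).symm⟩
  haveI := Fintype.ofFinite (Quot S z ⧸ normQ S z)
  have h5 : Nat.card (Quot S z ⧸ normQ S z) = 5 := by
    rw [← Nat.card_eq_of_bijective f hf, Finite.card_option, h4]
  let e5 : Quot S z ⧸ normQ S z ≃ Fin 5 := Finite.equivFinOfCardEq h5
  let ρ : Quot S z →* Equiv.Perm (Fin 5) :=
    e5.permCongrHom.toMonoidHom.comp (MulAction.toPermHom (Quot S z) (Quot S z ⧸ normQ S z))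
  have hρ : Function.Injective ρ := (injective_iff_map_eq_one ρ).2 fun g hg => by
    have h1 : g ∈ (MulAction.toPermHom (Quot S z) (Quot S z ⧸ normQ S z)).ker :=
      e5.permCongrHom.injective (hg.trans (map_one _).symm)
    rwa [← normalCore_eq_ker, h.normQ_core, mem_bot] at h1
  have hd120 : Nat.card (Quot S z) ∣ 120 := by
    have := card_dvd_of_injective ρ hρ
    rwa [Nat.card_perm, Nat.card_fin] at this
  have hcardS : Nat.card (h.sylowQ : Subgroup (Quot S z)) = 4 := by
    rw [← h4]
    refine congrArg (fun A : Subgroup (Quot S z) => Nat.card A) (le_antisymm (fun g hg => ?_) inf_le_left)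
    obtain ⟨c, hc, rfl⟩ := h.mem_sylowQ.1 hg
    exact h.mem_qgroup hcore hO hx hx1 hxz (hel _ hc)
  have h3 : 3 ∣ Nat.card (normQ S z) := by
    set X3 := {g : Quot S z // g ∈ h.qgroup hx ∧ g ≠ 1}
    have hX3 : Nat.card X3 = 3 := by
      have : Nat.card X3 + 1 = 4 := by
        rw [← h4, ← Finite.card_option]
        refine Nat.card_eq_of_bijective (fun o => match o with
          | none => (1 : h.qgroup hx)
          | some g => ⟨g.1, g.2.1⟩) ⟨?_, ?_⟩
        · rintro (_ | a) (_ | b) e
          · rfl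
          · exact absurd (congrArg Subtype.val e).symm b.2.2
          · exact absurd (congrArg Subtype.val e) a.2.2
          · exact congrArg some (Subtype.ext (congrArg Subtype.val e :))
        · intro g
          by_cases hg : (g : Quot S z) = 1
          · exact ⟨none, Subtype.ext hg.symm⟩
          · exact ⟨some ⟨g, g.2, hg⟩, rfl⟩
      omega
    letI : MulAction (normQ S z) X3 :=
      { smul := fun n g => ⟨(n : Quot S z) * g.1 * (n : Quot S z)⁻¹, by
          obtain ⟨v, hv, e⟩ := h.qgroup_eq hcore hO hx hx1 hxz h8 h4 g.2.1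
          obtain ⟨c, hc⟩ := proj_surjective (n : Quot S z)
          have hcn : (c : G) ∈ normalizer ((S : Subgroup G) : Set G) := proj_mem.1 (hc ▸ n.2)
          refine ⟨?_, conj_ne_one g.2.2⟩
          have := h.mem_qgroup hcore hO hx hx1 hxz (normalizer_conj_mem hcn hv)
          rw [← hc, ← e, ← map_inv, ← map_mul, ← map_mul]
          exact this⟩
        one_smul := fun g => Subtype.ext (show (1 : Quot S z) * g.1 * (1 : Quot S z)⁻¹ = g.1 by group)
        mul_smul := fun m n g => Subtype.ext (show (m : Quot S z) * n * g.1 * ((m : Quot S z) * n)⁻¹ =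
          (m : Quot S z) * ((n : Quot S z) * g.1 * (n : Quot S z)⁻¹) * (m : Quot S z)⁻¹ by group) }
    haveI : MulAction.IsPretransitive (normQ S z) X3 := ⟨fun a b => by
      obtain ⟨v, hv, ev⟩ := h.qgroup_eq hcore hO hx hx1 hxz h8 h4 a.2.1
      obtain ⟨w, hw, ew⟩ := h.qgroup_eq hcore hO hx hx1 hxz h8 h4 b.2.1
      obtain ⟨hv1, hvz⟩ := h.image_ne_z (hy := hv) (ev ▸ a.2.2)
      obtain ⟨hw1, hwz⟩ := h.image_ne_z (hy := hw) (ew ▸ b.2.2)
      obtain ⟨n, hn, hnz, hnv⟩ := h.exists_conj hcore hO hv hv1 hvz hw hw1 hwz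
      have hnC : n ∈ centralizer ({z} : Set G) := mem_centralizer_singleton_iff.2
        (mul_inv_eq_iff_eq_mul.1 hnz)
      refine ⟨⟨proj S z ⟨n, hnC⟩, proj_mem.2 hn⟩, Subtype.ext ?_⟩
      show proj S z ⟨n, hnC⟩ * a.1 * (proj S z ⟨n, hnC⟩)⁻¹ = b.1
      rw [← ev, ← ew, ← map_inv, ← map_mul, ← map_mul]
      rcases hnv with e | e
      · exact congrArg _ (Subtype.ext e)
      · have e' : (⟨n, hnC⟩ * h.lift hv * (⟨n, hnC⟩)⁻¹ : centralizer ({z} : Set G)) =
            h.lift hw * h.lift h.mem := Subtype.ext e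
        rw [e', map_mul, h.proj_z, mul_one]⟩
    have hne : Nonempty X3 := ⟨⟨_, h.mem_qgroup hcore hO hx hx1 hxz hx,
      h.proj_ne_one (e := h.lift hx) hx.2.1 hx1 hxz⟩⟩
    obtain ⟨a⟩ := hne
    have := MulAction.index_stabilizer_of_transitive (G := normQ S z) a
    rw [hX3] at this
    exact this ▸ index_dvd_card _
  have hY : Nat.card (Quot S z) = 60 := by
    have h1 : Nat.card (Quot S z) = 5 * Nat.card (normQ S z) := by
      rw [← (normQ S z).index_mul_card, index_eq_card, h5]
    have h2 : ¬ 8 ∣ Nat.card (Quot S z) := fun hd => by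
      have := h.sylowQ.card_eq_multiplicity
      rw [hcardS] at this
      have h8' : 3 ≤ (Nat.card (Quot S z)).factorization 2 :=
        (Nat.prime_two.pow_dvd_iff_le_factorization Nat.card_pos.ne').1 hd
      have := Nat.pow_le_pow_right (two_pos : 0 < 2) h8'
      omega
    have h4' : 4 ∣ Nat.card (normQ S z) := hcardS ▸ card_dvd_of_le h.sylowQ_le
    obtain ⟨k, hk⟩ : 12 ∣ Nat.card (normQ S z) := Nat.Coprime.mul_dvd_of_dvd_of_dvd (by norm_num) h4' h3
    rw [h1, hk] at hd120 h2
    have hkle : k ≤ 2 := by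
      have := Nat.le_of_dvd (by norm_num) hd120
      omega
    interval_cases k
    · simp at h2
    · omega
    · norm_num at h2
  have hrange : ρ.range = alternatingGroup (Fin 5) := by
    refine Equiv.Perm.eq_alternatingGroup_of_index_eq_two ?_
    have := ρ.range.card_mul_index
    rw [← Nat.card_congr (MonoidHom.ofInjective hρ).toEquiv, hY, Nat.card_perm, Nat.card_fin] at this
    norm_num [Nat.factorial] at this
    omega
  let eY : Quot S z ≃* alternatingGroup (Fin 5) :=
    (MonoidHom.ofInjective hρ).trans (MulEquiv.subgroupCongr hrange)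
  exact Cfsg.Agent.S0448.result z h.central2
    ((MulEquiv.ofBijective Φ ⟨hΦ, hΦs⟩).trans ((MulEquiv.refl _).prodCongr eY))

end Bad

end CfsgLib.CentralRankOne
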