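import Cfsg.Agent.S0205
import Mathlib.FieldTheory.Finite.Basic
import Mathlib.FieldTheory.Finite.GaloisField
import Mathlib.RingTheory.IntegralDomain
import Mathlib.GroupTheory.Solvable

/-!
# An odd group of automorphisms fixing a point, transitive modulo that point

If the stabilizer of `z` in an odd group of automorphisms of an elementary abelian 2-group is
transitive on the nontrivial cosets of `⟨z⟩`, then `z` is fixed or the group has order at most
eight and is one orbit.
-/

set_option autoImplicit false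
set_option linter.unusedSectionVars false
set_option linter.style.haveILetI false

namespace CfsgLib.CentralRankOne

open Subgroup
open scoped commutatorElement

universe u

variable {M : Type u} [CommGroup M] [Finite M] {z : M}

/-- The data: `B` fixes `z` and is transitive modulo `z`. -/
structure CosetTrans (B : Subgroup (MulAut M)) (z : M) : Prop where
  exp : ∀ x : M, x * x = 1
  ne : z ≠ 1
  odd : Odd (Nat.card B)
  fix : ∀ b ∈ B, b z = z
  trans : ∀ v w : M, v ≠ 1 → v ≠ z → w ≠ 1 → w ≠ z → ∃ b ∈ B, b v = w ∨ b v = w * z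

variable {B : Subgroup (MulAut M)}

theorem CosetTrans.no_swap (h : CosetTrans B z) {b : MulAut M} (hb : b ∈ B) {v : M} : b v ≠ v * z := by
  intro e
  have h2 : (b ^ 2) v = v := by
    rw [sq, MulAut.mul_apply, e, map_mul, e, h.fix b hb, mul_assoc, h.exp, mul_one]
  obtain ⟨k, hk⟩ := h.odd.of_dvd_nat (B.orderOf_dvd_natCard hb)
  have h3 : ∀ i : ℕ, ((b ^ 2) ^ i) v = v := by
    intro i
    induction i with
    | zero => simp
    | succ i ih => rw [pow_succ, MulAut.mul_apply, h2, ih]
  have h1 : b ^ (2 * k + 1) = 1 := by rw [← hk, pow_orderOf_eq_one]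
  rw [pow_succ', pow_mul] at h1
  have h4 : (b * (b ^ 2) ^ k) v = v := by rw [h1]; rfl
  rw [MulAut.mul_apply, h3, e] at h4
  exact h.ne (mul_left_cancel (h4.trans (mul_one v).symm))

/-- The number of images of a point outside `⟨z⟩`. -/
theorem CosetTrans.card_orbit (h : CosetTrans B z) {v : M} (hv : v ≠ 1) (hvz : v ≠ z) :
    Nat.card M = 2 + 2 * {w : M | ∃ b ∈ B, b v = w}.ncard := by
  classical
  set O := {w : M | ∃ b ∈ B, b v = w} with hO
  have hO1 : ∀ w ∈ O, w ≠ 1 ∧ w ≠ z := by
    rintro w ⟨b, hb, rfl⟩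
    exact ⟨fun e => hv (b.injective (e.trans (map_one b).symm)),
      fun e => hvz (b.injective (e.trans (h.fix b hb).symm))⟩
  set O' := (fun w => w * z) '' O with hO'
  have hdisj : Disjoint O O' := by
    rw [Set.disjoint_left]
    rintro w ⟨b, hb, rfl⟩ ⟨w', ⟨b', hb', rfl⟩, e⟩
    refine h.no_swap (mul_mem (inv_mem hb') hb) (v := v) ?_
    show b'⁻¹ (b v) = v * z
    rw [show b v = b' v * z from e.symm, map_mul]
    congr 1
    · exact b'.symm_apply_apply v
    · exact h.fix _ (inv_mem hb')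
  have hdisj2 : Disjoint ({1, z} : Set M) (O ∪ O') := by
    rw [Set.disjoint_left]
    rintro w hw (hw' | ⟨w', hw', rfl⟩)
    · rcases hw with rfl | rfl
      · exact (hO1 _ hw').1 rfl
      · exact (hO1 _ hw').2 rfl
    · rcases hw with e | e
      · exact (hO1 _ hw').2 (by
          have := congrArg (fun y => y * z) e
          simpa [mul_assoc, h.exp] using this)
      · exact (hO1 _ hw').1 (mul_right_cancel (e.trans (one_mul z).symm))
  have hall : ({1, z} : Set M) ∪ (O ∪ O') = Set.univ := by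
    refine Set.eq_univ_of_forall fun w => ?_
    by_cases hw : w = 1 ∨ w = z
    · exact Or.inl hw
    · push Not at hw
      obtain ⟨b, hb, e | e⟩ := h.trans v w hv hvz hw.1 hw.2
      · exact Or.inr (Or.inl ⟨b, hb, e⟩)
      · exact Or.inr (Or.inr ⟨w * z, ⟨b, hb, e⟩, by show w * z * z = w; rw [mul_assoc, h.exp, mul_one]⟩)
  have h1 := congrArg Set.ncard hall
  rw [Set.ncard_union_eq hdisj2, Set.ncard_union_eq hdisj, Set.ncard_univ,
    Set.ncard_pair (Ne.symm h.ne), hO', Set.ncard_image_of_injective O (mul_left_injective z)] at h1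
  omega

/-- An odd subgroup normalized by `B` fixes `z` or moves it to every nontrivial element. -/
theorem CosetTrans.fix_or_trans (h : CosetTrans B z) (X : Subgroup (MulAut M))
    (hX : Odd (Nat.card X)) (hn : ∀ b ∈ B, ∀ x ∈ X, b * x * b⁻¹ ∈ X) :
    (∀ x ∈ X, x z = z) ∨ ∀ v : M, v ≠ 1 → ∃ x ∈ X, x z = v := by
  classical
  by_contra hcon
  push Not at hcon
  obtain ⟨⟨x, hx, hxz⟩, w, hw1, hw⟩ := hcon
  set Z := MulAction.orbit X z with hZ
  have hmem : ∀ {y : M}, y ∈ Z ↔ ∃ x ∈ X, x z = y :=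
    fun {y} => ⟨fun ⟨x, e⟩ => ⟨x, x.2, e⟩, fun ⟨x, hx, e⟩ => ⟨⟨x, hx⟩, e⟩⟩
  set v := x z with hv
  have hvZ : v ∈ Z := hmem.2 ⟨x, hx, rfl⟩
  have hv1 : v ≠ 1 := fun e => h.ne (x.injective (e.trans (map_one x).symm))
  have hB : ∀ b ∈ B, ∀ y ∈ Z, b y ∈ Z := by
    rintro b hb y hy
    obtain ⟨x', hx', rfl⟩ := hmem.1 hy
    refine hmem.2 ⟨b * x' * b⁻¹, hn b hb x' hx', ?_⟩
    show b (x' (b⁻¹ z)) = b (x' z)
    rw [h.fix _ (inv_mem hb)]
  have hwz : w ≠ z := fun e => hw 1 (one_mem X) e.symm
  obtain ⟨b, hb, e | e⟩ := h.trans v w hv1 hxz hw1 hwz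
  · obtain ⟨x', hx', e'⟩ := hmem.1 (e ▸ hB b hb v hvZ)
    exact hw x' hx' e'
  -- so the orbit is `z` with the orbit of `v`
  have hno : v * z ∉ Z := fun hvz => by
    have h2 := hB b hb _ hvz
    rw [map_mul, e, h.fix b hb, mul_assoc, h.exp, mul_one] at h2
    obtain ⟨x', hx', e'⟩ := hmem.1 h2
    exact hw x' hx' e'
  have hZeq : Z = insert z {y : M | ∃ b ∈ B, b v = y} := by
    ext y
    constructor
    · intro hy
      by_cases hyz : y = z
      · exact Or.inl hyz
      have hy1 : y ≠ 1 := by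
        obtain ⟨x', -, rfl⟩ := hmem.1 hy
        exact fun e => h.ne (x'.injective (e.trans (map_one x').symm))
      obtain ⟨b', hb', e' | e'⟩ := h.trans v y hv1 hxz hy1 hyz
      · exact Or.inr ⟨b', hb', e'⟩
      · exfalso
        refine hno ?_
        have h2 := hB _ (inv_mem hb') y hy
        have h3 : b'⁻¹ (y * z) = v := by rw [← e']; exact b'.symm_apply_apply v
        rw [map_mul, h.fix _ (inv_mem hb')] at h3
        rwa [← h3, mul_assoc, h.exp, mul_one]
    · rintro (rfl | ⟨b', hb', rfl⟩)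
      · exact hmem.2 ⟨1, one_mem X, rfl⟩
      · exact hB b' hb' v hvZ
  have hcard := h.card_orbit hv1 hxz
  have hZodd : Odd Z.ncard := by
    have h2 := MulAction.index_stabilizer X z
    rw [← h2]
    exact hX.of_dvd_nat (index_dvd_card _)
  rw [hZeq, Set.ncard_insert_of_notMem (by
    rintro ⟨b', hb', e'⟩
    exact hxz (b'.injective (e'.trans (h.fix b' hb').symm))) (Set.toFinite _)] at hZodd
  haveI : Fact (Nat.Prime 2) := ⟨Nat.prime_two⟩
  have hpg : IsPGroup 2 M := fun y => ⟨1, by rw [pow_one, sq]; exact h.exp y⟩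
  obtain ⟨m, hm⟩ := IsPGroup.iff_card.1 hpg
  obtain ⟨k, hk⟩ := hZodd
  have hpos : 0 < {y : M | ∃ b ∈ B, b v = y}.ncard :=
    (Set.ncard_pos (Set.toFinite _)).2 ⟨v, 1, one_mem B, rfl⟩
  have : 4 ∣ Nat.card M := by
    rcases m with _ | _ | m
    · rw [pow_zero] at hm; omega
    · rw [pow_one] at hm; omega
    · exact hm ▸ Dvd.intro (2 ^ m) (by ring)
  omega

/-- Commuting automorphisms agreeing at a point with full orbit agree. -/
theorem endo_eq {N : Subgroup (MulAut M)} {z : M} (hN : ∀ v : M, v ≠ 1 → ∃ n ∈ N, n z = v)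
    {f g : M →* M} (hf : ∀ n ∈ N, ∀ x, f (n x) = n (f x)) (hg : ∀ n ∈ N, ∀ x, g (n x) = n (g x))
    (he : f z = g z) : f = g := by
  ext x
  by_cases hx : x = 1
  · rw [hx, map_one, map_one]
  · obtain ⟨n, hn, rfl⟩ := hN x hx
    rw [hf n hn, hg n hn, he]

/-- A field on `M` on which `B` acts by ring automorphisms bounds the orbits of `B`. -/
theorem orbit_le_log {K : Type u} [Field K] [Finite K] [CharP K 2] {m : ℕ} (hm : Nat.card K = 2 ^ m)
    (v : K) (T : Set K) (hT : ∀ w ∈ T, ∃ σ : K ≃+* K, σ v = w) : T.ncard ≤ m := by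
  classical
  haveI : Fact (Nat.Prime 2) := ⟨Nat.prime_two⟩
  letI := ZMod.algebra K 2
  have hfr : Module.finrank (ZMod 2) K = m := by
    have h := Module.natCard_eq_pow_finrank (K := ZMod 2) (V := K)
    rw [hm, Nat.card_zmod] at h
    exact (Nat.pow_right_injective le_rfl h).symm
  haveI : Module.Finite (ZMod 2) K := inferInstance
  have hcard : Nat.card (K ≃ₐ[ZMod 2] K) = m := by
    rw [IsGalois.card_aut_eq_finrank, hfr]
  calc T.ncard ≤ ((fun σ : K ≃ₐ[ZMod 2] K => σ v) '' Set.univ).ncard := by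
        refine Set.ncard_le_ncard (fun w hw => ?_) (Set.toFinite _)
        obtain ⟨σ, hσ⟩ := hT w hw
        exact ⟨AlgEquiv.ofRingEquiv (f := σ) (fun r => by
          obtain ⟨n, rfl⟩ := ZMod.natCast_zmod_surjective (n := 2) r
          rw [map_natCast, map_natCast]), trivial, hσ⟩
    _ ≤ (Set.univ : Set (K ≃ₐ[ZMod 2] K)).ncard := Set.ncard_image_le (Set.toFinite _)
    _ = m := by rw [Set.ncard_univ, hcard]

/-- The field of a transitive abelian group of automorphisms. -/
theorem log_bound (h : CosetTrans B z) (N : Subgroup (MulAut M))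
    (hNc : ∀ a ∈ N, ∀ b ∈ N, a * b = b * a) (hn : ∀ b ∈ B, ∀ x ∈ N, b * x * b⁻¹ ∈ N)
    (hN : ∀ v : M, v ≠ 1 → ∃ n ∈ N, n z = v) : Nat.card M ≤ 8 := by
  classical
  let e : M → (M →* M) := fun r =>
    if hr : r = 1 then 1 else ((hN r hr).choose : MulAut M).toMonoidHom
  have he1 : e 1 = 1 := dif_pos rfl
  have hez : ∀ r, e r z = r := fun r => by
    by_cases hr : r = 1
    · rw [hr, he1]; rfl
    · simp only [e, dif_neg hr]; exact (hN r hr).choose_spec.2
  have hec : ∀ r, ∀ n ∈ N, ∀ x, e r (n x) = n (e r x) := fun r n hn' x => by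
    by_cases hr : r = 1
    · rw [hr, he1]; exact (map_one n).symm
    · simp only [e, dif_neg hr]
      exact DFunLike.congr_fun (hNc _ (hN r hr).choose_spec.1 n hn') x
  have hadd : ∀ r s x, e (r * s) x = e r x * e s x := fun r s x => by
    refine DFunLike.congr_fun (endo_eq (g := e r * e s) hN (hec _) (fun n hn' y => ?_) ?_) x
    · show e r (n y) * e s (n y) = n (e r y * e s y)
      rw [hec r n hn', hec s n hn', map_mul]
    · show _ = e r z * e s z
      rw [hez, hez, hez]
  have hcomm : ∀ r s, e r s = e s r := fun r s => by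
    by_cases hs : s = 1
    · rw [hs, map_one, he1]; rfl
    · obtain ⟨n, hn', rfl⟩ := hN s hs
      rw [hec r n hn', hez]
      exact (DFunLike.congr_fun (endo_eq (f := e (n z)) (g := n.toMonoidHom) hN (hec _)
        (fun n' hn'' x => DFunLike.congr_fun (hNc n hn' n' hn'') x) (hez _)) r).symm
  have hassoc : ∀ r s t, e (e r s) t = e r (e s t) := fun r s t => by
    refine DFunLike.congr_fun (endo_eq (g := (e r).comp (e s)) hN (hec _) (fun n hn' y => ?_) ?_) t
    · show e r (e s (n y)) = n (e r (e s y))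
      rw [hec s n hn', hec r n hn']
    · show _ = e r (e s z)
      rw [hez, hez]
  letI : CommRing (Additive M) :=
    { (inferInstance : AddCommGroup (Additive M)) with
      mul := fun r s => Additive.ofMul (e r.toMul s.toMul)
      one := Additive.ofMul z
      mul_assoc := fun r s t => congrArg Additive.ofMul (hassoc r.toMul s.toMul t.toMul)
      one_mul := fun r => congrArg Additive.ofMul (show e z r.toMul = r.toMul by rw [hcomm, hez])
      mul_one := fun r => congrArg Additive.ofMul (hez r.toMul)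
      left_distrib := fun r s t => congrArg Additive.ofMul (map_mul (e r.toMul) s.toMul t.toMul)
      right_distrib := fun r s t => congrArg Additive.ofMul (hadd r.toMul s.toMul t.toMul)
      zero_mul := fun r => congrArg Additive.ofMul (show e 1 r.toMul = 1 by rw [he1]; rfl)
      mul_zero := fun r => congrArg Additive.ofMul (map_one (e r.toMul))
      mul_comm := fun r s => congrArg Additive.ofMul (hcomm r.toMul s.toMul) }
  haveI : Nontrivial (Additive M) := ⟨⟨Additive.ofMul z, 0, fun he => h.ne he⟩⟩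
  haveI : NoZeroDivisors (Additive M) := ⟨fun {r s} hrs => by
    by_cases hr : r = 0
    · exact Or.inl hr
    · refine Or.inr ?_
      have h1 : e r.toMul s.toMul = 1 := hrs
      simp only [e, dif_neg (show r.toMul ≠ 1 from hr)] at h1
      exact ((hN r.toMul hr).choose).injective (h1.trans (map_one _).symm)⟩
  haveI : IsDomain (Additive M) := NoZeroDivisors.to_isDomain _
  haveI := Fintype.ofFinite (Additive M)
  letI : Field (Additive M) := Fintype.fieldOfDomain _
  haveI : CharP (Additive M) 2 := CharTwo.of_one_ne_zero_of_two_eq_zero one_ne_zero (by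
    rw [← one_add_one_eq_two]
    exact h.exp z)
  haveI : Fact (Nat.Prime 2) := ⟨Nat.prime_two⟩
  obtain ⟨m, hm⟩ := IsPGroup.iff_card.1 (show IsPGroup 2 M from fun y => ⟨1, by
    rw [pow_one, sq]; exact h.exp y⟩)
  by_contra hbig
  obtain ⟨v, hv1, hvz⟩ : ∃ v : M, v ≠ 1 ∧ v ≠ z := by
    by_contra hno
    push Not at hno
    have h2 : (Set.univ : Set M).ncard ≤ ({1, z} : Set M).ncard :=
      Set.ncard_le_ncard (fun y _ => (em (y = 1)).imp id (hno y)) (Set.toFinite _)
    rw [Set.ncard_univ, Set.ncard_pair (Ne.symm h.ne)] at h2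
    omega
  have hT := orbit_le_log (K := Additive M) (m := m) hm (Additive.ofMul v)
    (Additive.ofMul '' {w : M | ∃ b ∈ B, b v = w}) (by
      rintro _ ⟨w, ⟨b, hb, rfl⟩, rfl⟩
      refine ⟨{ toFun := fun r => Additive.ofMul (b r.toMul)
                invFun := fun r => Additive.ofMul (b.symm r.toMul)
                left_inv := fun r => congrArg Additive.ofMul (b.symm_apply_apply r.toMul)
                right_inv := fun r => congrArg Additive.ofMul (b.apply_symm_apply r.toMul)
                map_mul' := fun r s => congrArg Additive.ofMul ?_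
                map_add' := fun r s => congrArg Additive.ofMul (map_mul b r.toMul s.toMul) }, rfl⟩
      show b (e r.toMul s.toMul) = e (b r.toMul) (b s.toMul)
      by_cases hr : r.toMul = 1
      · rw [hr, map_one, he1]; exact map_one b
      · obtain ⟨n, hn', hnr⟩ := hN _ hr
        have h1 : e r.toMul = n.toMonoidHom := endo_eq hN (hec _)
          (fun n' hn'' x => DFunLike.congr_fun (hNc n hn' n' hn'') x) (by rw [hez]; exact hnr.symm)
        have h2 : e (b r.toMul) = (b * n * b⁻¹).toMonoidHom := endo_eq hN (hec _)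
          (fun n' hn'' x => DFunLike.congr_fun (hNc _ (hn b hb n hn') n' hn'') x) (by
            rw [hez]
            show b r.toMul = b (n (b⁻¹ z))
            rw [h.fix _ (inv_mem hb), hnr])
        rw [h1, h2]
        show b (n s.toMul) = b (n (b.symm (b s.toMul)))
        rw [b.symm_apply_apply])
  rw [Set.ncard_image_of_injective _ Additive.ofMul.injective] at hT
  have hc := h.card_orbit hv1 hvz
  have h4 : ∀ k : ℕ, 4 ≤ k → 2 * k + 2 < 2 ^ k := by
    intro k hk
    induction k, hk using Nat.le_induction with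
    | base => norm_num
    | succ k hk ih => rw [pow_succ]; omega
  have h5 : m ≤ 3 := by
    by_contra hm4
    have := h4 m (by omega)
    omega
  exact hbig (hm ▸ (Nat.pow_le_pow_right two_pos h5).trans (by norm_num))

/-- An odd group of automorphisms with stabilizer of `z` transitive modulo `z`. -/
theorem odd_orbit {A : Subgroup (MulAut M)} (hA : Odd (Nat.card A)) {z : M} (hz : z ≠ 1)
    (hexp : ∀ x : M, x * x = 1)
    (htr : ∀ v w : M, v ≠ 1 → v ≠ z → w ≠ 1 → w ≠ z → ∃ a ∈ A, a z = z ∧ (a v = w ∨ a v = w * z)) :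
    (∀ a ∈ A, a z = z) ∨ (Nat.card M ≤ 8 ∧ ∀ v : M, v ≠ 1 → ∃ a ∈ A, a z = v) := by
  let B : Subgroup (MulAut M) := A ⊓ MulAction.stabilizer (MulAut M) z
  have hB : CosetTrans B z := ⟨hexp, hz, hA.of_dvd_nat (card_dvd_of_le inf_le_left),
    fun b hb => hb.2, fun v w h1 h2 h3 h4 => by
      obtain ⟨a, ha, haz, hav⟩ := htr v w h1 h2 h3 h4
      exact ⟨a, ⟨ha, haz⟩, hav⟩⟩
  rcases hB.fix_or_trans A hA (fun b hb x hx => mul_mem (mul_mem hb.1 hx) (inv_mem hb.1)) with h | h
  · exact Or.inl h
  refine or_iff_not_imp_left.2 fun hne => ⟨?_, h⟩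
  push Not at hne
  obtain ⟨a₀, ha₀, hne⟩ := hne
  haveI : Group.IsSolvable A := Cfsg.Agent.S0205.result hA
  -- the last nontrivial term of the derived series
  obtain ⟨n, hn⟩ := (Group.isSolvable_def (G := A)).1 inferInstance
  obtain ⟨k, hk, hk1⟩ : ∃ k, derivedSeries A k ≠ ⊥ ∧ derivedSeries A (k + 1) = ⊥ := by
    induction n with
    | zero =>
      refine absurd ?_ hne
      have : (⟨a₀, ha₀⟩ : A) ∈ derivedSeries A 0 := mem_top _
      rw [hn, mem_bot] at this
      rw [show a₀ = 1 from congrArg Subtype.val this]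
      rfl
    | succ n ih =>
      by_cases h0 : derivedSeries A n = ⊥
      · exact ih h0
      · exact ⟨n, h0, hn⟩
  set N := (derivedSeries A k).map A.subtype with hN
  haveI := derivedSeries_normal A k
  have hNA : ∀ a ∈ A, ∀ x ∈ N, a * x * a⁻¹ ∈ N := by
    rintro a ha _ ⟨x, hx, rfl⟩
    exact ⟨_, Subgroup.Normal.conj_mem inferInstance x hx ⟨a, ha⟩, rfl⟩
  rcases hB.fix_or_trans N (hA.of_dvd_nat (card_dvd_of_le (map_subtype_le _)))
    (fun b hb x hx => hNA b hb.1 x hx) with hN' | hN'
  · exfalso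
    refine hk ((eq_bot_iff_forall _).2 fun x hx => Subtype.ext (MulEquiv.ext fun v => ?_))
    by_cases hv : v = 1
    · rw [hv]; exact map_one _
    obtain ⟨a, ha, rfl⟩ := h v hv
    have h1 := hN' _ (hNA _ (inv_mem ha) _ ⟨x, hx, rfl⟩)
    have h2 : a⁻¹ ((x : MulAut M) (a z)) = z := by simpa using h1
    exact a.symm.injective (h2.trans (a.symm_apply_apply z).symm)
  · refine log_bound hB N ?_ (fun b hb x hx => hNA b hb.1 x hx) hN'
    rintro _ ⟨x, hx, rfl⟩ _ ⟨y, hy, rfl⟩
    have h1 : ⁅x, y⁆ ∈ derivedSeries A (k + 1) := by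
      rw [derivedSeries_succ]
      exact commutator_mem_commutator hx hy
    rw [hk1, mem_bot, commutatorElement_eq_one_iff_mul_comm] at h1
    exact congrArg Subtype.val h1

end CfsgLib.CentralRankOne
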