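import Cfsg.Agent.CentralRankOne.Transitive
import Cfsg.Agent.SylowTwoMeet.Main
import Cfsg.Agent.PushL2.Setup
import Cfsg.Agent.FTRows.SimpleRankTwo

/-!
# The permutation group `Y` on the cosets of the image of `N(S)`

The Sylow 2-subgroup `Q` of `K` is semiregular and transitive on the other cosets, and has only
three involutions when there are eight central involutions; so it is a four-group or of type
`U₃(4)`.
-/

set_option autoImplicit false
set_option linter.unusedSectionVars false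
set_option linter.style.haveILetI false

namespace CfsgLib.CentralRankOne

open Subgroup
open CfsgLib.Criterion.Act (Core)

universe u

variable {G : Type u} [Group G] [Finite G] {S : Sylow 2 G} {z : G}

namespace Bad

variable (h : Bad S z) (hcore : Core.{u}) (hO : Cfsg.oddCore (Quot S z) = ⊥)
  {x : G} (hx : x ∈ omegaCenter S) (hx1 : x ≠ 1) (hxz : x ≠ z)
include h hx

/-- The image of `S` met with `K`. -/
noncomputable def qgroup : Subgroup (Quot S z) := (h.sylowQ : Subgroup _) ⊓ h.closureQ hx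

theorem exists_sylowK : ∃ P : Sylow 2 (h.closureQ hx),
    (P : Subgroup (h.closureQ hx)) = (h.sylowQ : Subgroup _).subgroupOf (h.closureQ hx) := by
  haveI : Fact (Nat.Prime 2) := ⟨Nat.prime_two⟩
  exact PushL2.exists_sylow_inf (h.closureQ hx) h.sylowQ

theorem qgroup_pgroup : IsPGroup 2 (h.qgroup hx) := h.sylowQ.2.to_le inf_le_left

theorem qgroup_le : h.qgroup hx ≤ normQ S z := inf_le_left.trans h.sylowQ_le

include hcore hO hx1 hxz

theorem qgroup_invol {g : Quot S z} (hg : g ∈ h.qgroup hx) (hg2 : g * g = 1) :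
    ∃ v, ∃ hv : v ∈ omegaCenter S, proj S z (h.lift hv) = g :=
  h.invol_eq hcore hO hx hx1 hxz hg.2 (h.qgroup_le hx hg) hg2

theorem mem_qgroup {v : G} (hv : v ∈ omegaCenter S) : proj S z (h.lift hv) ∈ h.qgroup hx :=
  ⟨h.mem_sylowQ.2 ⟨h.lift hv, hv.1, rfl⟩, h.mem_closureQ' hcore hO hx hx1 hxz hv⟩

/-- `K` is transitive on the cosets of the image of `N(S)`. -/
theorem exists_mem_coset (g : Quot S z) : ∃ k ∈ h.closureQ hx, k⁻¹ * g ∈ normQ S z := by
  set xb := proj S z (h.lift hx) with hxb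
  have hne : xb ≠ 1 := h.proj_ne_one (e := h.lift hx) hx.2.1 hx1 hxz
  have h2 : g * xb * g⁻¹ * (g * xb * g⁻¹) = 1 := by
    rw [show g * xb * g⁻¹ * (g * xb * g⁻¹) = g * (xb * xb) * g⁻¹ by group, h.proj_lift_two hx,
      mul_one, mul_inv_cancel]
  obtain ⟨k, hk⟩ := isConj_iff.1 (StrongEmbed.isConj_of_invols (h.closureQ_se hcore hx hx1 hxz)
    (a := (⟨_, h.mem_closureQ hx⟩ : h.closureQ hx))
    (b := ⟨g * xb * g⁻¹, (inferInstance : (h.closureQ hx).Normal).conj_mem _ (h.mem_closureQ hx) g⟩)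
    (orderOf_two (Subtype.ext (h.proj_lift_two hx)) fun e => hne (congrArg Subtype.val e))
    (orderOf_two (Subtype.ext h2) fun e => conj_ne_one hne (congrArg Subtype.val e)))
  have hk' : (k : Quot S z) * xb * (k : Quot S z)⁻¹ = g * xb * g⁻¹ := congrArg Subtype.val hk
  refine ⟨k, k.2, h.keyQ (e := h.lift hx) hx.1 hx.2.1 hx1 hxz ?_⟩
  show (k : Quot S z)⁻¹ * g * xb * ((k : Quot S z)⁻¹ * g)⁻¹ ∈ _
  rw [show (k : Quot S z)⁻¹ * g * xb * ((k : Quot S z)⁻¹ * g)⁻¹
    = (k : Quot S z)⁻¹ * (g * xb * g⁻¹) * k by group, ← hk',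
    show (k : Quot S z)⁻¹ * (k * xb * (k : Quot S z)⁻¹) * k = xb by group]
  exact proj_mem.2 (le_normalizer hx.1)

/-- `Q` is transitive on the cosets other than the base one. -/
theorem exists_move {g₁ g₂ : Quot S z} (h₁ : g₁ ∉ normQ S z) (h₂ : g₂ ∉ normQ S z) :
    ∃ w ∈ h.qgroup hx, g₂⁻¹ * (w * g₁) ∈ normQ S z := by
  set K := h.closureQ hx with hK
  set H := (normQ S z).subgroupOf K
  have hse := h.closureQ_se hcore hx hx1 hxz
  have hpair : Bender.PairRank K := by
    haveI := (h.closureQ_three hcore hO hx hx1 hxz).isSimpleGroup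
    exact Bender.Consumers.pairRank_of_simple hse
  obtain ⟨T, hTH, hn, hT2, htr⟩ :=
    Bender.Consumers.structure_all K H hse (h.closureQ_core hO hx) hpair
  obtain ⟨P, hP⟩ := h.exists_sylowK hx
  have hmP : ∀ {p : K}, p ∈ (P : Subgroup K) → (p : Quot S z) ∈ (h.sylowQ : Subgroup _) :=
    fun {p} hp => by rwa [hP] at hp
  have hPH : (P : Subgroup K) ≤ H := fun p hp => h.sylowQ_le (hmP hp)
  haveI : (T.subgroupOf H).Normal := (normal_subgroupOf_iff_le_normalizer hTH).2 hn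
  have hTP : T ≤ (P : Subgroup K) := fun t ht => by
    have h1 := SylowTwoMeet.le_sylow (G := H) (R := T.subgroupOf H) hT2.comap_subtype
      (P.subtype hPH) (show (⟨t, hTH ht⟩ : H) ∈ _ from ht)
    rwa [Sylow.coe_subtype, mem_subgroupOf] at h1
  obtain ⟨k₁, hk₁, e₁⟩ := h.exists_mem_coset hcore hO hx hx1 hxz g₁
  obtain ⟨k₂, hk₂, e₂⟩ := h.exists_mem_coset hcore hO hx hx1 hxz g₂
  obtain ⟨w, hw, hww⟩ := htr ⟨k₁, hk₁⟩ ⟨k₂, hk₂⟩
    (fun e => h₁ (by simpa using mul_mem (show k₁ ∈ normQ S z from e) e₁))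
    (fun e => h₂ (by simpa using mul_mem (show k₂ ∈ normQ S z from e) e₂))
  refine ⟨w, ⟨hmP (hTP hw), w.2⟩, ?_⟩
  rw [show g₂⁻¹ * ((w : Quot S z) * g₁)
    = (k₂⁻¹ * g₂)⁻¹ * (k₂⁻¹ * ((w : Quot S z) * k₁)) * (k₁⁻¹ * g₁) by group]
  exact mul_mem (mul_mem (inv_mem e₂) hww) e₁

/-- An element fixing two cosets and centralizing `Q` is trivial. -/
theorem eq_one_of_fix {y g : Quot S z} (hy : y ∈ normQ S z) (hg : g ∉ normQ S z)
    (hfix : g⁻¹ * y * g ∈ normQ S z) (hc : ∀ w ∈ h.qgroup hx, y * w = w * y) : y = 1 := by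
  have h1 : y ∈ (normQ S z).normalCore := by
    intro b
    by_cases hb : b⁻¹ ∈ normQ S z
    · exact mul_mem (mul_mem (by simpa using inv_mem hb) hy) hb
    · obtain ⟨w, hw, hwb⟩ := h.exists_move hcore hO hx hx1 hxz hg hb
      rw [inv_inv] at hwb
      set m := b * (w * g)
      rw [show b * y * b⁻¹ = m * (g⁻¹ * (w⁻¹ * y * w) * g) * m⁻¹ by simp only [m]; group,
        show w⁻¹ * y * w = y by rw [mul_assoc, hc w hw, inv_mul_cancel_left]]
      exact mul_mem (mul_mem hwb hfix) (inv_mem hwb)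
  rwa [h.normQ_core, mem_bot] at h1

/-- An element of the stabilizer differs by an element of `Q` from one fixing a second coset. -/
theorem exists_fixing {y g : Quot S z} (hy : y ∈ normQ S z) (hg : g ∉ normQ S z) :
    ∃ w ∈ h.qgroup hx, g⁻¹ * (w⁻¹ * y) * g ∈ normQ S z := by
  obtain ⟨w, hw, hwg⟩ := h.exists_move hcore hO hx hx1 hxz hg (g₂ := y * g) fun e => hg (by
    simpa using mul_mem (inv_mem hy) e)
  refine ⟨w, hw, ?_⟩
  have := inv_mem hwg
  rwa [show ((y * g)⁻¹ * (w * g))⁻¹ = g⁻¹ * (w⁻¹ * y) * g by group] at this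

/-- `Q` is semiregular off the base coset. -/
theorem eq_one_of_semiregular {q g : Quot S z} (hq : q ∈ h.qgroup hx) (hg : g ∉ normQ S z)
    (hfix : g⁻¹ * q * g ∈ normQ S z) : q = 1 := by
  haveI : Fact (Nat.Prime 2) := ⟨Nat.prime_two⟩
  by_contra hq1
  obtain ⟨m, hm⟩ := IsPGroup.iff_orderOf.1 (h.qgroup_pgroup hx) ⟨q, hq⟩
  rw [← Subgroup.orderOf_coe] at hm
  change orderOf q = 2 ^ m at hm
  obtain ⟨j, rfl⟩ : ∃ j, m = j + 1 := Nat.exists_eq_succ_of_ne_zero fun e => hq1
    (orderOf_eq_one_iff.1 (by rw [hm, e, pow_zero]))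
  set i := q ^ 2 ^ j
  have hi2 : i * i = 1 := by
    rw [← pow_add, show 2 ^ j + 2 ^ j = 2 ^ (j + 1) by ring, ← hm, pow_orderOf_eq_one]
  have hi1 : i ≠ 1 := fun e => by
    have := Nat.le_of_dvd (pow_pos two_pos j) (orderOf_dvd_of_pow_eq_one e)
    rw [hm] at this
    exact absurd this (by simp [pow_succ])
  obtain ⟨v, hv, hvi⟩ := h.qgroup_invol hcore hO hx hx1 hxz (pow_mem hq _) hi2
  obtain ⟨hv1, hvz⟩ := h.image_ne_z (hy := hv) (hvi ▸ hi1)
  refine hg (inv_mem_iff.1 (h.keyQ (e := h.lift hv) hv.1 hv.2.1 hv1 hvz (g := g⁻¹) ?_))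
  rw [hvi, ← conj_pow, inv_inv]
  exact pow_mem hfix _

theorem card_image (h8 : Nat.card (omegaCenter S) = 8) :
    Nat.card {g : Quot S z // g ∈ h.qgroup hx ∧ g * g = 1} ≤ 4 := by
  classical
  let f : omegaCenter S → {g : Quot S z // g ∈ h.qgroup hx ∧ g * g = 1} := fun v =>
    ⟨proj S z (h.lift v.2), h.mem_qgroup hcore hO hx hx1 hxz v.2, h.proj_lift_two v.2⟩
  have hf : Function.Surjective f := fun ⟨g, hg, hg2⟩ => by
    obtain ⟨v, hv, e⟩ := h.qgroup_invol hcore hO hx hx1 hxz hg hg2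
    exact ⟨⟨v, hv⟩, Subtype.ext e⟩
  let φ : omegaCenter S →* Quot S z :=
    (proj S z).comp ((Subgroup.inclusion (fun _ hv => h.sylow_le hv.1)))
  have hker : 2 ≤ Nat.card φ.ker := by
    have h1 : ⟨z, h.mem⟩ ∈ φ.ker := by
      refine MonoidHom.mem_ker.2 ((QuotientGroup.eq_one_iff _).2 fun b => ?_)
      show ((b * h.lift h.mem * b⁻¹ : centralizer ({z} : Set G)) : G) ∈
        normalizer ((S : Subgroup G) : Set G)
      have e2 : ((b * h.lift h.mem * b⁻¹ : centralizer ({z} : Set G)) : G) = z := by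
        show (b : G) * z * (b : G)⁻¹ = z
        rw [h.commute_z b, mul_inv_cancel_right]
      rw [e2]
      exact le_normalizer h.mem.1
    haveI : Nontrivial φ.ker := ⟨⟨⟨_, h1⟩, 1, fun e => h.ne (congrArg (fun a : φ.ker => (a.1 : G)) e)⟩⟩
    exact Finite.one_lt_card
  have h2 := φ.ker.index_mul_card
  rw [index_ker, h8] at h2
  have h3 : Nat.card {g : Quot S z // g ∈ h.qgroup hx ∧ g * g = 1} ≤ Nat.card φ.range := by
    refine Nat.card_le_card_of_injective (fun g => ⟨g.1, ?_⟩) fun a b e => Subtype.ext (congrArg (fun y : φ.range => y.1) e)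
    obtain ⟨v, hv⟩ := hf g
    exact ⟨v, congrArg Subtype.val hv⟩
  nlinarith [Nat.card_pos (α := φ.range)]

/-- `Q` is a four-group or of type `U₃(4)`. -/
theorem qgroup_type (h8 : Nat.card (omegaCenter S) = 8) {F : Type} [Field F] [Fintype F]
    (hF : Fintype.card F = 16) (P' : Sylow 2 (Cfsg.PSU 3 F 4)) :
    Nat.card (h.qgroup hx) = 4 ∨ ∃ P : Sylow 2 (h.closureQ hx),
      (P : Subgroup (h.closureQ hx)) = (h.sylowQ : Subgroup _).subgroupOf (h.closureQ hx) ∧
      Nonempty ((P : Subgroup (h.closureQ hx)) ≃* (P' : Subgroup (Cfsg.PSU 3 F 4))) := by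
  classical
  haveI : Fact (Nat.Prime 2) := ⟨Nat.prime_two⟩
  set K := h.closureQ hx with hK
  haveI := (h.closureQ_three hcore hO hx hx1 hxz).isSimpleGroup
  obtain ⟨P, hP⟩ := h.exists_sylowK hx
  have hmP : ∀ {p : K}, p ∈ (P : Subgroup K) → (p : Quot S z) ∈ (h.sylowQ : Subgroup _) :=
    fun {p} hp => by rwa [hP] at hp
  have hcentP : ∀ p : (P : Subgroup K), p * p = 1 → ∀ q : (P : Subgroup K), q * p = p * q := by
    intro p hp q
    have hpQ : ((p : K) : Quot S z) ∈ h.qgroup hx := ⟨hmP p.2, (p : K).2⟩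
    obtain ⟨v, hv, e⟩ := h.qgroup_invol hcore hO hx hx1 hxz hpQ
      (congrArg (fun a : (P : Subgroup K) => ((a : K) : Quot S z)) hp)
    refine Subtype.ext (Subtype.ext ?_)
    show ((q : K) : Quot S z) * ((p : K) : Quot S z) = ((p : K) : Quot S z) * ((q : K) : Quot S z)
    rw [← e]
    exact h.proj_lift_central hv (hmP q.2)
  have hrank : Cfsg.PRankLE 2 2 K := by
    intro A _ hA
    have hA2 : IsPGroup 2 A := fun a => ⟨1, Subtype.ext (by simpa [pow_one] using hA a a.2)⟩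
    obtain ⟨R, hR⟩ := hA2.exists_le_sylow
    obtain ⟨k, hk⟩ := MulAction.exists_smul_eq K R P
    let f : A → {g : Quot S z // g ∈ h.qgroup hx ∧ g * g = 1} := fun a =>
      ⟨((k * a * k⁻¹ : K) : Quot S z), ⟨(by
          have h1 : k * (a : K) * k⁻¹ ∈ (P : Subgroup K) := by
            rw [← hk, Sylow.coe_subgroup_smul]
            exact ⟨a, hR a.2, rfl⟩
          rwa [hP] at h1), (k * (a : K) * k⁻¹).2⟩,
        congrArg Subtype.val (show (k * a * k⁻¹ : K) * (k * a * k⁻¹) = 1 by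
          rw [show (k * a * k⁻¹ : K) * (k * a * k⁻¹) = k * ((a : K) * a) * k⁻¹ by group, ← sq,
            hA a a.2, mul_one, mul_inv_cancel])⟩
    have hf : Function.Injective f := fun a b e => by
      have : (k * a * k⁻¹ : K) = k * b * k⁻¹ := Subtype.ext (congrArg (fun g => g.1) e)
      exact Subtype.ext (mul_left_cancel (mul_right_cancel this))
    exact (Nat.card_le_card_of_injective f hf).trans
      ((h.card_image hcore hO hx hx1 hxz h8).trans (by norm_num))
  have hK' : ¬ IsMulCommutative K := fun hc => by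
    have hse := h.closureQ_se hcore hx hx1 hxz
    refine hse.1 (eq_top_iff.2 fun g _ => StrongEmbed.mem_of_commute hse
      (s := (⟨_, h.mem_closureQ hx⟩ : K)) (proj_mem.2 (le_normalizer hx.1))
      (orderOf_two (Subtype.ext (h.proj_lift_two hx)) fun e =>
        h.proj_ne_one (e := h.lift hx) hx.2.1 hx1 hxz (congrArg Subtype.val e)) (hc.is_comm.comm _ _))
  have hcard : Nat.card (P : Subgroup K) = Nat.card (h.qgroup hx) := by
    rw [hP]
    exact (Nat.card_congr ⟨fun p => ⟨((p : K) : Quot S z), p.2, (p : K).2⟩,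
      fun q => ⟨⟨q.1, q.2.2⟩, q.2.1⟩, fun _ => rfl, fun _ => rfl⟩)
  rcases FTRows.simple_two_rank_two (fun X [_] [_] hX => Cfsg.Agent.S0205.result hX) hK' hrank P hF P'
    with ⟨n, hn, ⟨e⟩⟩ | ⟨n, hn, -, a, b, ha, hb, hab⟩ | ⟨n, hn, -, a, b, t, ha, -, hdisj, ht, htab⟩ | hU
  · left
    have hc := hcentP (e.symm (DihedralGroup.sr 0)) (by
      rw [← map_mul, DihedralGroup.sr_mul_self, map_one]) (e.symm (DihedralGroup.r 1))
    rw [← map_mul, ← map_mul, e.symm.injective.eq_iff, DihedralGroup.r_mul_sr,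
      DihedralGroup.sr_mul_r] at hc
    have h2 : ((2 : ℕ) : ZMod n) = 0 := by
      have h3 : (0 : ZMod n) - 1 = 0 + 1 := DihedralGroup.sr.inj hc
      push_cast
      linear_combination -h3
    rw [ZMod.natCast_eq_zero_iff] at h2
    have hn2 : n = 2 := le_antisymm (Nat.le_of_dvd two_pos h2) hn
    subst hn2
    rw [← hcard, Nat.card_congr e.toEquiv, DihedralGroup.nat_card]
  · exfalso
    have hc := hcentP b (mul_self_of_order_two hb) a
    rw [show b * a * b⁻¹ = a by rw [← hc, mul_inv_cancel_right]] at hab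
    obtain ⟨m, rfl⟩ : ∃ m, n = m + 3 := ⟨n - 3, by omega⟩
    rw [show m + 3 - 1 = m + 2 from rfl] at hab
    have h4 : (1 : ℕ) ≤ 2 ^ (m + 2) - 1 := by
      have : 4 ≤ 2 ^ (m + 2) := by
        have := Nat.pow_le_pow_right (two_pos : 0 < 2) (show 2 ≤ m + 2 by omega)
        simpa using this
      omega
    obtain ⟨r, hr⟩ := Nat.exists_eq_add_of_le h4
    rw [hr, pow_add, pow_one] at hab
    have h5 : a ^ r = 1 := by
      have := (mul_left_cancel (hab.symm.trans (mul_one a).symm))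
      exact this
    have h6 := Nat.le_of_dvd (by
      have : 4 ≤ 2 ^ (m + 2) := by
        have := Nat.pow_le_pow_right (two_pos : 0 < 2) (show 2 ≤ m + 2 by omega)
        simpa using this
      omega) (orderOf_dvd_of_pow_eq_one h5)
    rw [ha] at h6
    have : 2 ^ (m + 2) ≤ 2 ^ (m + 3) := Nat.pow_le_pow_right two_pos (by omega)
    omega
  · exfalso
    have hc := hcentP t (mul_self_of_order_two ht) a
    rw [show t * a * t⁻¹ = a by rw [← hc, mul_inv_cancel_right]] at htab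
    subst htab
    rw [inf_idem, zpowers_eq_bot] at hdisj
    rw [hdisj, orderOf_one] at ha
    have := Nat.pow_le_pow_right (two_pos : 0 < 2) hn
    omega
  · exact Or.inr ⟨P, hP, hU⟩

end Bad

end CfsgLib.CentralRankOne
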