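import Cfsg.Agent.CentralRankOne.Simple

/-!
# The statement for simple groups, from the two hypotheses
-/

set_option autoImplicit false
set_option linter.unusedSectionVars false

namespace CfsgLib.CentralRankOne

open Subgroup
open CfsgLib.Criterion.Act (Core)

universe u

/-- Simple groups whose central intersections of Sylow 2-subgroups have rank at most one. -/
theorem central_intersections_row (hU : U34Simple.{u}) (hcore : Core.{u}) {G : Type u} [Group G]
    [Finite G] [IsSimpleGroup G] (hG : ¬ IsMulCommutative G)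
    (h : ∀ S T : Sylow 2 G, S ≠ T →
      ((S : Subgroup G) ⊓ (T : Subgroup G) = ⊥ ∨
        ∃ z ∈ (S : Subgroup G) ⊓ (T : Subgroup G), orderOf z = 2 ∧
          ∃ U : Sylow 2 G, z ∈ (Subgroup.center ↥(U : Subgroup G)).map (U : Subgroup G).subtype) →
      Cfsg.PRankLE 2 1 ↥((S : Subgroup G) ⊓ (T : Subgroup G))) : Five G := by
  refine simple_meets hU hcore hG fun S T hST z hz hzc => h S T hST (Or.inr ⟨z, hz, hzc.1, ?_⟩)
  obtain ⟨-, P, hzP, hc⟩ := hzc
  exact ⟨P, ⟨z, hzP⟩, mem_center_iff.2 fun s => Subtype.ext (hc s s.2), rfl⟩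

end CfsgLib.CentralRankOne
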