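import Cfsg.Agent.CentralRankOne.Center
import Cfsg.Agent.DGroup.Fusion

/-!
# The simple section of the centralizer of a bad central involution

`K = ⟨x̄^Y⟩` is one of the three families, contains the images of all central involutions of `S`
and has no other involution inside the image of `N(S)`; the normalizer of `S` in `C(z)` is
transitive on these images.
-/

set_option autoImplicit false
set_option linter.unusedSectionVars false
set_option linter.style.haveILetI false

namespace CfsgLib.CentralRankOne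

open Subgroup
open scoped Pointwise
open CfsgLib.Criterion.Act (Core)

universe u

variable {G : Type u} [Group G] [Finite G] {S : Sylow 2 G} {z : G}

theorem conj_ne_one {H : Type*} [Group H] {a g : H} (ha : a ≠ 1) : g * a * g⁻¹ ≠ 1 := fun e =>
  ha (mul_left_cancel ((mul_inv_eq_one.1 e).trans (mul_one g).symm))

namespace Bad

variable (h : Bad S z)
include h

/-- The normal closure in `Y` of the image of `x`. -/
def closureQ {x : G} (hx : x ∈ omegaCenter S) : Subgroup (Quot S z) :=
  normalClosure ({proj S z (h.lift hx)} : Set (Quot S z))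

instance closureQ_normal {x : G} (hx : x ∈ omegaCenter S) : (h.closureQ hx).Normal :=
  normalClosure_normal

theorem mem_closureQ {x : G} (hx : x ∈ omegaCenter S) : proj S z (h.lift hx) ∈ h.closureQ hx :=
  subset_normalClosure (Set.mem_singleton _)

theorem image_ne_z {y : G} {hy : y ∈ omegaCenter S} (hne : proj S z (h.lift hy) ≠ 1) :
    y ≠ 1 ∧ y ≠ z := by
  refine ⟨fun e => hne (by rw [show h.lift hy = 1 from Subtype.ext e, map_one]), fun e => hne ?_⟩
  refine (QuotientGroup.eq_one_iff _).2 fun b => ?_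
  show ((b * h.lift hy * b⁻¹ : centralizer ({z} : Set G)) : G) ∈ normalizer ((S : Subgroup G) : Set G)
  have e2 : ((b * h.lift hy * b⁻¹ : centralizer ({z} : Set G)) : G) = z := by
    show (b : G) * y * (b : G)⁻¹ = z
    rw [e, h.commute_z b, mul_inv_cancel_right]
  rw [e2]
  exact le_normalizer h.mem.1

variable (hcore : Core.{u}) (hO : Cfsg.oddCore (Quot S z) = ⊥)

include hcore in
/-- The criterion applies to the image of every central involution other than `z`. -/
theorem closureQ_se {x : G} (hx : x ∈ omegaCenter S) (hx1 : x ≠ 1) (hxz : x ≠ z) :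
    Cfsg.IsStronglyEmbedded ((normQ S z).subgroupOf (h.closureQ hx)) := by
  set xb := proj S z (h.lift hx) with hxb
  have hne : xb ≠ 1 := h.proj_ne_one (e := h.lift hx) hx.2.1 hx1 hxz
  refine Criterion.Act.stronglyEmbedded_of_core hcore h.normQ_ne_top h.normQ_core
    (Criterion.Act.setting_of_data h.normQ_ne_top (orderOf_two (h.proj_lift_two hx) hne)
      (proj_mem.2 (le_normalizer hx.1)) ⟨h.sylowQ, h.mem_sylowQ.2 ⟨h.lift hx, hx.1, rfl⟩,
        fun s hs => h.proj_lift_central hx hs⟩
      (fun g hg => h.keyQ (e := h.lift hx) hx.1 hx.2.1 hx1 hxz hg) ?_)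
  intro g hg hgne d hd
  obtain ⟨-, y, hy, e⟩ := h.isolated_or hx hx1 hxz g hg
  rw [e, mem_centralizer_singleton_iff] at hd
  have hp : proj S z (h.lift (mul_mem hx hy)) ≠ 1 := by
    rw [show h.lift (mul_mem hx hy) = h.lift hx * h.lift hy from rfl, map_mul]
    intro e1
    refine hgne ?_
    rw [e]
    exact (eq_inv_of_mul_eq_one_right e1).trans (inv_eq_of_mul_eq_one_right (h.proj_lift_two hx))
  obtain ⟨h1, h2⟩ := h.image_ne_z hp
  refine h.keyQ (e := h.lift (mul_mem hx hy)) (mul_mem hx hy).1 (mul_mem hx hy).2.1 h1 h2 ?_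
  rw [show h.lift (mul_mem hx hy) = h.lift hx * h.lift hy from rfl, map_mul, hd, mul_inv_cancel_right,
    ← map_mul]
  exact proj_mem.2 (le_normalizer (mul_mem hx hy).1)

include hO in
theorem closureQ_core {x : G} (hx : x ∈ omegaCenter S) : Cfsg.oddCore (h.closureQ hx) = ⊥ := by
  set K := h.closureQ hx
  haveI : (Cfsg.oddCore K).Characteristic := characteristic_iff_map_le.2 fun φ => by
    refine DGroup.le_oddCore (Normal.map inferInstance _ φ.surjective) ?_
    rw [card_map_of_injective (show Function.Injective φ.toMonoidHom from φ.injective)]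
    exact DGroup.odd_oddCore K
  have h1 := DGroup.le_oddCore (K := Quot S z) (N := (Cfsg.oddCore K).map K.subtype) inferInstance
    (by rw [card_map_of_injective K.subtype_injective]; exact DGroup.odd_oddCore K)
  rwa [hO, le_bot_iff, Subgroup.map_eq_bot_iff_of_injective _ K.subtype_injective] at h1

include hcore hO in
theorem closureQ_three {x : G} (hx : x ∈ omegaCenter S) (hx1 : x ≠ 1) (hxz : x ≠ z) :
    Bender.Consumers.Three ↥(h.closureQ hx) := by
  set K := h.closureQ hx with hK
  set xb := proj S z (h.lift hx) with hxb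
  have hne : xb ≠ 1 := h.proj_ne_one (e := h.lift hx) hx.2.1 hx1 hxz
  have hse := h.closureQ_se hcore hx hx1 hxz
  have hOK := h.closureQ_core hO hx
  set a : K := ⟨xb, h.mem_closureQ hx⟩
  have haH : a ∈ (normQ S z).subgroupOf K := proj_mem.2 (le_normalizer hx.1)
  have ha2 : orderOf a = 2 := orderOf_two (Subtype.ext (h.proj_lift_two hx))
    (fun e => hne (congrArg Subtype.val e))
  have hpair : Bender.PairRank K := by
    by_contra hno
    have hiso : Cfsg.IsIsolatedInvolution a := ⟨ha2, fun g hg => by_contra fun hgne =>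
      hno ⟨a, g * a * g⁻¹, ha2, by rw [Invol.orderOf_conj_eq, ha2], Ne.symm hgne, hg⟩⟩
    obtain ⟨N, hN, hodd, hc⟩ := ZStar.zstar hiso
    have hN1 : N = ⊥ := le_bot_iff.1 (hOK ▸ DGroup.le_oddCore hN hodd)
    refine hse.1 (eq_top_iff.2 fun g _ => StrongEmbed.mem_of_commute hse haH ha2 ?_)
    have h1 := hc g
    rw [hN1, mem_bot, mul_inv_eq_one, mul_inv_eq_iff_eq_mul] at h1
    exact h1.symm
  have hP := Bender.Consumers.closure_three Bender.Consumers.structure_all hse hpair
  let π := QuotientGroup.mk' (Cfsg.oddCore K)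
  have htop : Cfsg.pElementClosure 2 (⊤ : Subgroup (K ⧸ Cfsg.oddCore K)) = ⊤ := by
    refine eq_top_iff.2 fun q _ => ?_
    obtain ⟨k, rfl⟩ := QuotientGroup.mk'_surjective _ q
    have hle : K ≤ ((Cfsg.pElementClosure 2 (⊤ : Subgroup (K ⧸ Cfsg.oddCore K))).comap π).map
        K.subtype := by
      show normalClosure _ ≤ _
      refine (closure_le _).2 fun w hw => ?_
      obtain ⟨a', ha', hw'⟩ := Group.mem_conjugatesOfSet_iff.1 hw
      rw [Set.mem_singleton_iff] at ha'
      subst ha'
      obtain ⟨g, rfl⟩ := isConj_iff.1 hw'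
      refine ⟨⟨_, (inferInstance : K.Normal).conj_mem _ (h.mem_closureQ hx) g⟩, ?_, rfl⟩
      refine subset_closure ⟨mem_top _, ?_⟩
      set w' : K := ⟨_, (inferInstance : K.Normal).conj_mem _ (h.mem_closureQ hx) g⟩
      have hw2 : π w' ^ 2 ^ 1 = 1 := by
        rw [← map_pow, show w' ^ 2 ^ 1 = 1 from Subtype.ext (by
          show (g * xb * g⁻¹) ^ 2 ^ 1 = 1
          rw [conj_pow, pow_one, sq, h.proj_lift_two hx, mul_one, mul_inv_cancel]), map_one]
      obtain ⟨i, -, hi⟩ := (Nat.dvd_prime_pow Nat.prime_two).1 (orderOf_dvd_of_pow_eq_one hw2)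
      exact ⟨i, hi⟩
    obtain ⟨k', hk', e⟩ := hle k.2
    rw [K.subtype_injective e] at hk'
    exact hk'
  let e : K ≃* K ⧸ Cfsg.oddCore K :=
    (QuotientGroup.quotientBot.symm).trans (QuotientGroup.quotientMulEquivOfEq hOK.symm)
  exact hP.congr ((e.trans Subgroup.topEquiv.symm).trans (MulEquiv.subgroupCongr htop.symm))

include hcore hO in
/-- All central involutions of `S` other than `z` have the same normal closure in `Y`. -/
theorem closureQ_eq {x v : G} (hx : x ∈ omegaCenter S) (hx1 : x ≠ 1) (hxz : x ≠ z)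
    (hv : v ∈ omegaCenter S) (hv1 : v ≠ 1) (hvz : v ≠ z) : h.closureQ hv = h.closureQ hx := by
  haveI := (h.closureQ_three hcore hO hx hx1 hxz).isSimpleGroup
  haveI := (h.closureQ_three hcore hO hv hv1 hvz).isSimpleGroup
  set K := h.closureQ hx
  set L := h.closureQ hv
  by_cases hd : K ⊓ L = ⊥
  · exfalso
    have hvc : ∀ k ∈ K, Commute k (proj S z (h.lift hv)) := fun k hk =>
      Subgroup.commute_of_normal_of_disjoint K L inferInstance inferInstance (disjoint_iff.2 hd) k _ hk
        (h.mem_closureQ hv)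
    refine (h.closureQ_se hcore hx hx1 hxz).1 (subgroupOf_eq_top.2 fun k hk => ?_)
    refine h.keyQ (e := h.lift hv) hv.1 hv.2.1 hv1 hvz ?_
    rw [(hvc k hk).eq, mul_inv_cancel_right]
    exact proj_mem.2 (le_normalizer hv.1)
  · have hle : ∀ A B : Subgroup (Quot S z), A.Normal → B.Normal → IsSimpleGroup A → A ⊓ B ≠ ⊥ →
        A ≤ B := by
      intro A B hA hB hs hne
      haveI := hA
      haveI := hB
      rcases IsSimpleGroup.eq_bot_or_eq_top_of_normal (B.subgroupOf A) inferInstance with h1 | h1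
      · exact absurd (by rwa [subgroupOf_eq_bot, disjoint_iff, inf_comm] at h1) hne
      · exact subgroupOf_eq_top.1 h1
    exact le_antisymm (hle L K inferInstance inferInstance inferInstance (by rwa [inf_comm]))
      (hle K L inferInstance inferInstance inferInstance hd)

include hcore hO in
theorem mem_closureQ' {x v : G} (hx : x ∈ omegaCenter S) (hx1 : x ≠ 1) (hxz : x ≠ z)
    (hv : v ∈ omegaCenter S) : proj S z (h.lift hv) ∈ h.closureQ hx := by
  by_cases h1 : proj S z (h.lift hv) = 1
  · rw [h1]; exact one_mem _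
  obtain ⟨hv1, hvz⟩ := h.image_ne_z h1
  exact h.closureQ_eq hcore hO hx hx1 hxz hv hv1 hvz ▸ h.mem_closureQ hv

include hcore hO in
/-- The involutions of `K` in the image of `N(S)` are images of central involutions. -/
theorem invol_eq {x : G} (hx : x ∈ omegaCenter S) (hx1 : x ≠ 1) (hxz : x ≠ z) {g : Quot S z}
    (hgK : g ∈ h.closureQ hx) (hgN : g ∈ normQ S z) (hg : g * g = 1) :
    ∃ v, ∃ hv : v ∈ omegaCenter S, proj S z (h.lift hv) = g := by
  by_cases hg1 : g = 1
  · exact ⟨1, one_mem _, by rw [show h.lift (one_mem (omegaCenter S)) = 1 from rfl, map_one, hg1]⟩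
  have hne : proj S z (h.lift hx) ≠ 1 := h.proj_ne_one (e := h.lift hx) hx.2.1 hx1 hxz
  obtain ⟨k, hk⟩ := isConj_iff.1 (StrongEmbed.isConj_of_invols (h.closureQ_se hcore hx hx1 hxz)
    (a := (⟨_, h.mem_closureQ hx⟩ : h.closureQ hx)) (b := ⟨g, hgK⟩)
    (orderOf_two (Subtype.ext (h.proj_lift_two hx)) fun e => hne (congrArg Subtype.val e))
    (orderOf_two (Subtype.ext hg) fun e => hg1 (congrArg Subtype.val e)))
  have hk' : (k : Quot S z) * proj S z (h.lift hx) * (k : Quot S z)⁻¹ = g := congrArg Subtype.val hk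
  have hkN := h.keyQ (e := h.lift hx) hx.1 hx.2.1 hx1 hxz (g := k) (hk'.symm ▸ hgN)
  obtain ⟨c, hc⟩ := proj_surjective (k : Quot S z)
  rw [← hc] at hk' hkN
  refine ⟨_, normalizer_conj_mem (proj_mem.1 hkN) hx, ?_⟩
  rw [← hk', ← map_inv, ← map_mul, ← map_mul]
  rfl

include hcore hO in
/-- The normalizer of `S` in `C(z)` is transitive on the images. -/
theorem exists_conj {v w : G} (hv : v ∈ omegaCenter S) (hv1 : v ≠ 1) (hvz : v ≠ z)
    (hw : w ∈ omegaCenter S) (hw1 : w ≠ 1) (hwz : w ≠ z) :
    ∃ n ∈ normalizer ((S : Subgroup G) : Set G),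
      n * z * n⁻¹ = z ∧ (n * v * n⁻¹ = w ∨ n * v * n⁻¹ = w * z) := by
  have hne : proj S z (h.lift hv) ≠ 1 := h.proj_ne_one (e := h.lift hv) hv.2.1 hv1 hvz
  have hne' : proj S z (h.lift hw) ≠ 1 := h.proj_ne_one (e := h.lift hw) hw.2.1 hw1 hwz
  obtain ⟨k, hk⟩ := isConj_iff.1 (StrongEmbed.isConj_of_invols (h.closureQ_se hcore hv hv1 hvz)
    (a := (⟨_, h.mem_closureQ hv⟩ : h.closureQ hv))
    (b := ⟨_, h.mem_closureQ' hcore hO hv hv1 hvz hw⟩)
    (orderOf_two (Subtype.ext (h.proj_lift_two hv)) fun e => hne (congrArg Subtype.val e))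
    (orderOf_two (Subtype.ext (h.proj_lift_two hw)) fun e => hne' (congrArg Subtype.val e)))
  have hk' : (k : Quot S z) * proj S z (h.lift hv) * (k : Quot S z)⁻¹ = proj S z (h.lift hw) :=
    congrArg Subtype.val hk
  have hkN := h.keyQ (e := h.lift hv) hv.1 hv.2.1 hv1 hvz (g := k)
    (hk'.symm ▸ proj_mem.2 (le_normalizer hw.1))
  obtain ⟨c, hc⟩ := proj_surjective (k : Quot S z)
  rw [← hc] at hk' hkN
  have hn := proj_mem.1 hkN
  have hconj := normalizer_conj_mem hn hv
  refine ⟨c, hn, by rw [h.commute_z c, mul_inv_cancel_right], ?_⟩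
  exact h.proj_eq (e := h.lift hw) (e' := c * h.lift hv * c⁻¹) hw.2.1
    (by exact hconj.2.1) (by exact (commute_omegaCenter hconj hw.1))
    (by rw [← hk', ← map_inv, ← map_mul, ← map_mul])

end Bad

end CfsgLib.CentralRankOne
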