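import Cfsg.Agent.CentralRankOne.Section
import Cfsg.Agent.CentralRankOne.OddOrbit

/-!
# The normalizer of `S` is transitive on eight central involutions

In a simple group a bad central involution forces `|Ω₁(Z(S))| = 8`, all of whose involutions are
then bad.
-/

set_option autoImplicit false
set_option linter.unusedSectionVars false
set_option linter.style.haveILetI false

namespace CfsgLib.CentralRankOne

open Subgroup
open CfsgLib.Criterion.Act (Core)

universe u

variable {G : Type u} [Group G] [Finite G] (S : Sylow 2 G)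

/-- The automorphism of `omegaCenter S` induced by an element of `N(S)`. -/
def centerAut : ↥(normalizer ((S : Subgroup G) : Set G)) →* MulAut (omegaCenter S) where
  toFun n :=
    { toFun := fun x => ⟨(n : G) * x * (n : G)⁻¹, normalizer_conj_mem n.2 x.2⟩
      invFun := fun x => ⟨(n : G)⁻¹ * x * n, by
        have := normalizer_conj_mem (inv_mem n.2) x.2
        rwa [inv_inv] at this⟩
      left_inv := fun x => Subtype.ext (show (n : G)⁻¹ * ((n : G) * x * (n : G)⁻¹) * n = x by group)
      right_inv := fun x => Subtype.ext (show (n : G) * ((n : G)⁻¹ * x * n) * (n : G)⁻¹ = x by group)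
      map_mul' := fun x y => Subtype.ext (by
        show (n : G) * (x * y) * (n : G)⁻¹ = (n : G) * x * (n : G)⁻¹ * ((n : G) * y * (n : G)⁻¹)
        group) }
  map_one' := MulEquiv.ext fun x => Subtype.ext (show (1 : G) * x * (1 : G)⁻¹ = x by group)
  map_mul' n m := MulEquiv.ext fun x => Subtype.ext (by
    show (n : G) * m * x * ((n : G) * m)⁻¹ = (n : G) * ((m : G) * x * (m : G)⁻¹) * (n : G)⁻¹
    group)

theorem odd_range_centerAut : Odd (Nat.card (centerAut S).range) := by
  haveI : Fact (Nat.Prime 2) := ⟨Nat.prime_two⟩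
  set N := normalizer ((S : Subgroup G) : Set G) with hN
  have hker : (S : Subgroup G).subgroupOf N ≤ (centerAut S).ker := fun s hs =>
    MonoidHom.mem_ker.2 (MulEquiv.ext fun x => Subtype.ext (by
      show (s : G) * x * (s : G)⁻¹ = x
      rw [commute_omegaCenter x.2 (show (s : G) ∈ (S : Subgroup G) from hs), mul_inv_cancel_right]))
  have hidx : Odd ((S : Subgroup G).subgroupOf N).index := by
    rw [Nat.odd_iff, ← Nat.two_dvd_ne_zero]
    exact fun h => S.not_dvd_index (h.trans (relIndex_dvd_index_of_le le_normalizer))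
  rw [← index_ker]
  exact hidx.of_dvd_nat (index_dvd_of_le hker)

variable {S} {z : G}

/-- In a simple group `N(S)` is transitive on the eight elements. -/
theorem Bad.transitive [IsSimpleGroup G] (h : Bad S z) (hG : ¬ IsMulCommutative G)
    (hcore : Core.{u}) (hO : Cfsg.oddCore (Quot S z) = ⊥) {x y : G} (hx : x ∈ omegaCenter S)
    (hx1 : x ≠ 1) (hxz : x ≠ z) (hy : y ∈ omegaCenter S) (hy1 : y ≠ 1) (hyz : y ≠ z) (hyx : y ≠ x)
    (hyxz : y ≠ x * z) :
    Nat.card (omegaCenter S) = 8 ∧ ∀ w ∈ omegaCenter S, w ≠ 1 →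
      ∃ n ∈ normalizer ((S : Subgroup G) : Set G), n * z * n⁻¹ = w := by
  classical
  set W := omegaCenter S with hW
  letI : CommGroup W :=
    { (inferInstance : Group W) with
      mul_comm := fun a b => Subtype.ext (commute_omegaCenter b.2 (omegaCenter_le a.2)) }
  have hexp : ∀ a : W, a * a = 1 := fun a => Subtype.ext a.2.2.1
  rcases odd_orbit (A := (centerAut S).range) (odd_range_centerAut S) (z := (⟨z, h.mem⟩ : W))
      (fun e => h.ne (congrArg Subtype.val e)) hexp (fun v w hv1 hvz hw1 hwz => by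
    obtain ⟨n, hn, hnz, hnv⟩ := h.exists_conj hcore hO v.2 (fun e => hv1 (Subtype.ext e))
      (fun e => hvz (Subtype.ext e)) w.2 (fun e => hw1 (Subtype.ext e)) (fun e => hwz (Subtype.ext e))
    exact ⟨centerAut S ⟨n, hn⟩, ⟨⟨n, hn⟩, rfl⟩, Subtype.ext hnz,
      hnv.imp (fun e => Subtype.ext e) (fun e => Subtype.ext e)⟩) with hfix | ⟨h8, htr⟩
  · exfalso
    obtain ⟨N, hN, hodd, hc⟩ := ZStar.zstar_of_sylow S h.central2.1 fun g hg => by
      obtain ⟨n, hn, c, hc, rfl⟩ := exists_normalizer_mul h.meets h.mem h.ne hg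
      have h1 : n * z * n⁻¹ = z := congrArg Subtype.val (hfix _ ⟨⟨n, hn⟩, rfl⟩)
      calc n * c * z * (n * c)⁻¹ = n * (c * z) * c⁻¹ * n⁻¹ := by group
        _ = n * (z * c) * c⁻¹ * n⁻¹ := by rw [hc]
        _ = z := by rw [← mul_assoc, mul_inv_cancel_right, h1]
    rcases hN.eq_bot_or_eq_top with e | e
    · refine h.bad fun c _ => absurd ?_ (Criterion.Consumers.centralizer_ne_top hG h.ne)
      refine eq_top_iff.2 fun g _ => mem_centralizer_singleton_iff.2 ?_
      have h1 := hc g
      rw [e, mem_bot, mul_inv_eq_one, mul_inv_eq_iff_eq_mul] at h1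
      exact h1.symm
    · have h2 : Odd (Nat.card G) := by rwa [e, card_top] at hodd
      exact Nat.not_even_iff_odd.2 h2 (BenderLocal.even_card_simple hG)
  refine ⟨le_antisymm h8 ?_, fun w hw hw1 => ?_⟩
  · haveI : Fact (Nat.Prime 2) := ⟨Nat.prime_two⟩
    obtain ⟨m, hm⟩ := IsPGroup.iff_card.1 (show IsPGroup 2 W from fun a => ⟨1, by
      rw [pow_one, sq]; exact hexp a⟩)
    have h5 : 4 < Nat.card W := by
      have hxz1 : x * z ≠ 1 := fun e => hxz
        ((eq_inv_of_mul_eq_one_left e).trans (inv_eq_of_mul_eq_one_right h.two))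
      have hxzx : x * z ≠ x := fun e => h.ne (mul_left_cancel (e.trans (mul_one x).symm))
      have hxzz : x * z ≠ z := fun e => hx1 (mul_right_cancel (e.trans (one_mul z).symm))
      have h6 : ({1, z, x, x * z, y} : Set G).ncard ≤ (W : Set G).ncard := by
        refine Set.ncard_le_ncard ?_ (Set.toFinite _)
        rintro a (rfl | rfl | rfl | rfl | rfl)
        exacts [one_mem W, h.mem, hx, mul_mem hx h.mem, hy]
      rw [Set.ncard_insert_of_notMem (by simp [Ne.symm h.ne, Ne.symm hx1, Ne.symm hxz1, Ne.symm hy1]),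
        Set.ncard_insert_of_notMem (by simp [Ne.symm hxz, Ne.symm hxzz, Ne.symm hyz]),
        Set.ncard_insert_of_notMem (by simp [Ne.symm hxzx, Ne.symm hyx]),
        Set.ncard_insert_of_notMem (by simp [Ne.symm hyxz]), Set.ncard_singleton] at h6
      have h7 : (W : Set G).ncard = Nat.card W := (Nat.card_coe_set_eq _).symm
      omega
    rw [hm] at h5 ⊢
    have : 3 ≤ m := by
      by_contra hlt
      have := Nat.pow_le_pow_right (two_pos : 0 < 2) (show m ≤ 2 by omega)
      omega
    exact le_trans (by norm_num) (Nat.pow_le_pow_right two_pos this)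
  · obtain ⟨a, ⟨n, rfl⟩, ha⟩ := htr ⟨w, hw⟩ fun e => hw1 (congrArg Subtype.val e)
    exact ⟨n, n.2, congrArg Subtype.val ha⟩

/-- Conjugates of bad involutions by `N(S)` are bad. -/
theorem Bad.conj (h : Bad S z) {n : G} (hn : n ∈ normalizer ((S : Subgroup G) : Set G)) :
    Bad S (n * z * n⁻¹) := by
  refine ⟨h.meets, normalizer_conj_mem hn h.mem, conj_ne_one h.ne, fun hle => h.bad fun c hc => ?_⟩
  have hc' := mem_centralizer_singleton_iff.1 hc
  have h1 := hle (show n * c * n⁻¹ ∈ _ from mem_centralizer_singleton_iff.2 (by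
    calc n * c * n⁻¹ * (n * z * n⁻¹) = n * (c * z) * n⁻¹ := by group
      _ = n * (z * c) * n⁻¹ := by rw [hc']
      _ = n * z * n⁻¹ * (n * c * n⁻¹) := by group))
  have := mul_mem (mul_mem (inv_mem hn) h1) hn
  rwa [show n⁻¹ * (n * c * n⁻¹) * n = c by group] at this

end CfsgLib.CentralRankOne
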