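import Cfsg.Agent.CentralRankOne.Unitary
import Cfsg.Agent.S0486

/-!
# The characterisation of `PSU₃(4)` by its Sylow 2-subgroup
-/

set_option autoImplicit false

namespace CfsgLib.CentralRankOne

universe u

/-- The hypothesis `U34Simple` holds. -/
theorem u34_simple : U34Simple.{u} :=
  fun _ _ _ _ _ _ _ hF S P h => Cfsg.Agent.S0486.result hF S P h

end CfsgLib.CentralRankOne
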